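import Groth.Agent.QSplit86.OddHd

/-!
# Base change of forms in coordinates
-/

set_option autoImplicit false
universe u v

namespace QSplit86

open Matrix TensorProduct

variable {R : Type u} [CommRing R] {M : Type v} [AddCommGroup M] [Module R M] [Module.Free R M]

theorem baseChangeForm_sum (A : Type*) [CommRing A] [Algebra R A] {ι : Type*} [Fintype ι]
    (b : Module.Basis ι R M) (Q : QuadraticForm R M) (a : Matrix ι ι R)
    (ha : ∀ x, qf a x = Q (∑ i, x i • b i)) (x : ι → A) :
    QuadGrp.baseChangeForm A Q (∑ i, x i ⊗ₜ[R] b i) = qf (a.map (algebraMap R A)) x := by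
  let β := QuadGrp.bilinLift Q
  let c : Matrix ι ι R := Matrix.of fun i j => β (b i) (b j)
  have hc : ∀ y, qf a y = qf c y := fun y => by
    rw [ha, ← QuadGrp.bilinLift_spec Q, LinearMap.BilinMap.toQuadraticMap_apply]
    simp only [qf, dotProduct, Matrix.mulVec, map_sum, map_smul, LinearMap.sum_apply, LinearMap.smul_apply,
      smul_eq_mul, Finset.mul_sum, c, Matrix.of_apply, β]
    rw [Finset.sum_comm]
    exact Finset.sum_congr rfl fun k _ => Finset.sum_congr rfl fun l _ => by ring
  rw [qf_congr_map (algebraMap R A) a c hc x]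
  show (AlgebraTensorModule.rid R A A) (((QuadGrp.bilinLift Q).baseChange A).toQuadraticMap _) = _
  rw [LinearMap.BilinMap.toQuadraticMap_apply]
  simp only [map_sum, LinearMap.sum_apply, LinearMap.BilinMap.baseChange_tmul, AlgebraTensorModule.rid_tmul,
    qf, dotProduct, Matrix.mulVec, Finset.mul_sum, c, Matrix.of_apply, Matrix.map_apply, β,
    Algebra.smul_def]
  rw [Finset.sum_comm]
  exact Finset.sum_congr rfl fun k _ => Finset.sum_congr rfl fun l _ => by ring

theorem baseChangeForm_basis (A : Type*) [CommRing A] [Algebra R A] {ι : Type*} [Fintype ι]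
    (b : Module.Basis ι R M) (Q : QuadraticForm R M) (a : Matrix ι ι R)
    (ha : ∀ x, qf a x = Q (∑ i, x i • b i)) (z : A ⊗[R] M) :
    QuadGrp.baseChangeForm A Q z = qf (a.map (algebraMap R A)) ((Algebra.TensorProduct.basis A b).equivFun z) := by
  conv_lhs => rw [← (Algebra.TensorProduct.basis A b).sum_equivFun z]
  rw [← baseChangeForm_sum A b Q a ha]
  congr 1
  refine Finset.sum_congr rfl fun i _ => ?_
  rw [Algebra.TensorProduct.basis_apply, TensorProduct.smul_tmul', smul_eq_mul, mul_one]

/-- The positions of the standard split form: the square, then the consecutive pairs. -/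
def se (m : ℕ) : Option (I m) → Fin (2 * m + 1)
  | none => ⟨0, by omega⟩
  | some (.inl i) => ⟨2 * i.val + 1, by omega⟩
  | some (.inr i) => ⟨2 * i.val + 2, by omega⟩

theorem se_bijective (m : ℕ) : Function.Bijective (se m) := by
  rw [Fintype.bijective_iff_injective_and_card]
  refine ⟨?_, by simp; omega⟩
  intro x y h
  rcases x with _ | (i | i) <;> rcases y with _ | (j | j) <;> simp only [se, Fin.ext_iff] at h
  · rfl
  all_goals first
    | omega
    | (rw [Fin.ext (show i.val = j.val by omega)])

/-- The positions as an equivalence. -/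
noncomputable def seEquiv (m : ℕ) : Option (I m) ≃ Fin (2 * m + 1) := Equiv.ofBijective _ (se_bijective m)

/-- The matrix of the standard odd split form. -/
noncomputable def splitMat (R : Type*) [CommRing R] (m : ℕ) : Matrix (Fin (2 * m + 1)) (Fin (2 * m + 1)) R :=
  Matrix.of fun r c => match (seEquiv m).symm r, (seEquiv m).symm c with
    | none, none => 1
    | some (.inl i), some (.inr j) => if i = j then 1 else 0
    | _, _ => 0

theorem qf_splitMat (S : Type*) [CommRing S] (m : ℕ) (x : Fin (2 * m + 1) → S) :
    qf (splitMat S m) x = x (se m none) ^ 2 + hyp (fun j => x (se m (some j))) := by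
  simp only [qf, dotProduct, Matrix.mulVec]
  rw [← (seEquiv m).sum_comp]
  conv_lhs => enter [2, o]; rw [← (seEquiv m).sum_comp]
  simp only [Fintype.sum_option,
    Fintype.sum_sum_type, splitMat, Matrix.of_apply, Equiv.symm_apply_apply]
  simp only [show ∀ o, seEquiv m o = se m o from fun o => rfl, hyp]
  simp [sq, ite_mul, mul_ite]

theorem splitMat_map {S T : Type*} [CommRing S] [CommRing T] (f : S →+* T) (m : ℕ) :
    (splitMat S m).map f = splitMat T m := by
  ext r c
  simp only [splitMat, Matrix.map_apply, Matrix.of_apply]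
  rcases (seEquiv m).symm r with _ | (i | i) <;> rcases (seEquiv m).symm c with _ | (j | j) <;>
    simp [apply_ite f]

theorem splitForm_eq (R : Type u) [CommRing R] (m : ℕ) (x : Fin (2 * m + 1) → R) :
    QuadGrp.splitForm R (2 * m + 1) x = x (se m none) ^ 2 + hyp (fun j => x (se m (some j))) := by
  have h1 : (2 * m + 1) % 2 = 1 := by omega
  simp only [QuadGrp.splitForm, h1, dif_pos, QuadraticMap.add_apply, _root_.sum_apply,
    QuadraticMap.linMulLin_apply, QuadraticMap.comp_apply, QuadraticMap.sq_apply, LinearMap.proj_apply]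
  rw [add_comm, sq]
  congr 1
  refine Fintype.sum_equiv (finCongr (by omega)) _ _ fun i => ?_
  congr 1

end QSplit86
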