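import Mathlib

/-!
# Étale-local splitting of regular quadratic forms of even rank

A quadratic form is recorded by a square matrix `a` (`x ↦ x ⬝ᵥ a *ᵥ x`); it is regular when
`a + aᵀ` has unit determinant.
-/

set_option autoImplicit false
universe u

namespace QSplit86

open Matrix

section Algebra

variable {ι κ : Type*} [Fintype ι] [Fintype κ] {A B : Type*} [CommRing A] [CommRing B]

/-- The quadratic form of a matrix. -/
def qf (a : Matrix ι ι A) (x : ι → A) : A := x ⬝ᵥ a *ᵥ x

/-- The polar form of a matrix. -/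
def bl (a : Matrix ι ι A) (x y : ι → A) : A := x ⬝ᵥ (a + aᵀ) *ᵥ y

theorem bl_eq (a : Matrix ι ι A) (x y : ι → A) : bl a x y = x ⬝ᵥ a *ᵥ y + y ⬝ᵥ a *ᵥ x := by
  rw [bl, Matrix.add_mulVec, dotProduct_add, Matrix.mulVec_transpose, dotProduct_comm x (y ᵥ* a),
    ← Matrix.dotProduct_mulVec]

theorem bl_comm (a : Matrix ι ι A) (x y : ι → A) : bl a x y = bl a y x := by
  rw [bl_eq, bl_eq, add_comm]

theorem bl_self (a : Matrix ι ι A) (x : ι → A) : bl a x x = 2 * qf a x := by
  rw [bl_eq, qf]; ring

theorem bl_add_left (a : Matrix ι ι A) (x y z : ι → A) : bl a (x + y) z = bl a x z + bl a y z := by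
  simp [bl, add_dotProduct]

theorem bl_add_right (a : Matrix ι ι A) (x y z : ι → A) : bl a x (y + z) = bl a x y + bl a x z := by
  simp [bl, Matrix.mulVec_add, dotProduct_add]

theorem bl_smul_left (a : Matrix ι ι A) (c : A) (x y : ι → A) : bl a (c • x) y = c * bl a x y := by
  simp [bl, smul_dotProduct]

theorem bl_smul_right (a : Matrix ι ι A) (c : A) (x y : ι → A) : bl a x (c • y) = c * bl a x y := by
  simp [bl, Matrix.mulVec_smul, dotProduct_smul]

theorem bl_sub_right (a : Matrix ι ι A) (x y z : ι → A) : bl a x (y - z) = bl a x y - bl a x z := by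
  simp [bl, Matrix.mulVec_sub, dotProduct_sub]

theorem qf_add (a : Matrix ι ι A) (x y : ι → A) : qf a (x + y) = qf a x + qf a y + bl a x y := by
  rw [bl_eq]
  simp only [qf, Matrix.mulVec_add, dotProduct_add, add_dotProduct]
  ring

theorem qf_smul (a : Matrix ι ι A) (c : A) (x : ι → A) : qf a (c • x) = c ^ 2 * qf a x := by
  simp [qf, Matrix.mulVec_smul, dotProduct_smul, smul_dotProduct]; ring

theorem qf_mulVec (a : Matrix ι ι A) (g : Matrix ι κ A) (x : κ → A) :
    qf a (g *ᵥ x) = qf (gᵀ * a * g) x := by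
  rw [qf, qf, ← Matrix.mulVec_mulVec, ← Matrix.mulVec_mulVec, Matrix.dotProduct_mulVec x gᵀ,
    Matrix.vecMul_transpose]

theorem map_qf (f : A →+* B) (a : Matrix ι ι A) (x : ι → A) :
    f (qf a x) = qf (a.map f) (f ∘ x) := by
  rw [qf, qf, RingHom.map_dotProduct]
  congr 1
  funext i
  exact RingHom.map_mulVec f a x i

theorem map_bl (f : A →+* B) (a : Matrix ι ι A) (x y : ι → A) :
    f (bl a x y) = bl (a.map f) (f ∘ x) (f ∘ y) := by
  rw [bl, bl, RingHom.map_dotProduct, ← Matrix.transpose_map, ← Matrix.map_add f (map_add f)]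
  congr 1
  funext i
  exact RingHom.map_mulVec f (a + aᵀ) y i

theorem isUnit_det_map [DecidableEq ι] (f : A →+* B) {a : Matrix ι ι A}
    (h : IsUnit (a + aᵀ).det) : IsUnit ((a.map f) + (a.map f)ᵀ).det := by
  rw [← Matrix.transpose_map, ← Matrix.map_add f (map_add f), ← RingHom.mapMatrix_apply,
    ← RingHom.map_det]
  exact h.map f

end Algebra

/-- The index type. -/
abbrev I (m : ℕ) := Fin m ⊕ Fin m

/-- The split form. -/
def hyp {A : Type*} [CommRing A] {m : ℕ} (x : I m → A) : A := ∑ j, x (.inl j) * x (.inr j)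

/-- Existence of two vectors spanning a regular plane. -/
theorem exists_disc_ne {A K : Type*} [CommRing A] [Field K] {ι : Type*} [Fintype ι] [DecidableEq ι]
    [Nontrivial ι] (φ : A →+* K) (a : Matrix ι ι A) (ha : IsUnit (a + aᵀ).det) :
    ∃ x y, φ (bl a x y ^ 2 - 4 * qf a x * qf a y) ≠ 0 := by
  by_contra h
  push Not at h
  set b := a.map φ with hb
  have hdet : (b + bᵀ).det ≠ 0 := (isUnit_det_map φ ha).ne_zero
  let e : ι → ι → K := fun i => Pi.single i 1
  have he : ∀ i, ⇑φ ∘ (Pi.single i 1 : ι → A) = e i := fun i => by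
    funext r; simp [e, Pi.single_apply, apply_ite φ]
  have H : ∀ x y : ι → A, bl b (φ ∘ x) (φ ∘ y) ^ 2 = 4 * qf b (φ ∘ x) * qf b (φ ∘ y) := fun x y => by
    have := h x y
    rw [map_sub, map_pow, map_mul, map_mul, map_bl, map_qf, map_qf, map_ofNat, sub_eq_zero] at this
    exact this
  have Hee : ∀ i j, bl b (e i) (e j) ^ 2 = 4 * qf b (e i) * qf b (e j) := fun i j => by
    rw [← he, ← he]; exact H _ _
  have hent : ∀ i j, bl b (e i) (e j) = (b + bᵀ) i j := fun i j => by
    simp [bl, e]
  obtain ⟨i, hi⟩ : ∃ i, (2 : K) * qf b (e i) ≠ 0 := by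
    by_contra h0
    push Not at h0
    obtain ⟨i⟩ := (inferInstance : Nonempty ι)
    refine hdet (Matrix.det_eq_zero_of_row_eq_zero i fun j => ?_)
    rw [← hent, ← sq_eq_zero_iff, Hee]
    linear_combination (2 * qf b (e j)) * h0 i
  have hpol : ∀ j k, 2 * qf b (e i) * bl b (e j) (e k) = bl b (e i) (e j) * bl b (e i) (e k) := by
    intro j k
    have h1 := H (Pi.single i 1) (Pi.single j 1 + Pi.single k 1)
    have h' : ⇑φ ∘ (Pi.single j 1 + Pi.single k 1 : ι → A) = e j + e k := by
      rw [← he, ← he]; funext r; simp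
    rw [h', he, bl_add_right, qf_add] at h1
    have h2 : (2 : K) ≠ 0 := left_ne_zero_of_mul hi
    apply mul_left_cancel₀ h2
    linear_combination Hee i j + Hee i k - h1
  obtain ⟨j, hj⟩ := exists_ne i
  refine hdet (Matrix.exists_mulVec_eq_zero_iff.1
    ⟨(2 * qf b (e i)) • e j - bl b (e i) (e j) • e i, fun h0 => hi ?_, ?_⟩)
  · simpa [e, hj] using congrFun h0 j
  · funext k
    have : bl b (e k) ((2 * qf b (e i)) • e j - bl b (e i) (e j) • e i) = 0 := by
      rw [bl_sub_right, bl_smul_right, bl_smul_right, bl_comm b (e k), bl_comm b (e k)]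
      linear_combination hpol j k
    simpa [bl, e] using this

open Polynomial in
/-- A hyperbolic pair, after an étale extension through a given geometric point. -/
theorem exists_pair {A : Type u} [CommRing A] {K : Type u} [Field K] [IsAlgClosed K]
    {ι : Type} [Fintype ι] [DecidableEq ι] [Nontrivial ι]
    (φ : A →+* K) (a : Matrix ι ι A) (ha : IsUnit (a + aᵀ).det) :
    ∃ (B : Type u) (_ : CommRing B) (_ : Algebra A B) (ψ : B →+* K) (e v : ι → B),
      Algebra.Etale A B ∧ ψ.comp (algebraMap A B) = φ ∧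
      qf (a.map (algebraMap A B)) e = 0 ∧ qf (a.map (algebraMap A B)) v = 0 ∧
      bl (a.map (algebraMap A B)) e v = 1 := by
  obtain ⟨x, y, hne, hqx⟩ : ∃ x y, φ (bl a x y ^ 2 - 4 * qf a x * qf a y) ≠ 0 ∧ φ (qf a x) ≠ 0 := by
    obtain ⟨x, y, h⟩ := exists_disc_ne φ a ha
    by_cases hx : φ (qf a x) = 0
    · by_cases hy : φ (qf a y) = 0
      · refine ⟨x + y, y, ?_, ?_⟩
        · convert h using 2
          rw [qf_add, bl_add_left, bl_self]; ring
        · rw [qf_add, map_add, map_add, hx, hy, zero_add, zero_add]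
          intro hb
          exact h (by rw [map_sub, map_pow, map_mul, map_mul, hb, hx]; simp)
      · refine ⟨y, x, ?_, hy⟩
        convert h using 2
        rw [bl_comm]; ring
    · exact ⟨x, y, h, hx⟩
  let s : A := qf a x * (bl a x y ^ 2 - 4 * qf a x * qf a y)
  have hs : IsUnit (φ s) := isUnit_iff_ne_zero.2 (by rw [map_mul]; exact mul_ne_zero hqx hne)
  let As := Localization.Away s
  let al := algebraMap A As
  let φs : As →+* K := IsLocalization.Away.lift s hs
  have hφs : φs.comp al = φ := IsLocalization.Away.lift_comp s hs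
  have hsu : IsUnit (al s) := IsLocalization.Away.algebraMap_isUnit s
  obtain ⟨hq, hd⟩ := isUnit_of_mul_isUnit_left (by rw [← map_mul]; exact hsu : IsUnit (al (qf a x) * al (bl a x y ^ 2 - 4 * qf a x * qf a y))), isUnit_of_mul_isUnit_right (by rw [← map_mul]; exact hsu : IsUnit (al (qf a x) * al (bl a x y ^ 2 - 4 * qf a x * qf a y)))
  let r : As := ↑hq.unit⁻¹
  have hr : r * al (qf a x) = 1 := hq.val_inv_mul
  let b : As := r * al (bl a x y)
  let c : As := r * al (qf a y)
  have hdisc : IsUnit (b ^ 2 - 4 * c) := by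
    have : b ^ 2 - 4 * c = r ^ 2 * al (bl a x y ^ 2 - 4 * qf a x * qf a y) := by
      simp only [b, c, map_sub, map_pow, map_mul, map_ofNat]
      linear_combination (4 * r * al (qf a y)) * hr
    rw [this]
    exact ((Units.isUnit _).pow 2).mul hd
  let P : StandardEtalePair As :=
    { f := X ^ 2 + C b * X + C c
      monic_f := by monicity!
      g := 1
      cond := ⟨(C (2 : As) * X + C b) * C (↑hdisc.unit⁻¹ : As), -4 * C (↑hdisc.unit⁻¹ : As), 1, by
        have h1 : C (↑hdisc.unit⁻¹ : As) * (C b ^ 2 - 4 * C c) = 1 := by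
          rw [← map_pow, show (4 : As[X]) = C 4 from (map_ofNat C 4).symm, ← map_mul, ← map_sub,
            ← map_mul, hdisc.val_inv_mul, map_one]
        have h2 : derivative (X ^ 2 + C b * X + C c) = C (2 : As) * X + C b := by
          simp [one_add_one_eq_two, map_ofNat]
        rw [h2, pow_one, show C (2 : As) = 2 from map_ofNat C 2]
        linear_combination h1⟩ }
  have : Nontrivial As := φs.domain_nontrivial
  obtain ⟨z, hz⟩ := IsAlgClosed.exists_root (P.f.map φs) (ne_of_gt (by
    rw [P.monic_f.degree_map φs, show P.f = X ^ 2 + C b * X + C c from rfl,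
      show (X ^ 2 + C b * X + C c : As[X]).degree = 2 by compute_degree!]
    norm_num))
  rw [IsRoot, Polynomial.eval_map] at hz
  letI : Algebra As K := φs.toAlgebra
  have hmap : P.HasMap z := ⟨by rw [aeval_def]; exact hz, by simp [show P.g = 1 from rfl]⟩
  let B := P.Ring
  let t : B := P.X
  let ψ : B →+* K := (P.lift z hmap).toRingHom
  let be : As →+* B := algebraMap As B
  have hψ : ψ.comp be = φs := (P.lift z hmap).comp_algebraMap
  letI : Algebra A B := (be.comp al).toAlgebra
  haveI : IsScalarTower A As B := IsScalarTower.of_algebraMap_eq' rfl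
  haveI : Algebra.Etale A As := Algebra.Etale.of_isLocalizationAway s
  have ht : t ^ 2 + be b * t + be c = 0 := by
    have h := P.hasMap_X.1
    rw [show P.f = X ^ 2 + C b * X + C c from rfl] at h
    simp at h
    exact h
  let g : A →+* B := be.comp al
  set x' : ι → B := g ∘ x with hx'
  set y' : ι → B := g ∘ y with hy'
  set a' := a.map (algebraMap A B) with ha'
  have hqx' : qf a' x' = be (al (qf a x)) := (map_qf g a x).symm
  have hqy' : qf a' y' = be (al (qf a y)) := (map_qf g a y).symm
  have hb' : bl a' x' y' = be (al (bl a x y)) := (map_bl g a x y).symm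
  have hrq : be r * be (al (qf a x)) = 1 := by rw [← map_mul, hr, map_one]
  have hbb : be b = be r * be (al (bl a x y)) := map_mul be _ _
  have hcc : be c = be r * be (al (qf a y)) := map_mul be _ _
  set e : ι → B := y' + t • x' with he
  have hqe : qf a' e = 0 := by
    rw [he, qf_add, qf_smul, bl_smul_right, bl_comm, hqx', hqy', hb']
    linear_combination be (al (qf a x)) * ht + (be (al (qf a y)) + t * be (al (bl a x y))) * (-1 : B) * hrq
      + be (al (qf a x)) * (-t) * hbb - be (al (qf a x)) * hcc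
  have hBe : bl a' e x' = be (al (qf a x)) * (2 * t + be b) := by
    rw [he, bl_add_left, bl_smul_left, bl_self, bl_comm a' y', hqx', hb', hbb]
    linear_combination (-be (al (bl a x y))) * hrq
  have hu : IsUnit (bl a' e x') := by
    rw [hBe]
    refine (hq.map be).mul ?_
    have : (2 * t + be b) ^ 2 = be (b ^ 2 - 4 * c) := by
      rw [map_sub, map_pow, map_mul be 4 c, map_ofNat]
      linear_combination 4 * ht
    exact (isUnit_pow_iff two_ne_zero).1 (this ▸ hdisc.map be)
  set v₀ : ι → B := (↑hu.unit⁻¹ : B) • x' with hv₀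
  have hev : bl a' e v₀ = 1 := by rw [hv₀, bl_smul_right]; exact hu.val_inv_mul
  clear_value v₀
  refine ⟨B, inferInstance, inferInstance, ψ, e, v₀ + (-qf a' v₀) • e, Algebra.Etale.comp A As B,
    ?_, hqe, ?_, ?_⟩
  · show ψ.comp (be.comp al) = φ
    rw [← RingHom.comp_assoc, hψ, hφs]
  · rw [qf_add, qf_smul, bl_smul_right, hqe, bl_comm a' v₀ e, hev]; ring
  · rw [bl_add_right, bl_smul_right, hev, bl_self, hqe]; ring

/-- A hyperbolic pair as part of a basis. -/
theorem exists_step {A : Type u} [CommRing A] {K : Type u} [Field K] [IsAlgClosed K] (m : ℕ)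
    (φ : A →+* K) (a : Matrix (I (m + 1)) (I (m + 1)) A) (ha : IsUnit (a + aᵀ).det) :
    ∃ (B : Type u) (_ : CommRing B) (_ : Algebra A B) (ψ : B →+* K) (e v : I (m + 1) → B)
      (H : Matrix (I (m + 1)) (I m) B),
      Algebra.Etale A B ∧ ψ.comp (algebraMap A B) = φ ∧
      qf (a.map (algebraMap A B)) e = 0 ∧ qf (a.map (algebraMap A B)) v = 0 ∧
      bl (a.map (algebraMap A B)) e v = 1 ∧
      Hᵀ *ᵥ ((a.map (algebraMap A B) + (a.map (algebraMap A B))ᵀ) *ᵥ e) = 0 ∧
      Hᵀ *ᵥ ((a.map (algebraMap A B) + (a.map (algebraMap A B))ᵀ) *ᵥ v) = 0 ∧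
      ∀ y, ∃ (c d : B) (z : I m → B), c • e + d • v + H *ᵥ z = y := by
  classical
  haveI : Nontrivial (I (m + 1)) := ⟨⟨.inl 0, .inr 0, Sum.inl_ne_inr⟩⟩
  obtain ⟨B, _, _, ψ, e, v, het, hψ, hqe, hqv, hev⟩ := exists_pair φ a ha
  set a₁ := a.map (algebraMap A B) with ha₁
  obtain ⟨k, l, hkl⟩ : ∃ k l, ψ (e k * v l - e l * v k) ≠ 0 := by
    by_contra h
    push Not at h
    have key : bl a₁ e v * bl a₁ v e - bl a₁ e e * bl a₁ v v =
        ∑ k, ∑ l, (e k * v l - e l * v k) *
          (((a₁ + a₁ᵀ) *ᵥ v) k * ((a₁ + a₁ᵀ) *ᵥ e) l) := by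
      simp only [bl, dotProduct]
      generalize (a₁ + a₁ᵀ) *ᵥ e = E
      generalize (a₁ + a₁ᵀ) *ᵥ v = V
      rw [mul_comm (∑ i, e i * E i) (∑ i, v i * V i), Finset.sum_mul_sum, Finset.sum_mul_sum,
        ← Finset.sum_sub_distrib]
      refine Finset.sum_congr rfl fun k _ => ?_
      rw [← Finset.sum_sub_distrib]
      exact Finset.sum_congr rfl fun l _ => by ring
    rw [bl_comm a₁ v e, hev, bl_self, bl_self, hqe] at key
    have := congrArg ψ key
    simp [h] at this
  have hne : k ≠ l := by rintro rfl; exact hkl (by simp)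
  set D := e k * v l - e l * v k with hD
  let C := Localization.Away D
  let be := algebraMap B C
  haveI : Algebra.Etale B C := Algebra.Etale.of_isLocalizationAway D
  haveI := het
  set a₂ := a.map (algebraMap A C) with ha₂
  have ha₁₂ : a₁.map be = a₂ := by rw [ha₁, ha₂, Matrix.map_map, IsScalarTower.algebraMap_eq A B C]; rfl
  set e' := be ∘ e with he'
  set v' := be ∘ v with hv'
  have hqe' : qf a₂ e' = 0 := by rw [← ha₁₂, ← map_qf, hqe, map_zero]
  have hqv' : qf a₂ v' = 0 := by rw [← ha₁₂, ← map_qf, hqv, map_zero]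
  have hev' : bl a₂ e' v' = 1 := by rw [← ha₁₂, ← map_bl, hev, map_one]
  let std : I (m + 1) → (I (m + 1) → C) := fun i => Pi.single i 1
  let pr : I (m + 1) → (I (m + 1) → C) := fun i =>
    std i - bl a₂ v' (std i) • e' - bl a₂ e' (std i) • v'
  set l' := Equiv.swap (Sum.inl 0) k (Sum.inr 0) with hl'
  let σ : Equiv.Perm (I (m + 1)) := (Equiv.swap (Sum.inl 0) k).trans (Equiv.swap l' l)
  have hk' : k ≠ l' := fun h => Sum.inl_ne_inr (a := (0 : Fin (m + 1)))
    ((Equiv.swap (Sum.inl 0) k).injective (by rw [Equiv.swap_apply_left]; exact h))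
  have hσl : σ (.inr 0) = l := Equiv.swap_apply_left _ _
  have hσk : σ (.inl 0) = k := by
    simp only [σ, Equiv.trans_apply, Equiv.swap_apply_left]
    exact Equiv.swap_apply_of_ne_of_ne hk' hne
  let j : I m → I (m + 1) := Sum.map Fin.succ Fin.succ
  let H : Matrix (I (m + 1)) (I m) C := Matrix.of fun r i => pr (σ (j i)) r
  have hHcol : ∀ i, H *ᵥ Pi.single i 1 = pr (σ (j i)) := fun i => by ext r; simp [H]
  refine ⟨C, inferInstance, inferInstance,
    IsLocalization.Away.lift D (isUnit_iff_ne_zero.2 hkl), e', v', H, Algebra.Etale.comp A B C,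
    ?_, hqe', hqv', hev', ?_, ?_, ?_⟩
  · show RingHom.comp _ (be.comp (algebraMap A B)) = φ
    rw [← RingHom.comp_assoc, IsLocalization.Away.lift_comp, hψ]
  · funext i
    show bl a₂ (pr (σ (j i))) e' = 0
    rw [bl_comm]
    simp only [pr, bl_sub_right, bl_smul_right, bl_self, hqe', hev']
    ring
  · funext i
    show bl a₂ (pr (σ (j i))) v' = 0
    rw [bl_comm]
    simp only [pr, bl_sub_right, bl_smul_right, bl_self, hqv', bl_comm a₂ v' e', hev']
    ring
  · let L : (C × C × (I m → C)) →ₗ[C] (I (m + 1) → C) :=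
      ((LinearMap.id.smulRight e').comp (LinearMap.fst C C _)) +
      ((LinearMap.id.smulRight v').comp ((LinearMap.fst C C _).comp (LinearMap.snd C C _))) +
      (Matrix.mulVecLin H).comp ((LinearMap.snd C C _).comp (LinearMap.snd C C _))
    suffices hL : ∀ i, std i ∈ LinearMap.range L by
      intro y
      have hy : y ∈ LinearMap.range L := by
        rw [pi_eq_sum_univ' y]
        exact Submodule.sum_mem _ fun i _ => Submodule.smul_mem _ _ (hL i)
      obtain ⟨⟨c, d, z⟩, hz⟩ := hy
      exact ⟨c, d, z, hz⟩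
    have h1 : e' ∈ LinearMap.range L := ⟨(1, 0, 0), by simp [L]⟩
    have h2 : v' ∈ LinearMap.range L := ⟨(0, 1, 0), by simp [L]⟩
    have h3 : ∀ i, i ≠ k → i ≠ l → std i ∈ LinearMap.range L := by
      intro i hik hil
      obtain ⟨i', rfl⟩ : ∃ i', σ (j i') = i := by
        obtain ⟨i', rfl⟩ := σ.surjective i
        rcases i' with i' | i' <;> rcases Fin.eq_zero_or_eq_succ i' with rfl | ⟨i'', rfl⟩
        · exact absurd hσk hik
        · exact ⟨.inl i'', rfl⟩
        · exact absurd hσl hil
        · exact ⟨.inr i'', rfl⟩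
      have hpr : pr (σ (j i')) ∈ LinearMap.range L := ⟨(0, 0, Pi.single i' 1), by simp [L, hHcol]⟩
      have := Submodule.add_mem _ (Submodule.add_mem _ hpr
        (Submodule.smul_mem _ (bl a₂ v' (std (σ (j i')))) h1))
        (Submodule.smul_mem _ (bl a₂ e' (std (σ (j i')))) h2)
      convert this using 1
      simp only [pr]
      abel
    have hDu : IsUnit (e' k * v' l - e' l * v' k) := by
      rw [he', hv']
      simp only [Function.comp_apply, ← map_mul, ← map_sub]
      exact IsLocalization.Away.algebraMap_isUnit D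
    have h4 : ∀ i k l, (∀ i, i ≠ k → i ≠ l → std i ∈ LinearMap.range L) → k ≠ l →
        IsUnit (e' k * v' l - e' l * v' k) → i = k → std i ∈ LinearMap.range L := by
      rintro i k l h3 hne hDu rfl
      set w := v' l • e' - e' l • v' with hw
      have hwL : w ∈ LinearMap.range L :=
        Submodule.sub_mem _ (Submodule.smul_mem _ _ h1) (Submodule.smul_mem _ _ h2)
      have hwk : w i • std i ∈ LinearMap.range L := by
        have hsum : ∑ r ∈ Finset.univ.erase i, w r • std r ∈ LinearMap.range L := by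
          refine Submodule.sum_mem _ fun r hr => ?_
          rcases eq_or_ne r l with rfl | hrl
          · have : w r = 0 := by simp [hw, mul_comm]
            rw [this, zero_smul]; exact Submodule.zero_mem _
          · exact Submodule.smul_mem _ _ (h3 r (Finset.ne_of_mem_erase hr) hrl)
        have := Submodule.sub_mem _ hwL hsum
        convert this using 1
        rw [eq_sub_iff_add_eq, Finset.add_sum_erase Finset.univ (fun r => w r • std r) (Finset.mem_univ i)]
        exact (pi_eq_sum_univ' w).symm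
      obtain ⟨u, hu⟩ := hDu
      have hwi : w i = u := by rw [hu]; simp [hw]; ring
      rw [hwi] at hwk
      simpa [smul_smul] using Submodule.smul_mem _ (↑u⁻¹ : C) hwk
    intro i
    rcases eq_or_ne i k with hik | hik
    · exact h4 i k l h3 hne hDu hik
    rcases eq_or_ne i l with hil | hil
    · exact h4 i l k (fun r h h' => h3 r h' h) hne.symm
        (by rw [show e' l * v' k - e' k * v' l = -(e' k * v' l - e' l * v' k) by ring]; exact hDu.neg) hil
    exact h3 i hik hil

section Pair

variable {A : Type*} [CommRing A] {m : ℕ}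

/-- The index embedding. -/
def emb (m : ℕ) : I m → I (m + 1) := Sum.map Fin.succ Fin.succ

/-- Assemble a vector from a pair of scalars and a vector of the smaller index type. -/
def glue (c d : A) (z : I m → A) : I (m + 1) → A :=
  Sum.elim (Fin.cons c (z ∘ Sum.inl)) (Fin.cons d (z ∘ Sum.inr))

theorem glue_emb (c d : A) (z : I m → A) : glue c d z ∘ emb m = z := by
  funext i; rcases i with i | i <;> simp [glue, emb]

theorem glue_self (x : I (m + 1) → A) : glue (x (.inl 0)) (x (.inr 0)) (x ∘ emb m) = x := by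
  funext i
  rcases i with i | i <;> rcases Fin.eq_zero_or_eq_succ i with rfl | ⟨i', rfl⟩ <;> simp [glue, emb]

/-- The matrix with columns `e`, `v` and those of `H`. -/
def cols (e v : I (m + 1) → A) (H : Matrix (I (m + 1)) (I m) A) :
    Matrix (I (m + 1)) (I (m + 1)) A :=
  Matrix.of fun r => glue (e r) (v r) (H r)

theorem cols_mulVec (e v : I (m + 1) → A) (H : Matrix (I (m + 1)) (I m) A) (x : I (m + 1) → A) :
    cols e v H *ᵥ x = x (.inl 0) • e + x (.inr 0) • v + H *ᵥ (x ∘ emb m) := by
  funext r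
  simp [cols, glue, emb, Matrix.mulVec, dotProduct, Fin.sum_univ_succ]
  ring

theorem cols_transpose_mulVec (e v : I (m + 1) → A) (H : Matrix (I (m + 1)) (I m) A)
    (w : I (m + 1) → A) : ((cols e v H)ᵀ *ᵥ w) ∘ emb m = Hᵀ *ᵥ w := by
  funext i
  rcases i with i | i <;> simp [cols, glue, emb, Matrix.mulVec, dotProduct]

theorem qf_pair {ι κ : Type*} [Fintype ι] [Fintype κ] (a : Matrix ι ι A) (e v : ι → A)
    (H : Matrix ι κ A) (he : qf a e = 0) (hv : qf a v = 0) (hev : bl a e v = 1)
    (hHe : Hᵀ *ᵥ ((a + aᵀ) *ᵥ e) = 0) (hHv : Hᵀ *ᵥ ((a + aᵀ) *ᵥ v) = 0) (c d : A) (z : κ → A) :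
    qf a (c • e + d • v + H *ᵥ z) = c * d + qf (Hᵀ * a * H) z := by
  have h : ∀ w, Hᵀ *ᵥ ((a + aᵀ) *ᵥ w) = 0 → bl a (H *ᵥ z) w = 0 := fun w hw => by
    rw [bl, ← Matrix.vecMul_transpose, ← Matrix.dotProduct_mulVec, hw, dotProduct_zero]
  rw [qf_add, qf_add, qf_smul, qf_smul, bl_smul_left, bl_smul_right, he, hv, hev, ← qf_mulVec,
    bl_add_left, bl_smul_left, bl_smul_left, bl_comm a e, bl_comm a v, h e hHe, h v hHv]
  ring

end Pair

/-- Étale-local splitting through a given geometric point. -/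
theorem split (m : ℕ) : ∀ {A : Type u} [CommRing A] (a : Matrix (I m) (I m) A),
    IsUnit (a + aᵀ).det → ∀ {K : Type u} [Field K] [IsAlgClosed K] (φ : A →+* K),
    ∃ (B : Type u) (_ : CommRing B) (_ : Algebra A B) (ψ : B →+* K) (g : Matrix (I m) (I m) B),
      Algebra.Etale A B ∧ ψ.comp (algebraMap A B) = φ ∧ IsUnit g.det ∧
      ∀ x, qf (a.map (algebraMap A B)) (g *ᵥ x) = hyp x := by
  induction m with
  | zero =>
    intro A _ a _ K _ _ φ
    exact ⟨A, inferInstance, inferInstance, φ, 1, inferInstance, RingHom.ext fun _ => rfl,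
      by simp, fun x => by simp [qf, hyp, dotProduct]⟩
  | succ m ih =>
    intro A _ a ha K _ _ φ
    obtain ⟨B, _, _, ψ, e, v, H, het, hψ, hqe, hqv, hev, hHe, hHv, hsurj⟩ := exists_step m φ a ha
    set a₁ := a.map (algebraMap A B) with ha₁
    have hgs : Function.Surjective (cols e v H).mulVec := fun y => by
      obtain ⟨c, d, z, hz⟩ := hsurj y
      exact ⟨glue c d z, by rw [cols_mulVec, glue_emb, ← hz]; rfl⟩
    have hg : IsUnit (cols e v H) := Matrix.mulVec_surjective_iff_isUnit.1 hgs
    set a' := Hᵀ * a₁ * H with ha'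
    have ha'u : IsUnit (a' + a'ᵀ).det := by
      rw [← Matrix.isUnit_iff_isUnit_det, ← Matrix.mulVec_surjective_iff_isUnit]
      have hP : a' + a'ᵀ = Hᵀ * (a₁ + a₁ᵀ) * H := by
        rw [ha', Matrix.transpose_mul, Matrix.transpose_mul, Matrix.transpose_transpose,
          Matrix.mul_add, Matrix.add_mul, Matrix.mul_assoc Hᵀ a₁ᵀ H]
      have hu : IsUnit ((cols e v H)ᵀ * (a₁ + a₁ᵀ)) :=
        ((Matrix.isUnit_transpose _).2 hg).mul
          ((Matrix.isUnit_iff_isUnit_det _).2 (isUnit_det_map _ ha))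
      intro y
      obtain ⟨x, hx⟩ := (Matrix.mulVec_surjective_iff_isUnit.2 (hu.mul hg)) (glue 0 0 y)
      refine ⟨x ∘ emb m, ?_⟩
      have := congrArg (fun f => f ∘ emb m) hx
      simp only [← Matrix.mulVec_mulVec, cols_transpose_mulVec] at this
      simp only [cols_mulVec, Matrix.mulVec_add, Matrix.mulVec_smul, hHe, hHv, smul_zero, zero_add,
        glue_emb] at this
      show (a' + a'ᵀ) *ᵥ _ = y
      simp only [hP, ← Matrix.mulVec_mulVec]
      exact this
    obtain ⟨C, _, _, ψ', g', het', hψ', hg', hform⟩ := ih a' ha'u ψ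
    let be := algebraMap B C
    letI : Algebra A C := (be.comp (algebraMap A B)).toAlgebra
    haveI : IsScalarTower A B C := IsScalarTower.of_algebraMap_eq' rfl
    haveI := het
    haveI := het'
    set a₂ := a.map (algebraMap A C) with ha₂
    have ha₁₂ : a₁.map be = a₂ := by rw [ha₁, Matrix.map_map]; rfl
    let e' := be ∘ e
    let v' := be ∘ v
    let H' := H.map be
    have hH : ∀ w : I (m + 1) → B, Hᵀ *ᵥ ((a₁ + a₁ᵀ) *ᵥ w) = 0 →
        H'ᵀ *ᵥ ((a₂ + a₂ᵀ) *ᵥ (be ∘ w)) = 0 := fun w hw => by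
      rw [← ha₁₂, ← Matrix.transpose_map, ← Matrix.transpose_map, ← Matrix.map_add be (map_add be)]
      funext i
      rw [show (a₁ + a₁ᵀ).map be *ᵥ (be ∘ w) = be ∘ ((a₁ + a₁ᵀ) *ᵥ w) from
        funext fun r => (RingHom.map_mulVec be _ _ r).symm,
        ← RingHom.map_mulVec, hw]
      simp
    let G : (I (m + 1) → C) →ₗ[C] (I (m + 1) → C) :=
      { toFun := fun x => glue (x (.inl 0)) (x (.inr 0)) (g' *ᵥ (x ∘ emb m))
        map_add' := fun x y => by
          funext i
          rcases i with i | i <;> rcases Fin.eq_zero_or_eq_succ i with rfl | ⟨i', rfl⟩ <;>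
            simp [glue, show (x + y) ∘ emb m = x ∘ emb m + y ∘ emb m from rfl, Matrix.mulVec_add]
        map_smul' := fun c x => by
          funext i
          rcases i with i | i <;> rcases Fin.eq_zero_or_eq_succ i with rfl | ⟨i', rfl⟩ <;>
            simp [glue, show (c • x) ∘ emb m = c • (x ∘ emb m) from rfl, Matrix.mulVec_smul] }
    refine ⟨C, inferInstance, inferInstance, ψ',
      (cols e v H).map be * LinearMap.toMatrix' G, Algebra.Etale.comp A B C, ?_, ?_, ?_⟩
    · show ψ'.comp (be.comp (algebraMap A B)) = φ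
      rw [← RingHom.comp_assoc, hψ', hψ]
    · rw [Matrix.det_mul]
      refine IsUnit.mul ?_ ?_
      · rw [← RingHom.mapMatrix_apply, ← RingHom.map_det]
        exact ((Matrix.isUnit_iff_isUnit_det _).1 hg).map be
      · rw [← Matrix.isUnit_iff_isUnit_det, ← Matrix.mulVec_surjective_iff_isUnit]
        intro y
        obtain ⟨z, hz⟩ := (Matrix.mulVec_surjective_iff_isUnit.2
          ((Matrix.isUnit_iff_isUnit_det g').2 hg')) (y ∘ emb m)
        refine ⟨glue (y (.inl 0)) (y (.inr 0)) z, ?_⟩
        have : (glue (y (.inl 0)) (y (.inr 0)) z) ∘ emb m = z := by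
          funext i; rcases i with i | i <;> simp [glue, emb]
        rw [LinearMap.toMatrix'_mulVec]
        show glue _ _ _ = y
        rw [this, hz]
        exact glue_self y
    · intro x
      have hcols : (cols e v H).map be = cols e' v' H' := by
        ext r i
        rcases i with i | i <;> rcases Fin.eq_zero_or_eq_succ i with rfl | ⟨i', rfl⟩ <;>
          simp [cols, glue, e', v', H']
      have hGx : G x ∘ emb m = g' *ᵥ (x ∘ emb m) := by
        funext i; rcases i with i | i <;> simp [G, glue, emb]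
      rw [← Matrix.mulVec_mulVec, LinearMap.toMatrix'_mulVec, hcols, cols_mulVec, hGx]
      rw [qf_pair a₂ e' v' H' (by rw [← ha₁₂, ← map_qf, hqe, map_zero])
        (by rw [← ha₁₂, ← map_qf, hqv, map_zero]) (by rw [← ha₁₂, ← map_bl, hev, map_one])
        (hH e hHe) (hH v hHv)]
      have : H'ᵀ * a₂ * H' = a'.map be := by
        rw [ha', Matrix.map_mul, Matrix.map_mul, ha₁₂, Matrix.transpose_map]
      rw [this, hform]
      simp [G, glue, hyp, emb, Fin.sum_univ_succ]

end QSplit86
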