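import Groth.Agent.QSplit86.OddClifford
import Groth.Agent.QSplit86.BaseChange

/-!
# Structure of the Clifford algebra of a semiregular form of odd rank, flat-locally
-/

set_option autoImplicit false
set_option maxHeartbeats 1600000
set_option synthInstance.maxHeartbeats 200000
universe u v

open scoped TensorProduct
open CliffordAlgebra

namespace QSplit86

variable {A : Type u} [CommRing A] {V : Type v} [AddCommGroup V] [Module A V] (Q : QuadraticForm A V)

/-- Base change of a Clifford algebra in coordinates. -/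
theorem exists_clifford_baseChange {ι : Type} [Fintype ι] [DecidableEq ι] (b : Module.Basis ι A V)
    (a : Matrix ι ι A) (hqf : ∀ x : ι → A, qf a x = Q (∑ i, x i • b i))
    (B : Type u) [CommRing B] [Algebra A B] :
    ∃ (QB : QuadraticForm B (ι → B)), (∀ x, QB x = qf (a.map (algebraMap A B)) x) ∧
      ∃ e : B ⊗[A] CliffordAlgebra Q ≃ₐ[B] CliffordAlgebra QB,
        ∀ w, e (1 ⊗ₜ CliffordAlgebra.ι Q w) = CliffordAlgebra.ι QB (fun i => algebraMap A B (b.repr w i)) := by
  classical
  set aB := a.map (algebraMap A B) with haB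
  let QB : QuadraticForm B (ι → B) := LinearMap.BilinMap.toQuadraticMap (Matrix.toLinearMap₂' B aB)
  have hQB : ∀ x, QB x = qf aB x := fun x => Matrix.toLinearMap₂'_apply' aB x x
  let Fl : (ι → B) →ₗ[B] B ⊗[A] CliffordAlgebra Q :=
    Fintype.linearCombination B fun i => (1 : B) ⊗ₜ[A] CliffordAlgebra.ι Q (b i)
  have hFl : ∀ x, Fl x = ∑ i, x i ⊗ₜ[A] CliffordAlgebra.ι Q (b i) := fun x => by
    simp [Fl, Fintype.linearCombination_apply, TensorProduct.smul_tmul']
  have hsingle : ∀ k, ∑ r, (Pi.single k (1 : A) : ι → A) r • b r = b k := fun k => by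
    rw [Finset.sum_eq_single k (fun j _ hj => by simp [hj]) (fun h => absurd (Finset.mem_univ k) h)]
    simp
  have hd : ∀ i, Q (b i) = a i i := fun i => by
    have := hqf (Pi.single i 1)
    rw [hsingle] at this
    simpa [qf] using this.symm
  have ho : ∀ i j, QuadraticMap.polar Q (b i) (b j) = a i j + a j i := fun i j => by
    have h2 := hqf (Pi.single i 1 + Pi.single j 1)
    simp only [Pi.add_apply, add_smul, Finset.sum_add_distrib, hsingle] at h2
    rw [qf_add, hqf, hqf, hsingle, hsingle] at h2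
    rw [QuadraticMap.polar, ← h2]
    simp [bl]
    abel
  have hsq : ∀ x, Fl x * Fl x = algebraMap B _ (QB x) := by
    intro x
    rw [hQB, hFl, qf, dotProduct, map_sum, Finset.sum_mul_sum]
    simp only [Matrix.mulVec, dotProduct, Finset.mul_sum, map_sum, Algebra.TensorProduct.tmul_mul_tmul]
    rw [← sub_eq_zero, ← Finset.sum_sub_distrib]
    simp only [← Finset.sum_sub_distrib]
    have hterm : ∀ i j, (x i * x j) ⊗ₜ[A] (CliffordAlgebra.ι Q (b i) * CliffordAlgebra.ι Q (b j)) -
        algebraMap B (B ⊗[A] CliffordAlgebra Q) (x i * (aB i j * x j)) =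
        (x i * x j) ⊗ₜ[A] (CliffordAlgebra.ι Q (b i) * CliffordAlgebra.ι Q (b j) - algebraMap A _ (a i j)) := fun i j => by
      rw [TensorProduct.tmul_sub, Algebra.TensorProduct.algebraMap_apply, Algebra.algebraMap_self, RingHom.id_apply,
        show algebraMap A (CliffordAlgebra Q) (a i j) = a i j • 1 from Algebra.algebraMap_eq_smul_one _,
        TensorProduct.tmul_smul, TensorProduct.smul_tmul']
      congr 2
      rw [haB, Matrix.map_apply, Algebra.smul_def]
      ring
    simp only [hterm]
    rw [← Fintype.sum_prod_type']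
    refine Finset.sum_involution (fun p _ => p.swap) ?_ ?_ (fun p _ => Finset.mem_univ _)
      (fun p _ => p.swap_swap)
    · rintro ⟨i, j⟩ _
      simp only [Prod.swap_prod_mk]
      rw [mul_comm (x j), ← TensorProduct.tmul_add]
      have : CliffordAlgebra.ι Q (b i) * CliffordAlgebra.ι Q (b j) - algebraMap A _ (a i j) +
          (CliffordAlgebra.ι Q (b j) * CliffordAlgebra.ι Q (b i) - algebraMap A _ (a j i)) = 0 := by
        rw [sub_add_sub_comm, ι_mul_ι_add_swap, ho, map_add, sub_self]
      rw [this, TensorProduct.tmul_zero]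
    · rintro ⟨i, j⟩ _ hne h
      obtain rfl : j = i := congrArg Prod.fst h
      apply hne
      rw [ι_sq_scalar, hd, sub_self, TensorProduct.tmul_zero]
  let F : CliffordAlgebra QB →ₐ[B] B ⊗[A] CliffordAlgebra Q := lift QB ⟨Fl, hsq⟩
  let cl : V →ₗ[A] (ι → B) :=
    ((Algebra.linearMap A B).compLeft ι).comp b.equivFun.toLinearMap
  have hcl : ∀ w i, cl w i = algebraMap A B (b.repr w i) := fun w i => rfl
  let g₀ : CliffordAlgebra Q →ₐ[A] CliffordAlgebra QB :=
    lift Q ⟨((CliffordAlgebra.ι QB).restrictScalars A).comp cl, fun w => by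
      show CliffordAlgebra.ι QB (cl w) * CliffordAlgebra.ι QB (cl w) = _
      rw [ι_sq_scalar, IsScalarTower.algebraMap_apply A B (CliffordAlgebra QB), hQB]
      congr 1
      conv_rhs => rw [← b.sum_repr w, ← hqf, map_qf]
      rfl⟩
  let G : B ⊗[A] CliffordAlgebra Q →ₐ[B] CliffordAlgebra QB :=
    Algebra.TensorProduct.lift (Algebra.ofId B _) g₀ fun r y => Algebra.commutes r _
  have hclb : ∀ i, cl (b i) = Pi.single i 1 := fun i => by
    funext j
    rw [hcl, b.repr_self, Finsupp.single_apply, Pi.single_apply]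
    split_ifs <;> simp_all
  have hG : ∀ w, G (1 ⊗ₜ CliffordAlgebra.ι Q w) = CliffordAlgebra.ι QB (cl w) := fun w => by
    show Algebra.ofId B (CliffordAlgebra QB) 1 * g₀ (CliffordAlgebra.ι Q w) = _
    rw [map_one, one_mul]
    exact lift_ι_apply _ _ _
  have hFG : F.comp G = AlgHom.id B _ := by
    apply Algebra.TensorProduct.ext
    · ext
    · refine CliffordAlgebra.hom_ext (b.ext fun i => ?_)
      show F (G (1 ⊗ₜ CliffordAlgebra.ι Q (b i))) = 1 ⊗ₜ CliffordAlgebra.ι Q (b i)
      rw [hG, hclb]
      simp only [F, lift_ι_apply, hFl]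
      rw [Finset.sum_eq_single i (fun j _ hj => by simp [hj]) (fun h => absurd (Finset.mem_univ i) h)]
      simp
  have hGF : G.comp F = AlgHom.id B _ := by
    refine CliffordAlgebra.hom_ext (LinearMap.ext fun x => ?_)
    show G (F (CliffordAlgebra.ι QB x)) = CliffordAlgebra.ι QB x
    simp only [F, lift_ι_apply, hFl, map_sum]
    conv_rhs => rw [pi_eq_sum_univ' x, map_sum]
    refine Finset.sum_congr rfl fun i _ => ?_
    rw [map_smul, show (x i) ⊗ₜ[A] CliffordAlgebra.ι Q (b i) = x i • ((1 : B) ⊗ₜ[A] CliffordAlgebra.ι Q (b i)) by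
      rw [TensorProduct.smul_tmul', smul_eq_mul, mul_one], map_smul, hG, hclb]
  exact ⟨QB, hQB, AlgEquiv.ofAlgHom G F hGF hFG, hG⟩

/-- Descent of scalars. -/
theorem mem_range_of_one_tmul {B : Type u} [CommRing B] [Algebra A B] [Module.FaithfullyFlat A B]
    {E : Type*} [Ring E] [Algebra A E] (x : E) (r : B) (h : (1 : B) ⊗ₜ[A] x = r ⊗ₜ[A] (1 : E)) :
    x ∈ (algebraMap A E).range := by
  let N : Submodule A E := LinearMap.range (Algebra.linearMap A E)
  have h' := congrArg (N.mkQ.lTensor B) h
  rw [LinearMap.lTensor_tmul, LinearMap.lTensor_tmul,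
    show N.mkQ 1 = 0 from (Submodule.Quotient.mk_eq_zero N).2 ⟨1, map_one (algebraMap A _)⟩,
    TensorProduct.tmul_zero] at h'
  obtain ⟨c, hc⟩ : x ∈ N := (Submodule.Quotient.mk_eq_zero N).1
    (Module.FaithfullyFlat.tensorProduct_mk_injective (A := A) (B := B) _
      (by simpa using h' : (TensorProduct.mk A B _ 1) (N.mkQ x) = (TensorProduct.mk A B _ 1) 0))
  exact ⟨c, hc⟩

/-- A splitting of the Clifford algebra in odd rank. -/
structure OddSplitting (m : ℕ) where
  /-- The algebra. -/
  B : Type u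
  [cr : CommRing B]
  [alg : Algebra A B]
  ffl : Module.FaithfullyFlat A B
  fp : Algebra.FinitePresentation A B
  /-- The isomorphism with the Clifford algebra of the split form. -/
  E : B ⊗[A] CliffordAlgebra Q ≃ₐ[B] CliffordAlgebra (oddQ B m)
  /-- The coordinates. -/
  lw : V → (Option (I m) → B)
  hE : ∀ w, E (1 ⊗ₜ CliffordAlgebra.ι Q w) = CliffordAlgebra.ι (oddQ B m) (lw w)
  /-- A basis. -/
  b : Module.Basis (Fin (2 * m + 1)) A V

attribute [instance] OddSplitting.cr OddSplitting.alg

theorem exists_oddSplitting {m : ℕ} (b : Module.Basis (Fin (2 * m + 1)) A V)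
    (hQ : QuadGrp.IsSemiregular b (LinearEquiv.refl A A) Q) : Nonempty (OddSplitting Q m) := by
  classical
  set c := QuadGrp.coeffs b (LinearEquiv.refl A A) Q
  obtain ⟨B, _, _, hff, hfp, v, H, hsurj, hform⟩ := exists_split_odd_global c hQ
  obtain ⟨QB, hQB, e, he⟩ := exists_clifford_baseChange Q b _ (qf_upper_coeffs b Q) B
  let L : (Option (I m) → B) →ₗ[B] (Fin (2 * m + 1) → B) :=
    ((LinearMap.id.smulRight v).comp (LinearMap.proj none)) + H.mulVecLin.comp (LinearMap.funLeft B B some)
  have hLs : Function.Surjective L := fun y => by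
    obtain ⟨x, z, hxz⟩ := hsurj y
    exact ⟨mkv x z, hxz⟩
  have hLb : Function.Bijective L := by
    let σ := LinearEquiv.funCongrLeft B B (seEquiv m)
    have h1 : Function.Surjective (L.comp σ.toLinearMap) := hLs.comp σ.surjective
    have h2 := OrzechProperty.bijective_of_surjective_endomorphism _ h1
    have : ⇑L = ⇑(L.comp σ.toLinearMap) ∘ ⇑σ.symm := by
      funext x; simp
    rw [this]
    exact h2.comp σ.symm.bijective
  let eL := LinearEquiv.ofBijective L hLb
  let iso : (oddQ B m).IsometryEquiv QB := ⟨eL, fun x => by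
    show QB (L x) = oddQ B m x
    rw [hQB, oddQ_apply, ← hform]
    rfl⟩
  let eC := CliffordAlgebra.equivOfIsometry iso
  have heC : ∀ z, eC.symm (CliffordAlgebra.ι QB (eL z)) = CliffordAlgebra.ι (oddQ B m) z := fun z => by
    rw [AlgEquiv.symm_apply_eq]
    exact (CliffordAlgebra.map_apply_ι iso.toIsometry z).symm
  clear_value eC
  refine ⟨⟨B, hff, hfp, e.trans eC.symm, fun w => eL.symm (fun i => algebraMap A B (b.repr w i)), fun w => ?_, b⟩⟩
  rw [AlgEquiv.trans_apply, he, ← heC, LinearEquiv.apply_symm_apply]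

namespace OddSplitting

variable {Q} {m : ℕ} (S : OddSplitting Q m)

theorem mem_evenOdd {n : ZMod 2} {x : CliffordAlgebra Q} (hx : x ∈ evenOdd Q n) :
    S.E (1 ⊗ₜ x) ∈ evenOdd (oddQ S.B m) n := by
  have hev : ∀ {x : CliffordAlgebra Q}, x ∈ evenOdd Q 0 → S.E (1 ⊗ₜ x) ∈ evenOdd (oddQ S.B m) 0 := by
    intro x hx
    induction x, hx using CliffordAlgebra.even_induction with
    | algebraMap r =>
      rw [show (1 : S.B) ⊗ₜ[A] algebraMap A (CliffordAlgebra Q) r = algebraMap S.B _ (algebraMap A S.B r) by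
        rw [Algebra.TensorProduct.algebraMap_apply, Algebra.algebraMap_eq_smul_one (A := CliffordAlgebra Q),
          TensorProduct.tmul_smul, TensorProduct.smul_tmul', Algebra.smul_def, mul_one,
          Algebra.algebraMap_self, RingHom.id_apply], AlgEquiv.commutes]
      exact SetLike.algebraMap_mem_graded _ _
    | add x y hx hy ihx ihy => rw [TensorProduct.tmul_add, map_add]; exact Submodule.add_mem _ ihx ihy
    | ι_mul_ι_mul v w x hx ih =>
      rw [show (1 : S.B) ⊗ₜ[A] (ι Q v * ι Q w * x) = (1 ⊗ₜ ι Q v) * (1 ⊗ₜ ι Q w) * (1 ⊗ₜ x) by simp,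
        map_mul, map_mul, S.hE, S.hE]
      exact zero_add (0 : ZMod 2) ▸ SetLike.mul_mem_graded (ι_mul_ι_mem_evenOdd_zero _ _ _) ih
  fin_cases n
  · exact hev hx
  · change x ∈ evenOdd Q 1 at hx
    show S.E (1 ⊗ₜ x) ∈ evenOdd (oddQ S.B m) 1
    induction x, hx using CliffordAlgebra.odd_induction with
    | ι v => rw [S.hE]; exact ι_mem_evenOdd_one _ _
    | add x y hx hy ihx ihy => rw [TensorProduct.tmul_add, map_add]; exact Submodule.add_mem _ ihx ihy
    | ι_mul_ι_mul v w x hx ih =>
      rw [show (1 : S.B) ⊗ₜ[A] (ι Q v * ι Q w * x) = (1 ⊗ₜ (ι Q v * ι Q w)) * (1 ⊗ₜ x) by simp, map_mul]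
      exact zero_add (1 : ZMod 2) ▸ SetLike.mul_mem_graded (hev (ι_mul_ι_mem_evenOdd_zero _ _ _)) ih

theorem eq_zero_of_even_odd {w : CliffordAlgebra (oddQ S.B m)} (h0 : w ∈ evenOdd (oddQ S.B m) 0)
    (h1 : w ∈ evenOdd (oddQ S.B m) 1) : w = 0 :=
  Submodule.disjoint_def.1 (evenOdd_isCompl _).disjoint w h0 h1

theorem star_E (x : CliffordAlgebra Q) : S.E (1 ⊗ₜ star x) = star (S.E (1 ⊗ₜ x)) := by
  induction x using CliffordAlgebra.induction with
  | algebraMap r =>
    rw [star_algebraMap,
      show (1 : S.B) ⊗ₜ[A] algebraMap A (CliffordAlgebra Q) r = algebraMap S.B _ (algebraMap A S.B r) by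
      rw [Algebra.TensorProduct.algebraMap_apply, Algebra.algebraMap_eq_smul_one (A := CliffordAlgebra Q),
        TensorProduct.tmul_smul, TensorProduct.smul_tmul', Algebra.smul_def, mul_one,
        Algebra.algebraMap_self, RingHom.id_apply], AlgEquiv.commutes, star_algebraMap]
  | ι v => rw [star_ι, TensorProduct.tmul_neg, map_neg, S.hE, star_ι]
  | mul a b ha hb =>
    rw [star_mul, show (1 : S.B) ⊗ₜ[A] (star b * star a) = (1 ⊗ₜ star b) * (1 ⊗ₜ star a) by simp, map_mul, ha, hb,
      show (1 : S.B) ⊗ₜ[A] (a * b) = (1 ⊗ₜ a) * (1 ⊗ₜ b) by simp, map_mul, star_mul]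
  | add a b ha hb => rw [star_add, TensorProduct.tmul_add, map_add, ha, hb, TensorProduct.tmul_add, map_add, star_add]

/-- The base change of the inclusion of the even part. -/
noncomputable def incl : S.B ⊗[A] CliffordAlgebra.even Q →ₐ[S.B] S.B ⊗[A] CliffordAlgebra Q :=
  Algebra.TensorProduct.map (AlgHom.id S.B S.B) (CliffordAlgebra.even Q).val

theorem incl_injective : Function.Injective S.incl := by
  haveI := S.ffl
  have h := Module.Flat.lTensor_preserves_injective_linearMap (M := S.B)
    (CliffordAlgebra.even Q).val.toLinearMap Subtype.val_injective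
  convert h using 1
  funext y
  induction y with
  | zero => simp
  | tmul r x => simp [incl]
  | add a b ha hb => rw [map_add, map_add, ha, hb]

theorem incl_even (y : S.B ⊗[A] CliffordAlgebra.even Q) : S.E (S.incl y) ∈ evenOdd (oddQ S.B m) 0 := by
  induction y with
  | zero => rw [map_zero, map_zero]; exact Submodule.zero_mem _
  | tmul r x =>
    rw [show S.incl (r ⊗ₜ x) = r • ((1 : S.B) ⊗ₜ[A] (x : CliffordAlgebra Q)) by
      simp [incl, TensorProduct.smul_tmul'], map_smul]
    exact Submodule.smul_mem _ r (S.mem_evenOdd x.2)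
  | add a b ha hb => rw [map_add, map_add]; exact Submodule.add_mem _ ha hb

theorem exists_incl {w : CliffordAlgebra (oddQ S.B m)} (hw : w ∈ evenOdd (oddQ S.B m) 0) :
    ∃ y, S.E (S.incl y) = w := by
  have h : ∀ y : S.B ⊗[A] CliffordAlgebra Q, ∃ z u, S.incl z + u = y ∧ S.E u ∈ evenOdd (oddQ S.B m) 1 := by
    intro y
    induction y with
    | zero => exact ⟨0, 0, by simp, by simp⟩
    | tmul r x =>
      obtain ⟨x0, h0, x1, h1, rfl⟩ := Splitting.exists_even_add_odd x
      refine ⟨r ⊗ₜ ⟨x0, h0⟩, r ⊗ₜ x1, by simp [incl, TensorProduct.tmul_add], ?_⟩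
      rw [show r ⊗ₜ[A] x1 = r • ((1 : S.B) ⊗ₜ[A] x1) by simp [TensorProduct.smul_tmul'], map_smul]
      exact Submodule.smul_mem _ r (S.mem_evenOdd h1)
    | add a b ha hb =>
      obtain ⟨z, u, rfl, hu⟩ := ha
      obtain ⟨z', u', rfl, hu'⟩ := hb
      exact ⟨z + z', u + u', by rw [map_add]; abel, by rw [map_add]; exact Submodule.add_mem _ hu hu'⟩
  obtain ⟨z, u, hzu, hu⟩ := h (S.E.symm w)
  refine ⟨z, ?_⟩
  have e : S.E (S.incl z) + S.E u = w := by rw [← map_add, hzu, AlgEquiv.apply_symm_apply]
  have h0 : S.E u ∈ evenOdd (oddQ S.B m) 0 := by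
    rw [eq_sub_of_add_eq' e]; exact Submodule.sub_mem _ hw (S.incl_even z)
  rwa [S.eq_zero_of_even_odd h0 hu, add_zero] at e

/-- The even part as a matrix algebra. -/
noncomputable def evHom : S.B ⊗[A] CliffordAlgebra.even Q →ₐ[S.B] Matrix (Fin m → Bool) (Fin m → Bool) S.B where
  toFun y := reM (Psi (S.E (S.incl y))) + imM (Psi (S.E (S.incl y)))
  map_one' := by
    simp only [map_one]
    ext s t
    simp only [Matrix.add_apply, reM_apply, imM_apply, Matrix.one_apply]
    split_ifs with h <;> simp [h, QuadraticAlgebra.re_one, QuadraticAlgebra.im_one, QuadraticAlgebra.re_zero, QuadraticAlgebra.im_zero]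
  map_mul' y z := by
    simp only [map_mul S.incl, map_mul S.E, map_mul Psi, reM_mul, imM_mul, add_mul, mul_add]
    abel
  map_zero' := by simp only [map_zero, add_zero]
  map_add' y z := by simp only [map_add]; abel
  commutes' r := by simp only [AlgHom.commutes, AlgEquiv.commutes, reM_algebraMap, imM_algebraMap, add_zero]

theorem evHom_bijective : Function.Bijective S.evHom := by
  classical
  constructor
  · rw [injective_iff_map_eq_zero]
    intro y hy
    obtain ⟨hp, hf⟩ := Psi_even (S.incl_even y)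
    set M := Psi (S.E (S.incl y)) with hM
    have h0 : reM M + imM M = 0 := hy
    have hr : reM M = 0 := eq_zero_of_pres_flip hp (fun s t h => by
      have := congrFun (congrFun h0 s) t
      rwa [Matrix.add_apply, hf s t h, add_zero] at this)
    rw [hr, zero_add] at h0
    have hM0 : M = 0 := ext2 (by rw [hr, map_zero]) (by rw [h0, map_zero])
    apply S.incl_injective
    apply S.E.injective
    apply (PsiEquiv (R := S.B) (m := m)).injective
    rw [map_zero, map_zero, map_zero]
    exact hM0
  · intro N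
    let N0 : Matrix (Fin m → Bool) (Fin m → Bool) S.B := Matrix.of fun s t => if par s = par t then N s t else 0
    let N1 : Matrix (Fin m → Bool) (Fin m → Bool) S.B := Matrix.of fun s t => if par s = par t then 0 else N s t
    have h0 : Pres par N0 := fun s t h => by simp [N0, h]
    have h1 : Flip par N1 := fun s t h => by simp [N1, h]
    obtain ⟨w0, hw0, w1, hw1, hw⟩ := Splitting.exists_even_add_odd ((PsiEquiv (R := S.B) (m := m)).symm (mk2 N0 N1))
    have e : Psi w0 + Psi w1 = mk2 N0 N1 := by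
      rw [← map_add, hw]; exact (PsiEquiv (R := S.B) (m := m)).apply_symm_apply _
    obtain ⟨hp, hf⟩ := Psi_even hw0
    obtain ⟨hf', hp'⟩ := Psi_odd hw1
    have z1 : reM (Psi w1) = 0 := eq_zero_of_pres_flip (fun s t h => by
      have := congrFun (congrFun (congrArg reM e) s) t
      rwa [map_add, reM_mk2, Matrix.add_apply, hp s t h, zero_add, h0 s t h] at this) hf'
    have z2 : imM (Psi w1) = 0 := eq_zero_of_pres_flip hp' (fun s t h => by
      have := congrFun (congrFun (congrArg imM e) s) t
      rwa [map_add, imM_mk2, Matrix.add_apply, hf s t h, zero_add, h1 s t h] at this)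
    rw [show Psi w1 = 0 from ext2 (by rw [z1, map_zero]) (by rw [z2, map_zero]), add_zero] at e
    obtain ⟨y, hy⟩ := S.exists_incl hw0
    refine ⟨y, ?_⟩
    show reM (Psi (S.E (S.incl y))) + imM (Psi (S.E (S.incl y))) = N
    rw [hy, e, reM_mk2, imM_mk2]
    ext s t
    by_cases h : par s = par t <;> simp [N0, N1, h]

/-- The even part as a matrix algebra. -/
noncomputable def ev : S.B ⊗[A] CliffordAlgebra.even Q ≃ₐ[S.B] Matrix (Fin m → Bool) (Fin m → Bool) S.B :=
  AlgEquiv.ofBijective S.evHom S.evHom_bijective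

theorem exists_combination {w : CliffordAlgebra (oddQ S.B m)} (hw : ∀ y, Commute w y) :
    ∃ p q : S.B, w = p • 1 + q • z₀ := by
  classical
  obtain ⟨d, hd⟩ : Psi w ∈ Set.range (Matrix.scalar (Fin m → Bool)) :=
    Matrix.mem_range_scalar_of_commute_single fun i j _ => by
      obtain ⟨y, hy⟩ := (PsiEquiv (R := S.B) (m := m)).surjective (Matrix.single i j 1)
      rw [← hy]
      exact ((hw y).map (PsiEquiv (R := S.B) (m := m))).symm
  refine ⟨d.re, d.im, ?_⟩
  apply (PsiEquiv (R := S.B) (m := m)).injective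
  show Psi w = Psi _
  rw [map_add, map_smul, map_smul, map_one, Psi_z₀, ← hd]
  apply ext2 <;> ext s t <;> by_cases h : s = t <;>
    simp [reM_apply, imM_apply, mk2, Matrix.one_apply, h, QuadraticAlgebra.re_one, QuadraticAlgebra.im_one]

theorem z₀_comm (y : CliffordAlgebra (oddQ S.B m)) : Commute z₀ y := by
  apply Commute.of_map (f := (PsiEquiv (R := S.B) (m := m))) (PsiEquiv (R := S.B) (m := m)).injective
  show Commute (Psi z₀) (Psi y)
  rw [Psi_z₀, Commute, SemiconjBy]
  apply ext2 <;> simp [reM_mul, imM_mul]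

theorem z₀_sq : (z₀ : CliffordAlgebra (oddQ S.B m)) * z₀ = 1 := by
  apply (PsiEquiv (R := S.B) (m := m)).injective
  show Psi ((z₀ : CliffordAlgebra (oddQ S.B m)) * z₀) = Psi (1 : CliffordAlgebra (oddQ S.B m))
  rw [map_mul, map_one, Psi_z₀, ← map_one (algebraMap S.B (Matrix (Fin m → Bool) (Fin m → Bool) (Dq S.B)))]
  apply ext2
  · rw [reM_mul, reM_algebraMap, map_one, reM_mk2, imM_mk2]; simp
  · rw [imM_mul, imM_algebraMap, reM_mk2, imM_mk2]; simp

theorem z₀_odd : (z₀ : CliffordAlgebra (oddQ S.B m)) ∈ evenOdd (oddQ S.B m) 1 := by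
  obtain ⟨w0, hw0, w1, hw1, hw⟩ := Splitting.exists_even_add_odd (z₀ : CliffordAlgebra (oddQ S.B m))
  have e : Psi w0 + Psi w1 = mk2 0 1 := by rw [← map_add, hw, Psi_z₀]
  obtain ⟨hp, hf⟩ := Psi_even hw0
  obtain ⟨hf', hp'⟩ := Psi_odd hw1
  have e1 : reM (Psi w0) = 0 := eq_zero_of_pres_flip hp (fun s t h => by
    have := congrFun (congrFun (congrArg reM e) s) t
    rwa [map_add, reM_mk2, Matrix.add_apply, hf' s t h, add_zero] at this)
  have e2 : imM (Psi w0) = 0 := eq_zero_of_pres_flip (fun s t h => by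
    have := congrFun (congrFun (congrArg imM e) s) t
    rwa [map_add, imM_mk2, Matrix.add_apply, hp' s t h, add_zero, Matrix.one_apply_ne fun h' => h (congrArg par h')] at this) hf
  have : w0 = 0 := (PsiEquiv (R := S.B) (m := m)).injective (by
    rw [map_zero]; exact ext2 (by rw [map_zero]; exact e1) (by rw [map_zero]; exact e2))
  rw [← hw, this, zero_add]
  exact hw1

theorem eq_smul_one_of_even {w : CliffordAlgebra (oddQ S.B m)} (hw : ∀ y, Commute w y)
    (h0 : w ∈ evenOdd (oddQ S.B m) 0) : ∃ p : S.B, w = p • 1 := by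
  obtain ⟨p, q, rfl⟩ := S.exists_combination hw
  refine ⟨p, ?_⟩
  have : q • (z₀ : CliffordAlgebra (oddQ S.B m)) = 0 := by
    refine S.eq_zero_of_even_odd ?_ (Submodule.smul_mem _ _ S.z₀_odd)
    rw [show q • (z₀ : CliffordAlgebra (oddQ S.B m)) = (p • 1 + q • z₀) - p • 1 by abel]
    exact Submodule.sub_mem _ h0 (Submodule.smul_mem _ _ (SetLike.one_mem_graded _))
  rw [this, add_zero]

theorem eq_smul_z₀_of_odd {w : CliffordAlgebra (oddQ S.B m)} (hw : ∀ y, Commute w y)
    (h1 : w ∈ evenOdd (oddQ S.B m) 1) : ∃ q : S.B, w = q • z₀ := by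
  obtain ⟨p, q, rfl⟩ := S.exists_combination hw
  refine ⟨q, ?_⟩
  have : p • (1 : CliffordAlgebra (oddQ S.B m)) = 0 := by
    refine S.eq_zero_of_even_odd (Submodule.smul_mem _ _ (SetLike.one_mem_graded _)) ?_
    rw [show p • (1 : CliffordAlgebra (oddQ S.B m)) = (p • 1 + q • z₀) - q • z₀ by abel]
    exact Submodule.sub_mem _ h1 (Submodule.smul_mem _ _ S.z₀_odd)
  rw [this, zero_add]

theorem commute_image {x : CliffordAlgebra Q} (hx : x ∈ Subalgebra.center A (CliffordAlgebra Q))
    (y : CliffordAlgebra (oddQ S.B m)) : Commute (S.E (1 ⊗ₜ x)) y := by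
  obtain ⟨y, rfl⟩ := S.E.surjective y
  refine Commute.map ?_ S.E
  induction y with
  | zero => exact Commute.zero_right _
  | add a b ha hb => exact ha.add_right hb
  | tmul r w =>
    rw [Commute, SemiconjBy, Algebra.TensorProduct.tmul_mul_tmul, Algebra.TensorProduct.tmul_mul_tmul,
      mul_comm (1 : S.B), Subalgebra.mem_center_iff.1 hx w]

include S in
theorem even_center_mem_range {x : CliffordAlgebra Q} (hx : x ∈ Subalgebra.center A (CliffordAlgebra Q))
    (h0 : x ∈ evenOdd Q 0) : x ∈ (algebraMap A (CliffordAlgebra Q)).range := by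
  haveI := S.ffl
  obtain ⟨p, hp⟩ := S.eq_smul_one_of_even (S.commute_image hx) (S.mem_evenOdd h0)
  refine mem_range_of_one_tmul (B := S.B) x p (S.E.injective ?_)
  rw [hp, ← map_one S.E, ← map_smul, Algebra.TensorProduct.one_def, TensorProduct.smul_tmul', smul_eq_mul, mul_one]

include S in
theorem star_of_odd_center {x : CliffordAlgebra Q} (hx : x ∈ Subalgebra.center A (CliffordAlgebra Q))
    (h1 : x ∈ evenOdd Q 1) : star x = ((-1 : A) ^ (m + 1)) • x := by
  haveI := S.ffl
  obtain ⟨q, hq⟩ := S.eq_smul_z₀_of_odd (S.commute_image hx) (S.mem_evenOdd h1)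
  apply Module.FaithfullyFlat.tensorProduct_mk_injective (A := A) (B := S.B)
  show (1 : S.B) ⊗ₜ[A] star x = (1 : S.B) ⊗ₜ[A] _
  apply S.E.injective
  rw [S.star_E, hq, CliffordAlgebra.star_smul, star_z₀, TensorProduct.tmul_smul, ← algebraMap_smul S.B ((-1 : A) ^ (m + 1)) ((1 : S.B) ⊗ₜ[A] x),
    map_smul, hq, smul_smul, smul_smul, map_pow, map_neg, map_one, mul_comm]

/-- Commutators with the basis vectors. -/
noncomputable def comm : CliffordAlgebra Q →ₗ[A] (Fin (2 * m + 1) → CliffordAlgebra Q) :=
  LinearMap.pi fun i =>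
    LinearMap.mulRight A (ι Q (S.b i)) - LinearMap.mulLeft A (ι Q (S.b i))

theorem exists_center_preimage {w : CliffordAlgebra (oddQ S.B m)} (hw : ∀ y, Commute w y) :
    ∃ u : S.B ⊗[A] Subalgebra.center A (CliffordAlgebra Q),
      S.E (Algebra.TensorProduct.map (AlgHom.id S.B S.B) (Subalgebra.center A (CliffordAlgebra Q)).val u) = w := by
  haveI := S.ffl
  have hexact : Function.Exact (Subalgebra.center A (CliffordAlgebra Q)).val.toLinearMap S.comm := by
    intro z
    constructor
    · intro hz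
      refine ⟨⟨z, Subalgebra.mem_center_iff.2 fun y => ?_⟩, rfl⟩
      have hb : ∀ i, Commute z (ι Q (S.b i)) := fun i => sub_eq_zero.1 (congrFun hz i)
      induction y using CliffordAlgebra.induction with
      | algebraMap r => exact Algebra.commutes r z
      | ι v =>
        rw [← S.b.sum_repr v, map_sum, Finset.sum_mul, Finset.mul_sum]
        exact Finset.sum_congr rfl fun i _ => by rw [map_smul, smul_mul_assoc, mul_smul_comm, (hb i).eq]
      | mul a b ha hb => rw [mul_assoc, hb, ← mul_assoc, ha, mul_assoc]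
      | add a b ha hb => rw [add_mul, mul_add, ha, hb]
    · rintro ⟨w, rfl⟩
      funext i
      exact sub_eq_zero.2 (Subalgebra.mem_center_iff.1 w.2 _).symm
  set y := S.E.symm w with hy
  have hyc : ∀ x, Commute y x := fun x => by
    have h := (hw (S.E x)).map S.E.symm
    rwa [AlgEquiv.symm_apply_apply] at h
  have hzero : S.comm.lTensor S.B y = 0 := by
    apply (TensorProduct.piRight A A S.B fun _ => CliffordAlgebra Q).injective
    rw [map_zero]
    funext i
    have key : ∀ y', TensorProduct.piRight A A S.B (fun _ => CliffordAlgebra Q)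
        (S.comm.lTensor S.B y') i = y' * (1 ⊗ₜ ι Q (S.b i)) - (1 ⊗ₜ ι Q (S.b i)) * y' := by
      intro y'
      induction y' with
      | zero => simp
      | tmul r'' w => simp [comm, TensorProduct.tmul_sub]
      | add a b ha hb => simp only [map_add, Pi.add_apply, ha, hb, add_mul, mul_add]; abel
    rw [key, (hyc _).eq, sub_self, Pi.zero_apply]
  obtain ⟨u, hu⟩ := ((Module.Flat.lTensor_exact S.B hexact) y).1 hzero
  refine ⟨u, ?_⟩
  rw [← AlgEquiv.apply_symm_apply S.E w, ← hy, ← hu]
  congr 1

/-- The pairing of base changed centre and even part. -/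
noncomputable def pair (u : S.B ⊗[A] Subalgebra.center A (CliffordAlgebra Q))
    (y : S.B ⊗[A] CliffordAlgebra.even Q) :
    S.B ⊗[A] (Subalgebra.center A (CliffordAlgebra Q) ⊗[A] CliffordAlgebra.even Q) :=
  (TensorProduct.AlgebraTensorModule.distribBaseChange A S.B _ _).symm (u ⊗ₜ y)

theorem pair_tmul (r r' : S.B) (z : Subalgebra.center A (CliffordAlgebra Q)) (x : CliffordAlgebra.even Q) :
    S.pair (r ⊗ₜ z) (r' ⊗ₜ x) = (r * r') ⊗ₜ (z ⊗ₜ x) := by
  rw [pair, LinearEquiv.symm_apply_eq]
  simp [TensorProduct.AlgebraTensorModule.distribBaseChange, TensorProduct.smul_tmul']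
  rw [mul_comm, show (r' * r) ⊗ₜ[A] z = r' • (r ⊗ₜ[A] z) by rw [TensorProduct.smul_tmul', smul_eq_mul],
    TensorProduct.smul_tmul, TensorProduct.smul_tmul', smul_eq_mul, mul_one]

include S in
theorem bijective_mul (μ : Subalgebra.center A (CliffordAlgebra Q) ⊗[A] CliffordAlgebra.even Q →ₗ[A] CliffordAlgebra Q)
    (hμ : ∀ z x, μ (z ⊗ₜ x) = (z : CliffordAlgebra Q) * (x : CliffordAlgebra Q)) : Function.Bijective μ := by
  haveI := S.ffl
  refine (Module.FaithfullyFlat.lTensor_bijective_iff_bijective A S.B μ).1 ?_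
  let val := Algebra.TensorProduct.map (AlgHom.id S.B S.B) (Subalgebra.center A (CliffordAlgebra Q)).val
  have hpair : ∀ u y, S.E (μ.lTensor S.B (S.pair u y)) = S.E (val u) * S.E (S.incl y) := by
    intro u y
    rw [← map_mul]
    congr 1
    induction u with
    | zero => simp [pair]
    | add a b ha hb =>
      rw [show S.pair (a + b) y = S.pair a y + S.pair b y by simp [pair, TensorProduct.add_tmul], map_add, ha, hb,
        map_add, add_mul]
    | tmul r z =>
      induction y with
      | zero => simp [pair]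
      | add a b ha hb =>
        rw [show S.pair (r ⊗ₜ z) (a + b) = S.pair (r ⊗ₜ z) a + S.pair (r ⊗ₜ z) b by simp [pair, TensorProduct.tmul_add],
          map_add, ha, hb, map_add, mul_add]
      | tmul r' x =>
        rw [S.pair_tmul, LinearMap.lTensor_tmul, hμ]
        simp [val, incl]
  obtain ⟨ζ, hζ⟩ := S.exists_center_preimage S.z₀_comm
  have hval1 : S.E (val 1) = 1 := by rw [map_one, map_one]
  constructor
  · have hσ : ∀ q, ∃ e e', q = S.pair 1 e + S.pair ζ e' := by
      intro q
      induction q with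
      | zero => exact ⟨0, 0, by simp [pair]⟩
      | add a b ha hb =>
        obtain ⟨e, e', rfl⟩ := ha
        obtain ⟨g, g', rfl⟩ := hb
        exact ⟨e + g, e' + g', by simp only [pair, TensorProduct.tmul_add, map_add]; abel⟩
      | tmul r t =>
        induction t with
        | zero => exact ⟨0, 0, by simp [pair]⟩
        | add a b ha hb =>
          obtain ⟨e, e', ha⟩ := ha
          obtain ⟨g, g', hb⟩ := hb
          exact ⟨e + g, e' + g', by rw [TensorProduct.tmul_add, ha, hb]; simp only [pair, TensorProduct.tmul_add, map_add]; abel⟩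
        | tmul z x =>
          obtain ⟨p, q, hpq⟩ := S.exists_combination (S.commute_image z.2)
          have hz : (1 : S.B) ⊗ₜ[A] z = p • 1 + q • ζ := by
            have hinj : Function.Injective val := by
              have h := Module.Flat.lTensor_preserves_injective_linearMap (M := S.B)
                (Subalgebra.center A (CliffordAlgebra Q)).val.toLinearMap Subtype.val_injective
              convert h using 1
              funext y
              induction y with
              | zero => simp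
              | tmul r x => simp [val]
              | add a b ha hb => rw [map_add, map_add, ha, hb]
            apply hinj
            apply S.E.injective
            rw [map_add, map_add, map_smul, map_smul, map_smul, map_smul, hval1, hζ, ← hpq]
            simp [val]
          refine ⟨p • (r ⊗ₜ x), q • (r ⊗ₜ x), ?_⟩
          rw [show r ⊗ₜ[A] (z ⊗ₜ[A] x) = S.pair (1 ⊗ₜ z) (r ⊗ₜ x) by rw [S.pair_tmul, one_mul], hz]
          simp only [pair, TensorProduct.add_tmul, map_add]
          rw [TensorProduct.smul_tmul, TensorProduct.smul_tmul]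
    rw [injective_iff_map_eq_zero]
    intro q hq
    obtain ⟨e, e', rfl⟩ := hσ q
    have h := congrArg S.E hq
    rw [map_add, map_add, hpair, hpair, hval1, hζ, one_mul, map_zero] at h
    have hodd : z₀ * S.E (S.incl e') ∈ evenOdd (oddQ S.B m) 1 :=
      add_zero (1 : ZMod 2) ▸ SetLike.mul_mem_graded S.z₀_odd (S.incl_even e')
    have h0 : S.E (S.incl e) = 0 := S.eq_zero_of_even_odd (S.incl_even e) (by
      rw [eq_neg_of_add_eq_zero_left h]; exact Submodule.neg_mem _ hodd)
    rw [h0, zero_add] at h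
    have h0' : S.E (S.incl e') = 0 := by
      have := congrArg (fun x => z₀ * x) h
      simpa [← mul_assoc, S.z₀_sq] using this
    rw [S.incl_injective (S.E.injective (by rw [h0, map_zero, map_zero]) : S.incl e = S.incl 0),
      S.incl_injective (S.E.injective (by rw [h0', map_zero, map_zero]) : S.incl e' = S.incl 0)]
    simp [pair]
  · intro y
    obtain ⟨w0, hw0, w1, hw1, hw⟩ := Splitting.exists_even_add_odd (S.E y)
    have he : z₀ * w1 ∈ evenOdd (oddQ S.B m) 0 := by
      have h := SetLike.mul_mem_graded (A := evenOdd (oddQ S.B m)) S.z₀_odd hw1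
      rwa [show (1 : ZMod 2) + 1 = 0 from rfl] at h
    obtain ⟨e, hee⟩ := S.exists_incl hw0
    obtain ⟨e', hee'⟩ := S.exists_incl he
    refine ⟨S.pair 1 e + S.pair ζ e', S.E.injective ?_⟩
    rw [map_add, map_add, hpair, hpair, hval1, hζ, one_mul, hee, hee', ← mul_assoc, S.z₀_sq, one_mul, hw]

end OddSplitting

end QSplit86
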