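import Groth.Agent.QSplit86.Dickson
import Groth.Agent.QSplit86.OddStructure
import Groth.Agent.S16999

/-!
# Units normalising the module in odd rank
-/

set_option autoImplicit false
set_option maxHeartbeats 1600000
set_option synthInstance.maxHeartbeats 200000
universe u v

open scoped TensorProduct
open CliffordAlgebra

namespace QSplit86

variable {R : Type u} [CommRing R] {M : Type v} [AddCommGroup M] [Module R M] {Q : QuadraticForm R M}

section Top

variable {N : Type*} [AddCommGroup N] [Module R N] {k : ℕ} (φ : CliffordAlgebra Q →ₗ[R] N)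
  (hφ : ∀ x ∈ short Q k, φ x = 0) (b : Module.Basis (Fin k) R M)
include hφ

/-- A functional killing short products, as an alternating map. -/
noncomputable def topMap : AlternatingMap R M N (Fin k) where
  toMultilinearMap := φ.compMultilinearMap
    ((MultilinearMap.mkPiAlgebraFin R k (CliffordAlgebra Q)).compLinearMap fun _ => ι Q)
  map_eq_zero_of_eq' v i j hij hne := by
    have h : φ (word Q (List.ofFn v)) = 0 := by
      apply hφ
      have hnd : ¬ (List.ofFn v).Nodup := fun h => hne (List.nodup_ofFn.1 h hij)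
      simpa using word_mem_short_of_not_nodup (Q := Q) hnd
    simpa [word, List.map_ofFn, Function.comp_def] using h

theorem topMap_apply (v : Fin k → M) : topMap φ hφ v = φ (word Q (List.ofFn v)) := by
  simp [topMap, word, List.map_ofFn, Function.comp_def]

theorem apply_word_eq_det (v : Fin k → M) :
    φ (word Q (List.ofFn v)) = b.det v • φ (word Q (List.ofFn b)) := by
  classical
  rw [← topMap_apply φ hφ, ← topMap_apply φ hφ]
  have : topMap φ hφ = (LinearMap.toSpanSingleton R N (topMap φ hφ b)).compAlternatingMap b.det := by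
    refine b.ext_alternating fun i hi => ?_
    let σ : Equiv.Perm (Fin k) := Equiv.ofBijective i (Finite.injective_iff_bijective.1 hi)
    show topMap φ hφ (b ∘ σ) = b.det (b ∘ σ) • topMap φ hφ b
    rw [AlternatingMap.map_perm, AlternatingMap.map_perm, b.det_self]
    simp [Units.smul_def, Int.cast_smul_eq_zsmul]
  exact DFunLike.congr_fun this v

theorem exists_apply_eq_smul (x : CliffordAlgebra Q) : ∃ c : R, φ x = c • φ (word Q (List.ofFn b)) := by
  classical
  have hx : x ∈ Submodule.span R {x : CliffordAlgebra Q | ∃ l : List (Fin k), l.Nodup ∧ x = word Q (l.map b)} := by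
    rw [span_nodup_eq_top]; exact Submodule.mem_top
  refine Submodule.span_induction ?_ ?_ ?_ ?_ hx
  · rintro _ ⟨l, hl, rfl⟩
    by_cases hlk : l.length < k
    · exact ⟨0, by rw [zero_smul, hφ _ (Submodule.subset_span ⟨l.map b, by simpa using hlk, rfl⟩)]⟩
    · have hlen : l.length = k := le_antisymm (by simpa using hl.length_le_card) (not_lt.1 hlk)
      refine ⟨b.det fun i => b (l.get (i.cast hlen.symm)), ?_⟩
      rw [← apply_word_eq_det φ hφ b]
      congr 2
      apply List.ext_getElem
      · simp [hlen]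
      · intro i h1 h2
        simp
  · exact ⟨0, by simp⟩
  · rintro y z _ _ ⟨c, hc⟩ ⟨c', hc'⟩; exact ⟨c + c', by rw [map_add, hc, hc', add_smul]⟩
  · rintro r y _ ⟨c, hc⟩; exact ⟨r * c, by rw [map_smul, hc, mul_smul]⟩

end Top

/-- An isometry as an automorphism of the even subalgebra. -/
noncomputable def evenEquiv (g : M ≃ₗ[R] M) (hg : g ∈ QuadGrp.O Q) :
    CliffordAlgebra.even Q ≃ₐ[R] CliffordAlgebra.even Q :=
  AlgEquiv.ofAlgHom
    (((mapEquiv g hg).toAlgHom.comp (CliffordAlgebra.even Q).val).codRestrict (CliffordAlgebra.even Q)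
      fun x => mapEquiv_mem_evenOdd hg x.2)
    (((mapEquiv g⁻¹ ((QuadGrp.O Q).inv_mem hg)).toAlgHom.comp (CliffordAlgebra.even Q).val).codRestrict
      (CliffordAlgebra.even Q) fun x => mapEquiv_mem_evenOdd _ x.2)
    (by
      refine AlgHom.ext fun x => Subtype.ext ?_
      show mapEquiv g hg (mapEquiv g⁻¹ _ (x : CliffordAlgebra Q)) = x
      generalize (x : CliffordAlgebra Q) = y
      induction y using CliffordAlgebra.induction with
      | algebraMap r => simp
      | ι v => rw [mapEquiv_ι, mapEquiv_ι]; exact congrArg _ (LinearEquiv.apply_symm_apply g v)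
      | mul a b ha hb => rw [map_mul, map_mul, ha, hb]
      | add a b ha hb => rw [map_add, map_add, ha, hb])
    (by
      refine AlgHom.ext fun x => Subtype.ext ?_
      show mapEquiv g⁻¹ _ (mapEquiv g hg (x : CliffordAlgebra Q)) = x
      generalize (x : CliffordAlgebra Q) = y
      induction y using CliffordAlgebra.induction with
      | algebraMap r => simp
      | ι v => rw [mapEquiv_ι, mapEquiv_ι]; exact congrArg _ (LinearEquiv.symm_apply_apply g v)
      | mul a b ha hb => rw [map_mul, map_mul, ha, hb]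
      | add a b ha hb => rw [map_add, map_add, ha, hb])

theorem evenEquiv_coe (g : M ≃ₗ[R] M) (hg : g ∈ QuadGrp.O Q) (x : CliffordAlgebra.even Q) :
    (evenEquiv g hg x : CliffordAlgebra Q) = mapEquiv g hg (x : CliffordAlgebra Q) := rfl

section Model

variable {m : ℕ}

/-- The trace of the odd part. -/
noncomputable def itr : CliffordAlgebra (oddQ R m) →ₗ[R] R :=
  (Matrix.traceLinearMap (Fin m → Bool) R R).comp (imM.comp Psi.toLinearMap)

theorem itr_apply (w : CliffordAlgebra (oddQ R m)) : itr w = Matrix.trace (imM (Psi w)) := rfl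

theorem itr_mul_comm (v w : CliffordAlgebra (oddQ R m)) : itr (v * w) = itr (w * v) := by
  rw [itr_apply, itr_apply, map_mul Psi, map_mul Psi, imM_mul, imM_mul, Matrix.trace_add, Matrix.trace_add,
    Matrix.trace_mul_comm (reM (Psi v)), Matrix.trace_mul_comm (imM (Psi v)), add_comm]

theorem itr_even {w : CliffordAlgebra (oddQ R m)} (hw : w ∈ evenOdd (oddQ R m) 0) : itr w = 0 := by
  rw [itr_apply]
  exact Finset.sum_eq_zero fun s _ => (Psi_even hw).2 s s rfl

theorem polar_oddQ (x y : Option (I m) → R) : QuadraticMap.polar (oddQ R m) x y =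
    2 * x none * y none + ∑ j, (x (some (.inl j)) * y (some (.inr j)) + y (some (.inl j)) * x (some (.inr j))) := by
  simp only [QuadraticMap.polar, oddQ_apply, hyp, Pi.add_apply, add_mul, mul_add, Finset.sum_add_distrib]
  ring

theorem itr_short {w : CliffordAlgebra (oddQ R m)} (hw : w ∈ short (oddQ R m) (2 * m + 1)) : itr w = 0 := by
  classical
  let e := Pi.basisFun R (Option (I m))
  refine (Submodule.span_le (p := LinearMap.ker itr)).2 ?_ hw
  rintro _ ⟨l, hl, rfl⟩
  refine (Submodule.span_le (p := LinearMap.ker itr)).2 ?_ (word_mem_span_index e l)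
  rintro _ ⟨l', hl', rfl⟩
  rw [SetLike.mem_coe, LinearMap.mem_ker]
  rcases Nat.even_or_odd l'.length with hev | hodd
  · refine itr_even ?_
    have := word_mem_evenOdd (Q := oddQ R m) (l'.map e)
    rwa [List.length_map, ZMod.natCast_eq_zero_iff_even.2 hev] at this
  obtain ⟨i, hi⟩ : ∃ i, i ∉ l' := by
    by_contra h
    push Not at h
    have := (Finset.card_le_card (s := Finset.univ) (t := l'.toFinset) fun i _ => List.mem_toFinset.2 (h i)).trans
      (List.toFinset_card_le l')
    simp at this
    omega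
  rcases i with _ | i
  · have hrange : ∀ l' : List (Option (I m)), none ∉ l' →
        ∃ A, jinc A = word (oddQ R m) (l'.map e) := by
      intro l'
      induction l' with
      | nil => exact fun _ => ⟨1, by simp⟩
      | cons o t ih =>
        intro h
        rw [List.mem_cons, not_or] at h
        obtain ⟨A, hA⟩ := ih h.2
        obtain ⟨j, rfl⟩ := Option.ne_none_iff_exists'.1 (Ne.symm h.1)
        refine ⟨ι (hypQ R m) (Pi.single j 1) * A, ?_⟩
        rw [map_mul, hA, jinc_ι, List.map_cons, word_cons]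
        congr 2
        funext r
        cases r <;> simp [e, mkv, Pi.single_apply]
    obtain ⟨A, hA⟩ := hrange l' hi
    rw [← hA, itr_apply, Psi_jinc, imM_mk2, Matrix.trace_zero]
  · let c : Option (I m) → R := Pi.single (some i.swap) 1
    have hc : ∀ o, QuadraticMap.polar (oddQ R m) c (e o) = if o = some i then 1 else 0 := by
      intro o
      rw [polar_oddQ]
      rcases o with _ | (j | j) <;> rcases i with i | i <;>
        simp [c, e, Pi.single_apply, eq_comm]
    have hperp : ∀ x ∈ l'.map e, QuadraticMap.polar (oddQ R m) c x = 0 := by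
      intro x hx
      obtain ⟨o, ho, rfl⟩ := List.mem_map.1 hx
      rw [hc, if_neg (by rintro rfl; exact hi ho)]
    set P := word (oddQ R m) (l'.map e) with hP
    have h : ι (oddQ R m) c * (ι (oddQ R m) (e (some i)) * P) =
        P + ι (oddQ R m) (e (some i)) * P * ι (oddQ R m) c := by
      rw [← mul_assoc, ι_mul_ι_comm, hc, if_pos rfl, map_one, sub_mul, one_mul, mul_assoc, hP,
        anti_word _ _ hperp, List.length_map, Odd.neg_one_pow hodd, neg_smul, one_smul, mul_neg, sub_neg_eq_add,
        ← mul_assoc]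
    have h' := congrArg itr h
    rw [map_add, itr_mul_comm] at h'
    linear_combination -h'

theorem itr_z₀_jinc (X : Matrix (Fin m → Bool) (Fin m → Bool) R) :
    itr (z₀ * jinc ((Phi R m).symm X)) = Matrix.trace X := by
  rw [itr_apply, map_mul, Psi_z₀, Psi_jinc, AlgEquiv.apply_symm_apply, imM_mul]
  simp

end Model

namespace OddSplitting

variable {m : ℕ} (S : OddSplitting Q m)

/-- The trace of the odd part after splitting. -/
noncomputable def tr : CliffordAlgebra Q →ₗ[R] S.B :=
  ((itr (R := S.B) (m := m)).comp S.E.toLinearMap).restrictScalars R ∘ₗ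
    (TensorProduct.mk R S.B (CliffordAlgebra Q) 1)

theorem tr_apply (x : CliffordAlgebra Q) : S.tr x = itr (S.E (1 ⊗ₜ x)) := rfl

theorem E_word (l : List M) : S.E (1 ⊗ₜ word Q l) = word (oddQ S.B m) (l.map S.lw) := by
  induction l with
  | nil => rw [List.map_nil, word_nil, word_nil, ← Algebra.TensorProduct.one_def, map_one]
  | cons x t ih =>
    rw [List.map_cons, word_cons, word_cons, ← ih, ← S.hE, ← map_mul, Algebra.TensorProduct.tmul_mul_tmul, one_mul]

theorem tr_short {x : CliffordAlgebra Q} (hx : x ∈ short Q (2 * m + 1)) : S.tr x = 0 := by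
  refine (Submodule.span_le (p := LinearMap.ker S.tr)).2 ?_ hx
  rintro _ ⟨l, hl, rfl⟩
  rw [SetLike.mem_coe, LinearMap.mem_ker, tr_apply, E_word]
  exact itr_short (Submodule.subset_span ⟨l.map S.lw, by simpa using hl, rfl⟩)

theorem tr_conj (u : (CliffordAlgebra Q)ˣ) (x : CliffordAlgebra Q) :
    S.tr ((u : CliffordAlgebra Q) * x * ↑u⁻¹) = S.tr x := by
  have hm : ∀ a c : CliffordAlgebra Q, S.E (1 ⊗ₜ (a * c)) = S.E (1 ⊗ₜ a) * S.E (1 ⊗ₜ c) := fun a c => by
    rw [← map_mul, Algebra.TensorProduct.tmul_mul_tmul, one_mul]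
  rw [tr_apply, tr_apply, hm, itr_mul_comm, ← hm, ← mul_assoc, Units.inv_mul, one_mul]

theorem isUnit_tr (b : Module.Basis (Fin (2 * m + 1)) R M) : IsUnit (S.tr (word Q (List.ofFn b))) := by
  set t := S.tr (word Q (List.ofFn b))
  have hall : ∀ w : CliffordAlgebra (oddQ S.B m), itr w ∈ Ideal.span {t} := by
    intro w
    obtain ⟨y, rfl⟩ := S.E.surjective w
    induction y with
    | zero => simp
    | add a c ha hc => rw [map_add, map_add]; exact Ideal.add_mem _ ha hc
    | tmul r x =>
      rw [show r ⊗ₜ[R] x = r • ((1 : S.B) ⊗ₜ[R] x) by simp [TensorProduct.smul_tmul'], map_smul, map_smul,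
        smul_eq_mul, ← tr_apply]
      obtain ⟨c, hc⟩ := exists_apply_eq_smul S.tr (fun x => S.tr_short) b x
      rw [hc, Algebra.smul_def]
      exact Ideal.mem_span_singleton'.2 ⟨r * algebraMap R S.B c, mul_assoc _ _ _⟩
  obtain ⟨s⟩ : Nonempty (Fin m → Bool) := inferInstance
  have h := hall (z₀ * jinc ((Phi S.B m).symm (Matrix.single s s 1)))
  rw [itr_z₀_jinc, Matrix.trace_single_eq_same, Ideal.mem_span_singleton] at h
  exact isUnit_of_dvd_one h

include S in
theorem det_eq_one (b : Module.Basis (Fin (2 * m + 1)) R M) {g : M ≃ₗ[R] M} {u : (CliffordAlgebra Q)ˣ}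
    (h : ∀ v, (u : CliffordAlgebra Q) * ι Q v * ↑u⁻¹ = ι Q (g v)) :
    LinearMap.det (g : M →ₗ[R] M) = 1 := by
  classical
  haveI := S.ffl
  apply FaithfulSMul.algebraMap_injective R S.B
  have hw : ∀ l : List M, (u : CliffordAlgebra Q) * word Q l * ↑u⁻¹ = word Q (l.map g) := by
    intro l
    induction l with
    | nil => simp
    | cons x t ih => rw [List.map_cons, word_cons, word_cons, ← ih, ← h]; simp [mul_assoc]
  have e := S.tr_conj u (word Q (List.ofFn b))
  rw [hw, List.map_ofFn, apply_word_eq_det S.tr (fun x => S.tr_short) b,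
    show (g : M → M) ∘ b = (g : M →ₗ[R] M) ∘ b from rfl, Module.Basis.det_comp, b.det_self, mul_one,
    Algebra.smul_def] at e
  rw [map_one]
  exact (S.isUnit_tr b).mul_eq_right.1 e

include S in
theorem isAzumaya_even : IsAzumaya R (CliffordAlgebra.even Q) := by
  haveI := S.ffl
  haveI : IsAzumaya S.B (Matrix (Fin m → Bool) (Fin m → Bool) S.B) := IsAzumaya.matrix _ _
  haveI := IsAzumaya.of_AlgEquiv _ _ _ S.ev.symm
  exact Groth.Agent.Azu.of_baseChange_faithfullyFlat S.B

end OddSplitting

section Local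

variable [IsLocalRing R] [Module.Free R M] [Module.Finite R M]

/-- Over a local ring every isometry of determinant one comes from an even unit. -/
theorem exists_even_conj {m : ℕ} (b : Module.Basis (Fin (2 * m + 1)) R M)
    (hQ : QuadGrp.IsSemiregular b (LinearEquiv.refl R R) Q) {g : M ≃ₗ[R] M} (hg : g ∈ QuadGrp.O Q)
    (hdet : LinearMap.det (g : M →ₗ[R] M) = 1) :
    ∃ u : (CliffordAlgebra Q)ˣ, (u : CliffordAlgebra Q) ∈ evenOdd Q 0 ∧ u ∈ QuadGrp.GPin' Q ∧
      ∀ v, (u : CliffordAlgebra Q) * ι Q v * ↑u⁻¹ = ι Q (g v) := by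
  classical
  obtain ⟨S⟩ := exists_oddSplitting Q b hQ
  haveI := S.isAzumaya_even
  obtain ⟨u₀, hu₀⟩ := (Groth.Agent.S5705.result R (CliffordAlgebra.even Q) (evenEquiv g hg)).1
  let u : (CliffordAlgebra Q)ˣ := Units.map ((CliffordAlgebra.even Q).val : _ →* _) u₀
  have hu : ∀ x ∈ evenOdd Q 0, mapEquiv g hg x = (u : CliffordAlgebra Q) * x * ↑u⁻¹ := fun x hx => by
    exact congrArg Subtype.val (hu₀ ⟨x, hx⟩)
  obtain ⟨z, hz, hz1, hzu, hzz, hind, hspan⟩ := Groth.Agent.S16999.result m b Q hQ
  have hGc : mapEquiv g hg z ∈ Subalgebra.center R (CliffordAlgebra Q) :=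
    Subalgebra.mem_center_iff.2 fun y => by
      obtain ⟨y', rfl⟩ := (mapEquiv g hg).surjective y
      rw [← map_mul, ← map_mul, Subalgebra.mem_center_iff.1 hz y']
  obtain ⟨a, c, hac⟩ : ∃ a c : R, a • (1 : CliffordAlgebra Q) + c • z = mapEquiv g hg z := by
    have : mapEquiv g hg z ∈ Submodule.span R ({1, z} : Set (CliffordAlgebra Q)) := hspan ▸ hGc
    exact Submodule.mem_span_pair.1 this
  have hGz : mapEquiv g hg z = c • z := by
    have ha : a • (1 : CliffordAlgebra Q) = 0 :=
      Submodule.disjoint_def.1 (evenOdd_isCompl Q).disjoint _ (Submodule.smul_mem _ _ (SetLike.one_mem_graded _))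
        (by rw [eq_sub_of_add_eq hac]
            exact Submodule.sub_mem _ (mapEquiv_mem_evenOdd hg hz1) (Submodule.smul_mem _ _ hz1))
    rw [← hac, ha, zero_add]
  have hcc : c * c = 1 := by
    obtain ⟨r, hr⟩ := hzz
    have h := congrArg (mapEquiv g hg) hr
    rw [AlgEquiv.commutes, map_mul, hGz, smul_mul_smul_comm, ← hr, Algebra.smul_def, ← map_mul] at h
    have hru : IsUnit r := by
      have hur : IsUnit (algebraMap R (CliffordAlgebra Q) r) := hr ▸ hzu.mul hzu
      by_contra hn
      have hrm := (IsLocalRing.mem_maximalIdeal r).2 hn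
      haveI := S.ffl
      have hB : IsUnit (algebraMap R S.B r) := by
        have h2 := ((hur.map (Algebra.TensorProduct.includeRight :
          CliffordAlgebra Q →ₐ[R] S.B ⊗[R] CliffordAlgebra Q)).map S.E).map (Psi (R := S.B) (m := m))
        rw [AlgHom.commutes, IsScalarTower.algebraMap_apply R S.B (S.B ⊗[R] CliffordAlgebra Q), AlgEquiv.commutes,
          AlgHom.commutes] at h2
        obtain ⟨w, hw⟩ := h2
        obtain ⟨s⟩ : Nonempty (Fin m → Bool) := inferInstance
        refine IsUnit.of_mul_eq_one ((↑w⁻¹ : Matrix (Fin m → Bool) (Fin m → Bool) (Dq S.B)) s s).re ?_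
        have h3 := congrArg QuadraticAlgebra.re (congrFun (congrFun (w.mul_inv) s) s)
        rw [hw, ← Algebra.smul_def, Matrix.smul_apply, Matrix.one_apply_eq, QuadraticAlgebra.re_smul,
          QuadraticAlgebra.re_one, smul_eq_mul] at h3
        exact h3
      have : (Ideal.map (algebraMap R S.B) (IsLocalRing.maximalIdeal R)) = ⊤ :=
        Ideal.eq_top_of_isUnit_mem _ (Ideal.mem_map_of_mem _ hrm) hB
      have h4 := congrArg (Ideal.comap (algebraMap R S.B)) this
      rw [Ideal.comap_map_eq_self_of_faithfullyFlat, Ideal.comap_top] at h4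
      exact (IsLocalRing.maximalIdeal.isMaximal R).ne_top h4
    have := algebraMap_clifford_injective Q h
    exact hru.mul_eq_right.1 this.symm
  have hconj : ∀ v, (u : CliffordAlgebra Q) * ι Q v * ↑u⁻¹ = c • ι Q (g v) := fun v => by
    apply hzu.mul_right_injective
    show z * _ = z * _
    have hev : z * ι Q v ∈ evenOdd Q 0 := by
      have e := SetLike.mul_mem_graded hz1 (ι_mem_evenOdd_one Q v)
      rwa [show (1 : ZMod 2) + 1 = 0 from rfl] at e
    have h := hu _ hev
    rw [map_mul, hGz, mapEquiv_ι, smul_mul_assoc, ← mul_assoc (u : CliffordAlgebra Q) z,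
      Subalgebra.mem_center_iff.1 hz (u : CliffordAlgebra Q), mul_assoc z, mul_assoc z] at h
    rw [mul_smul_comm, h]
  let cu : Rˣ := ⟨c, c, hcc, hcc⟩
  let g' : M ≃ₗ[R] M := g.trans (LinearEquiv.smulOfUnit cu)
  have hg' : ∀ v, (u : CliffordAlgebra Q) * ι Q v * ↑u⁻¹ = ι Q (g' v) := fun v => by
    rw [hconj, show g' v = c • g v from rfl, map_smul]
  have hd := S.det_eq_one b hg'
  rw [show ((g' : M ≃ₗ[R] M) : M →ₗ[R] M) = c • (g : M →ₗ[R] M) from LinearMap.ext fun v => rfl,
    LinearMap.det_smul, hdet, mul_one, Module.finrank_eq_card_basis b, Fintype.card_fin, pow_succ, pow_mul,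
    sq, hcc, one_pow, one_mul] at hd
  refine ⟨u, (u₀ : CliffordAlgebra.even Q).2, mem_GPin'_of_conj g' hg', fun v => ?_⟩
  rw [hconj, hd, one_smul]

end Local

end QSplit86
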