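import Groth.Agent.QSplit86.OrthRep
import Groth.Agent.QSplit86.OddUnits
import Mathlib.LinearAlgebra.ExteriorAlgebra.Basis

/-!
# The Clifford groups as affine group schemes
-/

set_option autoImplicit false
set_option maxHeartbeats 800000
set_option synthInstance.maxHeartbeats 200000
universe u

open CategoryTheory AlgebraicGeometry TensorProduct CliffordAlgebra Groth.Agent.S17014 Groth.Agent.QuadCentre
open scoped Pointwise

namespace QSplit86

variable {R : Type u} [CommRing R] {n : ℕ}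

section Transport

variable (Q : QuadraticForm R (Fin n → R)) (A : Type u) [CommRing A] [Algebra R A]

/-- The base changed form. -/
noncomputable abbrev QA : QuadraticForm A (A ⊗[R] (Fin n → R)) := QuadGrp.baseChangeForm A Q

theorem exists_phi : ∃ e : A ⊗[R] CliffordAlgebra Q ≃ₐ[A] CliffordAlgebra (QA Q A),
    ∀ v, e (1 ⊗ₜ ι Q v) = ι (QA Q A) (1 ⊗ₜ v) := by
  classical
  obtain ⟨QB, hQB, e, he⟩ := exists_clifford_baseChange Q (Pi.basisFun R (Fin n)) (upper (stdCoeffs Q))
    (qf_upper_coeffs _ Q) A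
  let iso : (QA Q A).IsometryEquiv QB := ⟨(stdBasis A).equivFun, fun z => by
    show QB _ = QuadGrp.baseChangeForm A Q z
    rw [hQB, baseChangeForm_eq_qf, upper_map]
    rfl⟩
  refine ⟨e.trans (CliffordAlgebra.equivOfIsometry iso).symm, fun v => ?_⟩
  rw [AlgEquiv.trans_apply, he, AlgEquiv.symm_apply_eq]
  refine Eq.trans ?_ (CliffordAlgebra.map_apply_ι iso.toIsometry ((1 : A) ⊗ₜ[R] v)).symm
  congr 1
  funext i
  show _ = (stdBasis A).repr ((1 : A) ⊗ₜ[R] v) i
  simp [stdBasis, Algebra.TensorProduct.basis_repr_tmul]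

/-- Base change of the Clifford algebra. -/
noncomputable def phi : A ⊗[R] CliffordAlgebra Q ≃ₐ[A] CliffordAlgebra (QA Q A) := (exists_phi Q A).choose

theorem phi_ι (v : Fin n → R) : phi Q A (1 ⊗ₜ ι Q v) = ι (QA Q A) (1 ⊗ₜ v) := (exists_phi Q A).choose_spec v

theorem phi_baseChange_ι (z : A ⊗[R] (Fin n → R)) :
    phi Q A ((ι Q).baseChange A z) = ι (QA Q A) z := by
  induction z with
  | zero => simp
  | add x y hx hy => rw [map_add, map_add, map_add, hx, hy]
  | tmul a v =>
    rw [LinearMap.baseChange_tmul, show a ⊗ₜ[R] ι Q v = a • ((1 : A) ⊗ₜ[R] ι Q v) by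
      rw [TensorProduct.smul_tmul', smul_eq_mul, mul_one], map_smul, phi_ι, ← map_smul,
      TensorProduct.smul_tmul', smul_eq_mul, mul_one]

theorem phi_tmul_mem (a : A) {i : ZMod 2} {x : CliffordAlgebra Q} (hx : x ∈ evenOdd Q i) :
    phi Q A (a ⊗ₜ x) ∈ evenOdd (QA Q A) i := by
  rw [show a ⊗ₜ[R] x = a • ((1 : A) ⊗ₜ[R] x) by rw [TensorProduct.smul_tmul', smul_eq_mul, mul_one], map_smul]
  refine Submodule.smul_mem _ a ?_
  have h0 : ∀ v w, ∀ j, ∀ y, phi Q A ((1 : A) ⊗ₜ[R] y) ∈ evenOdd (QA Q A) j →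
      phi Q A ((1 : A) ⊗ₜ[R] (ι Q v * ι Q w * y)) ∈ evenOdd (QA Q A) j := by
    intro v w j y hy
    rw [show (1 : A) ⊗ₜ[R] (ι Q v * ι Q w * y) = (1 ⊗ₜ ι Q v) * (1 ⊗ₜ ι Q w) * (1 ⊗ₜ y) by simp,
      map_mul, map_mul, phi_ι, phi_ι]
    simpa using SetLike.mul_mem_graded (ι_mul_ι_mem_evenOdd_zero (QA Q A) _ _) hy
  fin_cases i
  · induction x, hx using CliffordAlgebra.even_induction with
    | algebraMap r =>
      rw [show (1 : A) ⊗ₜ[R] algebraMap R (CliffordAlgebra Q) r = algebraMap A _ (algebraMap R A r) by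
        rw [Algebra.TensorProduct.algebraMap_apply, Algebra.algebraMap_eq_smul_one (A := CliffordAlgebra Q),
          TensorProduct.tmul_smul, TensorProduct.smul_tmul', Algebra.smul_def, mul_one,
          Algebra.algebraMap_self, RingHom.id_apply], AlgEquiv.commutes]
      exact SetLike.algebraMap_mem_graded (evenOdd (QA Q A)) _
    | add x y hx hy ihx ihy => rw [TensorProduct.tmul_add, map_add]; exact Submodule.add_mem _ ihx ihy
    | ι_mul_ι_mul v w x hx ih => exact h0 v w _ x ih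
  · induction x, hx using CliffordAlgebra.odd_induction with
    | ι v => rw [phi_ι]; exact ι_mem_evenOdd_one _ _
    | add x y hx hy ihx ihy => rw [TensorProduct.tmul_add, map_add]; exact Submodule.add_mem _ ihx ihy
    | ι_mul_ι_mul v w x hx ih => exact h0 v w _ x ih

theorem exists_rr : ∃ f : CliffordAlgebra Q →ₗ[R] (Fin n → R), f.comp (ι Q) = LinearMap.id := by
  have hB : (-(Q.toBilin (Pi.basisFun R (Fin n)))).toQuadraticMap = (0 : QuadraticForm R (Fin n → R)) - Q := by
    rw [LinearMap.BilinMap.toQuadraticMap_neg, zero_sub, QuadraticMap.toQuadraticMap_toBilin]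
  let cf := CliffordAlgebra.changeFormEquiv hB
  refine ⟨(ExteriorAlgebra.ιInv (R := R) (M := Fin n → R)).comp cf.toLinearMap, LinearMap.ext fun v => ?_⟩
  show ExteriorAlgebra.ιInv (cf (ι Q v)) = v
  rw [show cf (ι Q v) = ExteriorAlgebra.ι R v from CliffordAlgebra.changeForm_ι hB v]
  exact ExteriorAlgebra.ι_leftInverse v

/-- A retraction of `ι`. -/
noncomputable def rr : CliffordAlgebra Q →ₗ[R] (Fin n → R) := (exists_rr Q).choose

/-- The projection killing exactly the vectors. -/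
noncomputable def qv : CliffordAlgebra Q →ₗ[R] CliffordAlgebra Q := LinearMap.id - (ι Q).comp (rr Q)

/-- The projection to the part of parity `i` along the other. -/
noncomputable def pj (i : ZMod 2) : CliffordAlgebra Q →ₗ[R] CliffordAlgebra Q :=
  (evenOdd Q i).subtype ∘ₗ DirectSum.component R (ZMod 2) (fun j => evenOdd Q j) i ∘ₗ
    (DirectSum.decomposeLinearEquiv (evenOdd Q)).toLinearMap

theorem pj_mem (i : ZMod 2) (x : CliffordAlgebra Q) : pj Q i x ∈ evenOdd Q i := Subtype.property _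

theorem pj_add (x : CliffordAlgebra Q) : pj Q 0 x + pj Q 1 x = x := by
  classical
  conv_rhs => rw [← DirectSum.sum_support_decompose (evenOdd Q) x]
  rw [Finset.sum_subset (Finset.subset_univ _) (fun i _ hi => by
    rw [DFinsupp.notMem_support_iff.mp hi, ZeroMemClass.coe_zero])]
  exact (Fin.sum_univ_two fun i : ZMod 2 => ((DirectSum.decompose (evenOdd Q) x i : _) : CliffordAlgebra Q)).symm

theorem phi_mem_range_iff (z : A ⊗[R] CliffordAlgebra Q) :
    phi Q A z ∈ LinearMap.range (ι (QA Q A)) ↔ (qv Q).baseChange A z = 0 := by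
  rw [qv, LinearMap.baseChange_sub, LinearMap.baseChange_id, LinearMap.sub_apply, LinearMap.id_apply,
    LinearMap.baseChange_comp, LinearMap.comp_apply, sub_eq_zero]
  constructor
  · rintro ⟨w, hw⟩
    rw [← phi_baseChange_ι] at hw
    obtain rfl := (phi Q A).injective hw
    rw [← LinearMap.comp_apply ((rr Q).baseChange A), ← LinearMap.baseChange_comp,
      show (rr Q).comp (ι Q) = LinearMap.id from (exists_rr Q).choose_spec,
      LinearMap.baseChange_id, LinearMap.id_apply]
  · intro h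
    exact ⟨(rr Q).baseChange A z, by rw [← phi_baseChange_ι, ← h]⟩

theorem phi_pj_mem (i : ZMod 2) (z : A ⊗[R] CliffordAlgebra Q) :
    phi Q A ((pj Q i).baseChange A z) ∈ evenOdd (QA Q A) i := by
  induction z with
  | zero => simp
  | add x y hx hy => rw [map_add, map_add]; exact Submodule.add_mem _ hx hy
  | tmul a x => rw [LinearMap.baseChange_tmul]; exact phi_tmul_mem Q A a (pj_mem Q i x)

theorem pj_baseChange_add (z : A ⊗[R] CliffordAlgebra Q) :
    (pj Q 0).baseChange A z + (pj Q 1).baseChange A z = z := by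
  induction z with
  | zero => simp
  | add x y hx hy => conv_rhs => rw [← hx, ← hy]
                     simp only [map_add]; abel
  | tmul a x => rw [LinearMap.baseChange_tmul, LinearMap.baseChange_tmul, ← TensorProduct.tmul_add, pj_add]

theorem phi_mem_evenOdd_iff (z : A ⊗[R] CliffordAlgebra Q) :
    (phi Q A z ∈ evenOdd (QA Q A) 0 ↔ (pj Q 1).baseChange A z = 0) ∧
      (phi Q A z ∈ evenOdd (QA Q A) 1 ↔ (pj Q 0).baseChange A z = 0) := by
  have hsum : phi Q A ((pj Q 0).baseChange A z) + phi Q A ((pj Q 1).baseChange A z) = phi Q A z := by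
    rw [← map_add, pj_baseChange_add]
  refine ⟨⟨fun h => ?_, fun h => ?_⟩, fun h => ?_, fun h => ?_⟩
  · apply (phi Q A).injective
    rw [map_zero]
    refine Submodule.disjoint_def.1 (evenOdd_isCompl (QA Q A)).disjoint _ ?_ (phi_pj_mem Q A 1 z)
    rw [eq_sub_of_add_eq' hsum]
    exact Submodule.sub_mem _ h (phi_pj_mem Q A 0 z)
  · rw [← hsum, h, map_zero, add_zero]; exact phi_pj_mem Q A 0 z
  · apply (phi Q A).injective
    rw [map_zero]
    refine Submodule.disjoint_def.1 (evenOdd_isCompl (QA Q A)).disjoint _ (phi_pj_mem Q A 0 z) ?_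
    rw [eq_sub_of_add_eq hsum]
    exact Submodule.sub_mem _ h (phi_pj_mem Q A 1 z)
  · rw [← hsum, h, map_zero, zero_add]; exact phi_pj_mem Q A 1 z

theorem smul_phi (a : A) (z : A ⊗[R] CliffordAlgebra Q) : a • phi Q A z = phi Q A (a • z) := (map_smul _ _ _).symm

/-- The anti-involution as a linear map. -/
noncomputable def starL : CliffordAlgebra Q →ₗ[R] CliffordAlgebra Q := reverse ∘ₗ involute.toLinearMap

theorem phi_starL (z : A ⊗[R] CliffordAlgebra Q) :
    phi Q A ((starL Q).baseChange A z) = star (phi Q A z) := by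
  induction z with
  | zero => simp
  | add x y hx hy => rw [map_add, map_add, map_add, hx, hy, star_add]
  | tmul a x =>
    rw [LinearMap.baseChange_tmul, show starL Q x = star x from rfl,
      show a ⊗ₜ[R] star x = a • ((1 : A) ⊗ₜ[R] star x) by rw [TensorProduct.smul_tmul', smul_eq_mul, mul_one],
      show a ⊗ₜ[R] x = a • ((1 : A) ⊗ₜ[R] x) by rw [TensorProduct.smul_tmul', smul_eq_mul, mul_one],
      map_smul, map_smul, CliffordAlgebra.star_smul]
    congr 1
    induction x using CliffordAlgebra.induction with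
    | algebraMap r =>
      rw [star_algebraMap, show (1 : A) ⊗ₜ[R] algebraMap R (CliffordAlgebra Q) r = algebraMap A _ (algebraMap R A r) by
        rw [Algebra.TensorProduct.algebraMap_apply, Algebra.algebraMap_eq_smul_one (A := CliffordAlgebra Q),
          TensorProduct.tmul_smul, TensorProduct.smul_tmul', Algebra.smul_def, mul_one,
          Algebra.algebraMap_self, RingHom.id_apply], AlgEquiv.commutes, star_algebraMap]
    | ι v => rw [star_ι, TensorProduct.tmul_neg, map_neg, phi_ι, star_ι]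
    | mul a b ha hb =>
      rw [star_mul, show (1 : A) ⊗ₜ[R] (star b * star a) = (1 ⊗ₜ star b) * (1 ⊗ₜ star a) by simp, map_mul, ha, hb,
        show (1 : A) ⊗ₜ[R] (a * b) = (1 ⊗ₜ a) * (1 ⊗ₜ b) by simp, map_mul, star_mul]
    | add a b ha hb => rw [star_add, TensorProduct.tmul_add, map_add, ha, hb, TensorProduct.tmul_add, map_add, star_add]

variable {A}
variable {B : Type u} [CommRing B] [Algebra R B] (φ : A →ₐ[R] B)

/-- Change of coefficients. -/
noncomputable def chg : A ⊗[R] CliffordAlgebra Q →ₐ[R] B ⊗[R] CliffordAlgebra Q :=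
  Algebra.TensorProduct.map φ (AlgHom.id R _)

theorem chg_baseChange (L : CliffordAlgebra Q →ₗ[R] CliffordAlgebra Q) (z : A ⊗[R] CliffordAlgebra Q) :
    chg Q φ (L.baseChange A z) = L.baseChange B (chg Q φ z) := by
  induction z with
  | zero => simp
  | add x y hx hy => simp only [map_add, hx, hy]
  | tmul a x => simp [chg]

theorem chg_smul (a : A) (z : A ⊗[R] CliffordAlgebra Q) : chg Q φ (a • z) = φ a • chg Q φ z := by
  induction z with
  | zero => simp
  | add x y hx hy => simp only [smul_add, map_add, hx, hy]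
  | tmul a' x => simp [chg, TensorProduct.smul_tmul', map_mul]

/-- The map of Clifford algebras over a change of coefficients. -/
noncomputable def Fm : CliffordAlgebra (QA Q A) →+* CliffordAlgebra (QA Q B) :=
  ((phi Q B).toRingEquiv.toRingHom.comp (chg Q φ).toRingHom).comp (phi Q A).symm.toRingEquiv.toRingHom

theorem Fm_phi (z : A ⊗[R] CliffordAlgebra Q) : Fm Q φ (phi Q A z) = phi Q B (chg Q φ z) := by
  show phi Q B (chg Q φ ((phi Q A).symm (phi Q A z))) = _
  rw [AlgEquiv.symm_apply_apply]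

theorem Fm_algebraMap (a : A) : Fm Q φ (algebraMap A _ a) = algebraMap B _ (φ a) := by
  rw [← (phi Q A).commutes a, Fm_phi, ← (phi Q B).commutes]
  simp [chg, Algebra.TensorProduct.algebraMap_apply]

theorem Fm_ι (v : A ⊗[R] (Fin n → R)) :
    Fm Q φ (ι (QA Q A) v) = ι (QA Q B) (LinearMap.rTensor (Fin n → R) φ.toLinearMap v) := by
  induction v with
  | zero => simp
  | add x y hx hy => simp only [map_add, hx, hy]
  | tmul a x =>
    rw [← phi_baseChange_ι, Fm_phi, ← phi_baseChange_ι]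
    simp [chg]

theorem eq_Fm {F : CliffordAlgebra (QA Q A) →+* CliffordAlgebra (QA Q B)}
    (hι : ∀ v, F (ι (QA Q A) v) = ι (QA Q B) (LinearMap.rTensor (Fin n → R) φ.toLinearMap v))
    (hA : ∀ a, F (algebraMap A _ a) = algebraMap B _ (φ a)) (x : CliffordAlgebra (QA Q A)) : F x = Fm Q φ x := by
  induction x using CliffordAlgebra.induction with
  | algebraMap r => rw [hA, Fm_algebraMap]
  | ι v => rw [hι, Fm_ι]
  | mul a b ha hb => rw [map_mul, map_mul, ha, hb]
  | add a b ha hb => rw [map_add, map_add, ha, hb]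

theorem Fm_star (x : CliffordAlgebra (QA Q A)) : Fm Q φ (star x) = star (Fm Q φ x) := by
  induction x using CliffordAlgebra.induction with
  | algebraMap r => rw [star_algebraMap, Fm_algebraMap, star_algebraMap]
  | ι v => rw [star_ι, map_neg, Fm_ι, star_ι]
  | mul a b ha hb => rw [star_mul, map_mul, map_mul, ha, hb, star_mul]
  | add a b ha hb => rw [star_add, map_add, map_add, ha, hb, star_add]

theorem Fm_mem_evenOdd {i : ZMod 2} {x : CliffordAlgebra (QA Q A)} (hx : x ∈ evenOdd (QA Q A) i) :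
    Fm Q φ x ∈ evenOdd (QA Q B) i := by
  have h0 : ∀ v w, ∀ j, ∀ y, Fm Q φ y ∈ evenOdd (QA Q B) j →
      Fm Q φ (ι (QA Q A) v * ι (QA Q A) w * y) ∈ evenOdd (QA Q B) j := by
    intro v w j y hy
    rw [map_mul, map_mul, Fm_ι, Fm_ι]
    simpa using SetLike.mul_mem_graded (ι_mul_ι_mem_evenOdd_zero (QA Q B) _ _) hy
  fin_cases i
  · induction x, hx using CliffordAlgebra.even_induction with
    | algebraMap r => rw [Fm_algebraMap]; exact SetLike.algebraMap_mem_graded (evenOdd (QA Q B)) _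
    | add x y hx hy ihx ihy => rw [map_add]; exact Submodule.add_mem _ ihx ihy
    | ι_mul_ι_mul v w x hx ih => exact h0 v w _ x ih
  · induction x, hx using CliffordAlgebra.odd_induction with
    | ι v => rw [Fm_ι]; exact ι_mem_evenOdd_one _ _
    | add x y hx hy ihx ihy => rw [map_add]; exact Submodule.add_mem _ ihx ihy
    | ι_mul_ι_mul v w x hx ih => exact h0 v w _ x ih

theorem Fm_surjective (hφ : Function.Surjective φ) : Function.Surjective (Fm Q φ) := by
  intro x
  obtain ⟨z, rfl⟩ := (phi Q B).surjective x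
  obtain ⟨z', rfl⟩ := (TensorProduct.map_surjective hφ Function.surjective_id :
    Function.Surjective (TensorProduct.map φ.toLinearMap (LinearMap.id (R := R) (M := CliffordAlgebra Q)))) z
  exact ⟨phi Q A z', Fm_phi Q φ z'⟩

end Transport

section System

variable (Q : QuadraticForm R (Fin n → R))

/-- A basis of the Clifford algebra. -/
noncomputable def clBasis : Module.Basis (Finset (Fin n)) R (CliffordAlgebra Q) :=
  ((Pi.basisFun R (Fin n)).ExteriorAlgebra).map
    (CliffordAlgebra.changeFormEquiv (B := -(Q.toBilin (Pi.basisFun R (Fin n))))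
      (show (-(Q.toBilin (Pi.basisFun R (Fin n)))).toQuadraticMap = (0 : QuadraticForm R (Fin n → R)) - Q by
        rw [LinearMap.BilinMap.toQuadraticMap_neg, zero_sub, QuadraticMap.toQuadraticMap_toBilin])).symm

variable (A : Type u) [CommRing A] [Algebra R A]

/-- Coordinates on the base changed Clifford algebra. -/
noncomputable def co : Module.Basis (Finset (Fin n)) A (A ⊗[R] CliffordAlgebra Q) :=
  Algebra.TensorProduct.basis A (clBasis Q)

theorem co_chg {A B : Type u} [CommRing A] [Algebra R A] [CommRing B] [Algebra R B] (φ : A →ₐ[R] B)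
    (z : A ⊗[R] CliffordAlgebra Q) (j : Finset (Fin n)) :
    (co Q B).repr (chg Q φ z) j = φ ((co Q A).repr z j) := by
  induction z with
  | zero => simp
  | add x y hx hy => simp [map_add, hx, hy]
  | tmul a x => simp [co, chg, Algebra.TensorProduct.basis_repr_tmul, map_mul, AlgHom.commutes]

/-- The conditions on a triple. -/
abbrev Cond (n : ℕ) := Fin 4 ⊕ (Fin n ⊕ Fin n)

/-- The expressions to vanish. -/
noncomputable def elt (u w : A ⊗[R] CliffordAlgebra Q) (e : A) : Cond n → A ⊗[R] CliffordAlgebra Q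
  | .inl 0 => u * w - 1
  | .inl 1 => w * u - 1
  | .inl 2 => (pj Q 1).baseChange A (e • u)
  | .inl 3 => (pj Q 0).baseChange A ((1 - e) • u)
  | .inr (.inl j) => (qv Q).baseChange A (u * (1 ⊗ₜ ι Q (Pi.single j 1)) * w)
  | .inr (.inr j) => (qv Q).baseChange A (w * (1 ⊗ₜ ι Q (Pi.single j 1)) * u)

theorem chg_elt {A B : Type u} [CommRing A] [Algebra R A] [CommRing B] [Algebra R B] (φ : A →ₐ[R] B)
    (u w : A ⊗[R] CliffordAlgebra Q) (e : A) (k : Cond n) :
    chg Q φ (elt Q A u w e k) = elt Q B (chg Q φ u) (chg Q φ w) (φ e) k := by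
  have h1 : ∀ v, chg Q φ ((1 : A) ⊗ₜ[R] ι Q v) = (1 : B) ⊗ₜ[R] ι Q v := fun v => by simp [chg]
  rcases k with i | j | j
  · fin_cases i <;> simp [elt, chg_baseChange, chg_smul]
  · simp only [elt, chg_baseChange, map_mul, h1]
  · simp only [elt, chg_baseChange, map_mul, h1]

/-- A triple satisfying the conditions. -/
def IsTriple (u w : A ⊗[R] CliffordAlgebra Q) (e : A) : Prop := e * e = e ∧ ∀ k, elt Q A u w e k = 0

/-- The variables. -/
abbrev Var (n : ℕ) := (Finset (Fin n) ⊕ Finset (Fin n)) ⊕ Unit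

/-- The first component of a tuple. -/
noncomputable def tu (x : Var n → A) : A ⊗[R] CliffordAlgebra Q :=
  (co Q A).equivFun.symm fun j => x (.inl (.inl j))

/-- The second component of a tuple. -/
noncomputable def tw (x : Var n → A) : A ⊗[R] CliffordAlgebra Q :=
  (co Q A).equivFun.symm fun j => x (.inl (.inr j))

theorem chg_tu {A B : Type u} [CommRing A] [Algebra R A] [CommRing B] [Algebra R B] (φ : A →ₐ[R] B)
    (x : Var n → A) : chg Q φ (tu Q A x) = tu Q B (φ ∘ x) ∧ chg Q φ (tw Q A x) = tw Q B (φ ∘ x) := by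
  constructor <;>
  · apply (co Q B).equivFun.injective
    funext j
    simp only [tu, tw, LinearEquiv.apply_symm_apply]
    rw [Module.Basis.equivFun_apply, co_chg, ← Module.Basis.equivFun_apply, LinearEquiv.apply_symm_apply]
    rfl

/-- The universal tuple. -/
noncomputable def ux : Var n → MvPolynomial (Var n) R := fun s => MvPolynomial.X s

/-- The equations of the Clifford group, with extra equations. -/
noncomputable def eqC {κ : Type} (extra : κ → MvPolynomial (Var n) R) :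
    ((Cond n × Finset (Fin n)) ⊕ Unit) ⊕ κ → MvPolynomial (Var n) R
  | .inl (.inl (k, j)) => (co Q (MvPolynomial (Var n) R)).repr
      (elt Q _ (tu Q _ ux) (tw Q _ ux) (ux (.inr ())) k) j
  | .inl (.inr ()) => ux (.inr ()) * ux (.inr ()) - ux (.inr ())
  | .inr i => extra i

theorem eqC_zero_iff {κ : Type} (extra : κ → MvPolynomial (Var n) R) (x : Var n → A) :
    (∀ s, MvPolynomial.aeval x (eqC Q extra s) = 0) ↔
      IsTriple Q A (tu Q A x) (tw Q A x) (x (.inr ())) ∧ ∀ i, MvPolynomial.aeval x (extra i) = 0 := by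
  let ev : MvPolynomial (Var n) R →ₐ[R] A := MvPolynomial.aeval x
  have hx : ev ∘ ux = x := funext fun s => MvPolynomial.aeval_X x s
  have hk : ∀ k j, ev (eqC Q extra (.inl (.inl (k, j)))) =
      (co Q A).repr (elt Q A (tu Q A x) (tw Q A x) (x (.inr ())) k) j := fun k j => by
    show ev ((co Q _).repr (elt Q _ (tu Q _ ux) (tw Q _ ux) (ux (.inr ())) k) j) = _
    rw [← co_chg, chg_elt, (chg_tu Q ev ux).1, (chg_tu Q ev ux).2, hx,
      show ev (ux (.inr ())) = x (.inr ()) from congrFun hx _]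
  constructor
  · intro h
    refine ⟨⟨?_, fun k => ?_⟩, fun i => h (.inr i)⟩
    · have := h (.inl (.inr ()))
      simpa [eqC, ux, sub_eq_zero] using this
    · apply (co Q A).repr.injective
      rw [map_zero]
      ext j
      rw [Finsupp.zero_apply, ← hk]
      exact h _
  · rintro ⟨⟨he, hel⟩, hex⟩ ((⟨k, j⟩ | ⟨⟩) | i)
    · show ev _ = 0
      rw [hk, hel, map_zero, Finsupp.zero_apply]
    · simp [eqC, ux, he]
    · exact hex i

/-- The norm equations. -/
noncomputable def eqN (j : Finset (Fin n)) : MvPolynomial (Var n) R :=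
  (co Q (MvPolynomial (Var n) R)).repr ((starL Q).baseChange _ (tu Q _ ux) * tu Q _ ux - 1) j

theorem eqN_zero_iff (x : Var n → A) :
    (∀ j, MvPolynomial.aeval x (eqN Q j) = 0) ↔
      star (phi Q A (tu Q A x)) * phi Q A (tu Q A x) = 1 := by
  let ev : MvPolynomial (Var n) R →ₐ[R] A := MvPolynomial.aeval x
  have hx : ev ∘ ux = x := funext fun s => MvPolynomial.aeval_X x s
  have hk : ∀ j, ev (eqN Q j) = (co Q A).repr ((starL Q).baseChange A (tu Q A x) * tu Q A x - 1) j := fun j => by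
    rw [eqN, ← co_chg, map_sub, map_mul, map_one, chg_baseChange, (chg_tu Q ev ux).1, hx]
  rw [← phi_starL, ← map_mul, EmbeddingLike.map_eq_one_iff, ← sub_eq_zero]
  constructor
  · intro h
    apply (co Q A).repr.injective
    rw [map_zero]
    ext j
    rw [Finsupp.zero_apply, ← hk]
    exact h j
  · intro h j
    show ev _ = 0
    rw [hk, h, map_zero, Finsupp.zero_apply]

end System

section Group

variable (Q : QuadraticForm R (Fin n → R)) (A : Type u) [CommRing A] [Algebra R A]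

theorem mem_GPin'_iff {M : Type*} [AddCommGroup M] [Module R M] (Q : QuadraticForm R M) (u : (CliffordAlgebra Q)ˣ) :
    u ∈ QuadGrp.GPin' Q ↔ (∀ v, (u : CliffordAlgebra Q) * ι Q v * ↑u⁻¹ ∈ LinearMap.range (ι Q)) ∧
      ∀ v, (↑u⁻¹ : CliffordAlgebra Q) * ι Q v * u ∈ LinearMap.range (ι Q) := by
  rw [QuadGrp.mem_GPin']
  constructor
  · intro h
    refine ⟨fun v => ?_, fun v => ?_⟩
    · rw [← h, Submodule.mem_smul_pointwise_iff_exists]
      exact ⟨ι Q v, ⟨v, rfl⟩, by rw [ConjAct.units_smul_def, ConjAct.ofConjAct_toConjAct]⟩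
    · obtain ⟨s, ⟨w, rfl⟩, hs⟩ := (Submodule.mem_smul_pointwise_iff_exists _ _ _).1
        (show ι Q v ∈ ConjAct.toConjAct u • LinearMap.range (ι Q) from h.symm ▸ ⟨v, rfl⟩)
      rw [ConjAct.units_smul_def, ConjAct.ofConjAct_toConjAct] at hs
      exact ⟨w, by rw [← hs]; simp [mul_assoc]⟩
  · rintro ⟨h1, h2⟩
    ext x
    rw [Submodule.mem_smul_pointwise_iff_exists]
    constructor
    · rintro ⟨s, ⟨v, rfl⟩, rfl⟩
      rw [ConjAct.units_smul_def, ConjAct.ofConjAct_toConjAct]
      exact h1 v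
    · rintro ⟨v, rfl⟩
      obtain ⟨w, hw⟩ := h2 v
      exact ⟨ι Q w, ⟨w, rfl⟩, by rw [ConjAct.units_smul_def, ConjAct.ofConjAct_toConjAct, hw]; simp [mul_assoc]⟩

theorem idem_unique {M : Type*} [AddCommGroup M] [Module R M] [Module.Free R M] [Module.Finite R M]
    (Q : QuadraticForm R M) (u : (CliffordAlgebra Q)ˣ) {e f : R}
    (he0 : e • (u : CliffordAlgebra Q) ∈ evenOdd Q 0) (he1 : (1 - e) • (u : CliffordAlgebra Q) ∈ evenOdd Q 1)
    (hf0 : f • (u : CliffordAlgebra Q) ∈ evenOdd Q 0) (hf1 : (1 - f) • (u : CliffordAlgebra Q) ∈ evenOdd Q 1) :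
    e = f := by
  have key : ∀ a b : R, a • (u : CliffordAlgebra Q) ∈ evenOdd Q 0 → (1 - b) • (u : CliffordAlgebra Q) ∈ evenOdd Q 1 →
      a * (1 - b) = 0 := by
    intro a b ha hb
    have hz : (a * (1 - b)) • (u : CliffordAlgebra Q) = 0 := by
      refine Submodule.disjoint_def.1 (evenOdd_isCompl Q).disjoint _ ?_ ?_
      · rw [mul_comm, mul_smul]; exact Submodule.smul_mem _ _ ha
      · rw [mul_smul]; exact Submodule.smul_mem _ _ hb
    rw [Algebra.smul_def, u.mul_left_eq_zero, ← map_zero (algebraMap R (CliffordAlgebra Q))] at hz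
    exact algebraMap_clifford_injective Q hz
  linear_combination key e f he0 hf1 - key f e hf0 he1

theorem mem_GPin_iff_triple (u : (CliffordAlgebra (QA Q A))ˣ) (e : A) :
    (u ∈ QuadGrp.GPin' (QA Q A) ∧ e * e = e ∧ e • (u : CliffordAlgebra (QA Q A)) ∈ evenOdd (QA Q A) 0 ∧
        (1 - e) • (u : CliffordAlgebra (QA Q A)) ∈ evenOdd (QA Q A) 1) ↔
      IsTriple Q A ((phi Q A).symm u) ((phi Q A).symm ↑u⁻¹) e := by
  set z := (phi Q A).symm (u : CliffordAlgebra (QA Q A)) with hz
  set z' := (phi Q A).symm (↑u⁻¹ : CliffordAlgebra (QA Q A)) with hz'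
  have h1 : phi Q A z = u := AlgEquiv.apply_symm_apply _ _
  have h2 : phi Q A z' = ↑u⁻¹ := AlgEquiv.apply_symm_apply _ _
  have hzz : z * z' = 1 ∧ z' * z = 1 := by
    constructor <;> apply (phi Q A).injective <;> simp [map_mul, h1, h2]
  have hc : ∀ (a b : A ⊗[R] CliffordAlgebra Q) v, phi Q A (a * (1 ⊗ₜ ι Q v) * b) =
      phi Q A a * ι (QA Q A) (1 ⊗ₜ v) * phi Q A b := fun a b v => by rw [map_mul, map_mul, phi_ι]
  have hspan : ∀ (a b : CliffordAlgebra (QA Q A)), (∀ j : Fin n,
      a * ι (QA Q A) (1 ⊗ₜ Pi.single j 1) * b ∈ LinearMap.range (ι (QA Q A))) →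
      ∀ v, a * ι (QA Q A) v * b ∈ LinearMap.range (ι (QA Q A)) := by
    intro a b h v
    rw [← (stdBasis (R := R) A).sum_repr v, map_sum, Finset.mul_sum, Finset.sum_mul]
    refine Submodule.sum_mem _ fun j _ => ?_
    rw [map_smul, mul_smul_comm, smul_mul_assoc]
    refine Submodule.smul_mem _ _ ?_
    rw [stdBasis, Algebra.TensorProduct.basis_apply, Pi.basisFun_apply]
    exact h j
  rw [mem_GPin'_iff]
  constructor
  · rintro ⟨⟨ha, hb⟩, he, h0, h1'⟩
    refine ⟨he, ?_⟩
    rintro (i | j | j)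
    · fin_cases i
      · exact sub_eq_zero.2 hzz.1
      · exact sub_eq_zero.2 hzz.2
      · refine (phi_mem_evenOdd_iff Q A _).1.1 ?_
        rwa [← smul_phi, h1]
      · refine (phi_mem_evenOdd_iff Q A _).2.1 ?_
        rwa [← smul_phi, h1]
    · refine (phi_mem_range_iff Q A _).1 ?_
      rw [hc, h1, h2]; exact ha _
    · refine (phi_mem_range_iff Q A _).1 ?_
      rw [hc, h1, h2]; exact hb _
  · rintro ⟨he, hel⟩
    refine ⟨⟨hspan _ _ fun j => ?_, hspan _ _ fun j => ?_⟩, he, ?_, ?_⟩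
    · have := (phi_mem_range_iff Q A _).2 (hel (.inr (.inl j)))
      rwa [hc, h1, h2] at this
    · have := (phi_mem_range_iff Q A _).2 (hel (.inr (.inr j)))
      rwa [hc, h1, h2] at this
    · have := (phi_mem_evenOdd_iff Q A _).1.2 (hel (.inl 2))
      rwa [← smul_phi, h1] at this
    · have := (phi_mem_evenOdd_iff Q A _).2.2 (hel (.inl 3))
      rwa [← smul_phi, h1] at this

/-- The unit of a tuple satisfying the conditions. -/
noncomputable def unitOf {x : Var n → A} (h : IsTriple Q A (tu Q A x) (tw Q A x) (x (.inr ()))) :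
    (CliffordAlgebra (QA Q A))ˣ :=
  ⟨phi Q A (tu Q A x), phi Q A (tw Q A x),
    by rw [← map_mul, sub_eq_zero.1 (h.2 (.inl 0)), map_one],
    by rw [← map_mul, sub_eq_zero.1 (h.2 (.inl 1)), map_one]⟩

/-- The tuple of a unit and an idempotent. -/
noncomputable def tuple (u : (CliffordAlgebra (QA Q A))ˣ) (e : A) : Var n → A
  | .inl (.inl j) => (co Q A).equivFun ((phi Q A).symm u) j
  | .inl (.inr j) => (co Q A).equivFun ((phi Q A).symm ↑u⁻¹) j
  | .inr () => e

theorem tu_tuple (u : (CliffordAlgebra (QA Q A))ˣ) (e : A) :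
    tu Q A (tuple Q A u e) = (phi Q A).symm u ∧ tw Q A (tuple Q A u e) = (phi Q A).symm ↑u⁻¹ :=
  ⟨(co Q A).equivFun.symm_apply_apply _, (co Q A).equivFun.symm_apply_apply _⟩

theorem unitOf_mem_GPin {x : Var n → A} (h : IsTriple Q A (tu Q A x) (tw Q A x) (x (.inr ()))) :
    unitOf Q A h ∈ QuadGrp.GPin' (QA Q A) ∧ IsIdempotentElem (x (.inr ())) ∧
      x (.inr ()) • (unitOf Q A h : CliffordAlgebra (QA Q A)) ∈ evenOdd (QA Q A) 0 ∧
      (1 - x (.inr ())) • (unitOf Q A h : CliffordAlgebra (QA Q A)) ∈ evenOdd (QA Q A) 1 := by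
  refine (mem_GPin_iff_triple Q A (unitOf Q A h) _).2 ?_
  rwa [show (phi Q A).symm (unitOf Q A h : CliffordAlgebra (QA Q A)) = tu Q A x from AlgEquiv.symm_apply_apply _ _,
    show (phi Q A).symm (↑(unitOf Q A h)⁻¹ : CliffordAlgebra (QA Q A)) = tw Q A x from AlgEquiv.symm_apply_apply _ _]

theorem isTriple_tuple {u : (CliffordAlgebra (QA Q A))ˣ} {e : A} (hu : u ∈ QuadGrp.GPin' (QA Q A))
    (he : IsIdempotentElem e) (h0 : e • (u : CliffordAlgebra (QA Q A)) ∈ evenOdd (QA Q A) 0)
    (h1 : (1 - e) • (u : CliffordAlgebra (QA Q A)) ∈ evenOdd (QA Q A) 1) :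
    IsTriple Q A (tu Q A (tuple Q A u e)) (tw Q A (tuple Q A u e)) (tuple Q A u e (.inr ())) := by
  rw [(tu_tuple Q A u e).1, (tu_tuple Q A u e).2]
  exact (mem_GPin_iff_triple Q A u e).1 ⟨hu, he, h0, h1⟩

theorem tuple_unique {u : (CliffordAlgebra (QA Q A))ˣ} {e : A} {x : Var n → A}
    (h : IsTriple Q A (tu Q A x) (tw Q A x) (x (.inr ())))
    (h0 : e • (u : CliffordAlgebra (QA Q A)) ∈ evenOdd (QA Q A) 0)
    (h1 : (1 - e) • (u : CliffordAlgebra (QA Q A)) ∈ evenOdd (QA Q A) 1)
    (hu : unitOf Q A h = u) : tuple Q A u e = x := by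
  obtain ⟨-, -, g0, g1⟩ := unitOf_mem_GPin Q A h
  rw [hu] at g0 g1
  funext s
  rcases s with (j | j) | ⟨⟩
  · show (co Q A).equivFun ((phi Q A).symm (u : CliffordAlgebra (QA Q A))) j = _
    rw [← hu, show (phi Q A).symm (unitOf Q A h : CliffordAlgebra (QA Q A)) = tu Q A x from
      AlgEquiv.symm_apply_apply _ _, tu, LinearEquiv.apply_symm_apply]
  · show (co Q A).equivFun ((phi Q A).symm (↑u⁻¹ : CliffordAlgebra (QA Q A))) j = _
    rw [← hu, show (phi Q A).symm (↑(unitOf Q A h)⁻¹ : CliffordAlgebra (QA Q A)) = tw Q A x from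
      AlgEquiv.symm_apply_apply _ _, tw, LinearEquiv.apply_symm_apply]
  · exact idem_unique _ u h0 h1 g0 g1

/-- No extra equations. -/
abbrev noExtra : Empty → MvPolynomial (Var n) R := Empty.elim

/-- Points of the Clifford group as solutions. -/
noncomputable def gpinPts :
    ↥(QuadGrp.gpin Q A) ≃ {x : Var n → A // ∀ s, MvPolynomial.aeval x (eqC Q (noExtra (R := R)) s) = 0} where
  toFun u := ⟨tuple Q A u.1 u.2.2.choose, (eqC_zero_iff Q A _ _).2
    ⟨isTriple_tuple Q A u.2.1 u.2.2.choose_spec.1 u.2.2.choose_spec.2.1 u.2.2.choose_spec.2.2, fun i => i.elim⟩⟩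
  invFun x := ⟨unitOf Q A ((eqC_zero_iff Q A _ _).1 x.2).1,
    (unitOf_mem_GPin Q A _).1, x.1 (.inr ()), (unitOf_mem_GPin Q A _).2⟩
  left_inv u := Subtype.ext (Units.ext (by
    show phi Q A (tu Q A (tuple Q A u.1 u.2.2.choose)) = _
    rw [(tu_tuple Q A _ _).1, AlgEquiv.apply_symm_apply]))
  right_inv x := Subtype.ext (tuple_unique Q A ((eqC_zero_iff Q A _ _).1 x.2).1
    (Exists.choose_spec (_ : QuadGrp.IsLocHomog (QA Q A) _)).2.1
    (Exists.choose_spec (_ : QuadGrp.IsLocHomog (QA Q A) _)).2.2 rfl)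

/-- Points of the Pin group as solutions. -/
noncomputable def pinPts :
    ↥(QuadGrp.pin Q A) ≃ {x : Var n → A // ∀ s, MvPolynomial.aeval x (eqC Q (eqN Q) s) = 0} where
  toFun u := ⟨tuple Q A u.1 u.2.1.2.choose, (eqC_zero_iff Q A _ _).2
    ⟨isTriple_tuple Q A u.2.1.1 u.2.1.2.choose_spec.1 u.2.1.2.choose_spec.2.1 u.2.1.2.choose_spec.2.2,
      (eqN_zero_iff Q A _).2 (by rw [(tu_tuple Q A _ _).1, AlgEquiv.apply_symm_apply]; exact u.2.2)⟩⟩
  invFun x := ⟨unitOf Q A ((eqC_zero_iff Q A _ _).1 x.2).1,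
    ⟨(unitOf_mem_GPin Q A _).1, x.1 (.inr ()), (unitOf_mem_GPin Q A _).2⟩,
    (eqN_zero_iff Q A _).1 ((eqC_zero_iff Q A _ _).1 x.2).2⟩
  left_inv u := Subtype.ext (Units.ext (by
    show phi Q A (tu Q A (tuple Q A u.1 u.2.1.2.choose)) = _
    rw [(tu_tuple Q A _ _).1, AlgEquiv.apply_symm_apply]))
  right_inv x := Subtype.ext (tuple_unique Q A ((eqC_zero_iff Q A _ _).1 x.2).1
    (Exists.choose_spec (_ : QuadGrp.IsLocHomog (QA Q A) _)).2.1
    (Exists.choose_spec (_ : QuadGrp.IsLocHomog (QA Q A) _)).2.2 rfl)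

end Group

section Iso

variable (Q : QuadraticForm R (Fin n → R))

theorem comp_tuple {A B : Type u} [CommRing A] [Algebra R A] [CommRing B] [Algebra R B] (φ : A →ₐ[R] B)
    {u : (CliffordAlgebra (QA Q A))ˣ} {v : (CliffordAlgebra (QA Q B))ˣ} {e : A} {f : B}
    (hu : u ∈ QuadGrp.GPin' (QA Q A)) (he : IsIdempotentElem e)
    (h0 : e • (u : CliffordAlgebra (QA Q A)) ∈ evenOdd (QA Q A) 0)
    (h1 : (1 - e) • (u : CliffordAlgebra (QA Q A)) ∈ evenOdd (QA Q A) 1)
    (hv : (v : CliffordAlgebra (QA Q B)) = Fm Q φ u)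
    (f0 : f • (v : CliffordAlgebra (QA Q B)) ∈ evenOdd (QA Q B) 0)
    (f1 : (1 - f) • (v : CliffordAlgebra (QA Q B)) ∈ evenOdd (QA Q B) 1) :
    tuple Q B v f = φ ∘ tuple Q A u e := by
  have ht := isTriple_tuple Q A hu he h0 h1
  have htB : IsTriple Q B (tu Q B (φ ∘ tuple Q A u e)) (tw Q B (φ ∘ tuple Q A u e))
      ((φ ∘ tuple Q A u e) (.inr ())) := by
    refine ⟨by simp only [Function.comp_apply]; rw [← map_mul, ht.1], fun k => ?_⟩
    rw [← (chg_tu Q φ (tuple Q A u e)).1, ← (chg_tu Q φ (tuple Q A u e)).2, Function.comp_apply, ← chg_elt, ht.2,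
      map_zero]
  refine tuple_unique Q B htB f0 f1 (Units.ext ?_)
  show phi Q B (tu Q B (φ ∘ tuple Q A u e)) = _
  rw [hv, ← (chg_tu Q φ (tuple Q A u e)).1, ← Fm_phi, (tu_tuple Q A u e).1, AlgEquiv.apply_symm_apply]

open scoped MonObj in
theorem exists_iso_gpin (G : Over (Spec (CommRingCat.of R))) [GrpObj G] (D : QuadGrp.GPinRep Q G) :
    Nonempty (QuadGrp.specOver R (EqRing (eqC Q (noExtra (R := R) (n := n)))) ≅ G) := by
  refine exists_iso_spec G _
    (fun A _ _ => ((D.pts A).toEquiv.trans (gpinPts Q A)).trans (eqRingPts _ A).symm) fun A B _ _ _ _ φ y => ?_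
  apply (eqRingPts _ B).injective
  refine Subtype.ext ?_
  simp only [Equiv.trans_apply, Equiv.apply_symm_apply, eqRingPts_comp]
  set u := D.pts A y
  set v := D.pts B (QuadGrp.specOverMap R φ ≫ y)
  exact comp_tuple Q φ u.2.1 u.2.2.choose_spec.1 u.2.2.choose_spec.2.1 u.2.2.choose_spec.2.2
    (D.natural A B φ (Fm Q φ) (Fm_ι Q φ) (Fm_algebraMap Q φ) y) v.2.2.choose_spec.2.1 v.2.2.choose_spec.2.2

open scoped MonObj in
theorem exists_iso_pin (G : Over (Spec (CommRingCat.of R))) [GrpObj G] (D : QuadGrp.PinRep Q G) :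
    Nonempty (QuadGrp.specOver R (EqRing (eqC Q (eqN Q))) ≅ G) := by
  refine exists_iso_spec G _
    (fun A _ _ => ((D.pts A).toEquiv.trans (pinPts Q A)).trans (eqRingPts _ A).symm) fun A B _ _ _ _ φ y => ?_
  apply (eqRingPts _ B).injective
  refine Subtype.ext ?_
  simp only [Equiv.trans_apply, Equiv.apply_symm_apply, eqRingPts_comp]
  set u := D.pts A y
  set v := D.pts B (QuadGrp.specOverMap R φ ≫ y)
  exact comp_tuple Q φ u.2.1.1 u.2.1.2.choose_spec.1 u.2.1.2.choose_spec.2.1 u.2.1.2.choose_spec.2.2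
    (D.natural A B φ (Fm Q φ) (Fm_ι Q φ) (Fm_algebraMap Q φ) y) v.2.1.2.choose_spec.2.1 v.2.1.2.choose_spec.2.2

end Iso

end QSplit86
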