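import Groth.Agent.QSplit86.HypClifford
import Groth.Agent.S3215

/-!
# Structure of the Clifford algebra of a regular form of even rank, étale-locally
-/

set_option autoImplicit false
set_option maxHeartbeats 1600000
set_option synthInstance.maxHeartbeats 200000
universe u v

open scoped TensorProduct
open CliffordAlgebra

namespace QSplit86

variable {A : Type u} [CommRing A]

/-- One faithfully flat étale algebra splitting a regular form. -/
theorem exists_split_global {m : ℕ} (a : Matrix (I m) (I m) A) (ha : IsUnit (a + a.transpose).det) :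
    ∃ (B : Type u) (_ : CommRing B) (_ : Algebra A B), Algebra.Etale A B ∧
      Module.FaithfullyFlat A B ∧ ∃ g : Matrix (I m) (I m) B, IsUnit g.det ∧
        ∀ x, qf (a.map (algebraMap A B)) (g.mulVec x) = hyp x := by
  classical
  obtain ⟨n, B, iR, iA, het, hcov, hg⟩ := Groth.Agent.S3215.cover a ha
  choose g hg hform using hg
  refine ⟨∀ t, B t, inferInstance, inferInstance, inferInstance, ?_,
    Matrix.of fun r i t => g t r i, ?_, fun x => ?_⟩
  · haveI : Algebra.Etale A (∀ t, B t) := inferInstance
    refine Module.FaithfullyFlat.of_comap_surjective fun p => ?_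
    obtain ⟨t, q, hq⟩ := hcov p
    exact ⟨q.comap (Pi.evalRingHom B t), PrimeSpectrum.ext hq⟩
  · rw [Pi.isUnit_iff]
    intro t
    have := (Pi.evalRingHom B t).map_det (Matrix.of fun r i t => g t r i)
    rw [show Pi.evalRingHom B t (Matrix.of fun r i t => g t r i).det =
      (Matrix.of fun r i t => g t r i).det t from rfl] at this
    rw [this]
    exact hg t
  · funext t
    change Pi.evalRingHom B t (qf (a.map (algebraMap A (∀ t, B t))) ((Matrix.of fun r i t => g t r i).mulVec x)) =
      Pi.evalRingHom B t (hyp x)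
    rw [map_qf, hyp, map_sum]
    simp only [map_mul]
    rw [show Pi.evalRingHom B t ∘ (Matrix.of fun r i t => g t r i).mulVec x =
        (g t).mulVec (fun i => x i t) from funext fun r => by
      simp [Matrix.mulVec, dotProduct, Finset.sum_apply]]
    rw [show (a.map (algebraMap A (∀ t, B t))).map (Pi.evalRingHom B t) = a.map (algebraMap A (B t)) from rfl,
      hform]
    rfl

/-- The two blocks of indices. -/
abbrev P (m : ℕ) (b : Bool) := {s : Fin m → Bool // par s = b}

section Mat

variable {R : Type*} [CommRing R] {ι : Type*} [Fintype ι] {p : ι → Bool}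

theorem pres_mul {M N : Matrix ι ι R} (hM : Pres p M) (hN : Pres p N) : Pres p (M * N) :=
  fun s t h => Finset.sum_eq_zero fun r _ => by
    show M s r * N r t = 0
    by_cases hr : p s = p r
    · rw [hN r t (hr ▸ h), mul_zero]
    · rw [hM s r hr, zero_mul]

theorem flip_mul_flip {M N : Matrix ι ι R} (hM : Flip p M) (hN : Flip p N) : Pres p (M * N) :=
  fun s t h => Finset.sum_eq_zero fun r _ => by
    show M s r * N r t = 0
    by_cases hr : p s = p r
    · rw [hM s r hr, zero_mul]
    · have : p r = p t := by revert h hr; cases p s <;> cases p r <;> cases p t <;> simp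
      rw [hN r t this, mul_zero]

theorem pres_mul_flip {M N : Matrix ι ι R} (hM : Pres p M) (hN : Flip p N) : Flip p (M * N) :=
  fun s t h => Finset.sum_eq_zero fun r _ => by
    show M s r * N r t = 0
    by_cases hr : p s = p r
    · rw [hN r t (hr ▸ h), mul_zero]
    · rw [hM s r hr, zero_mul]

theorem eq_zero_of_pres_flip {M : Matrix ι ι R} (hM : Pres p M) (hM' : Flip p M) : M = 0 := by
  ext s t
  by_cases h : p s = p t
  · exact hM' s t h
  · exact hM s t h

theorem pres_algebraMap [DecidableEq ι] (r : R) : Pres p (algebraMap R (Matrix ι ι R) r) :=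
  fun s t h => by rw [Matrix.algebraMap_matrix_apply, if_neg fun h' => h (congrArg p h')]

theorem pres_add {M N : Matrix ι ι R} (hM : Pres p M) (hN : Pres p N) : Pres p (M + N) :=
  fun s t h => by simp [hM s t h, hN s t h]

theorem flip_add {M N : Matrix ι ι R} (hM : Flip p M) (hN : Flip p N) : Flip p (M + N) :=
  fun s t h => by simp [hM s t h, hN s t h]

theorem pres_smul (r : R) {M : Matrix ι ι R} (hM : Pres p M) : Pres p (r • M) :=
  fun s t h => by simp [hM s t h]

theorem flip_smul (r : R) {M : Matrix ι ι R} (hM : Flip p M) : Flip p (r • M) :=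
  fun s t h => by simp [hM s t h]

theorem toBlock_mul_pres {M N : Matrix ι ι R} (hM : Pres p M) (b : Bool) :
    (M * N).submatrix (Subtype.val : {s // p s = b} → ι) (Subtype.val : {s // p s = b} → ι) =
      M.submatrix Subtype.val Subtype.val * N.submatrix Subtype.val Subtype.val := by
  classical
  ext s t
  simp only [Matrix.submatrix_apply, Matrix.mul_apply]
  rw [← Finset.sum_subtype (Finset.univ.filter fun r => p r = b) (by simp)
    (fun r => M s.1 r * N r t.1)]
  refine (Finset.sum_subset (Finset.subset_univ _) fun r _ hr => ?_).symm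
  rw [hM s.1 r (fun h => hr (by simp [← h, s.2])), zero_mul]

end Mat

section Clifford

variable {V : Type v} [AddCommGroup V] [Module A V] (Q : QuadraticForm A V)

/-- A splitting of the Clifford algebra. -/
structure Splitting (m : ℕ) where
  /-- The étale algebra. -/
  B : Type u
  [cr : CommRing B]
  [alg : Algebra A B]
  etale : Algebra.Etale A B
  ffl : Module.FaithfullyFlat A B
  /-- The isomorphism with a matrix algebra. -/
  T : B ⊗[A] CliffordAlgebra Q ≃ₐ[B] Matrix (Fin m → Bool) (Fin m → Bool) B
  flip : ∀ v, Flip par (T (1 ⊗ₜ ι Q v))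
  /-- A basis of `V`. -/
  b : Module.Basis (I m) A V

attribute [instance] Splitting.cr Splitting.alg

theorem exists_basis_matrix [Module.Free A V] [Module.Finite A V] [Nontrivial A] {m : ℕ}
    (hV : Module.finrank A V = 2 * m) (hQ : Function.Bijective (QuadraticMap.polarBilin Q)) :
    ∃ (b : Module.Basis (I m) A V) (a : Matrix (I m) (I m) A), IsUnit (a + a.transpose).det ∧
      ∀ x : I m → A, qf a x = Q (∑ i, x i • b i) := by
  classical
  let b₀ := Module.finBasisOfFinrankEq A V hV
  let b : Module.Basis (I m) A V :=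
    b₀.reindex ((finCongr (two_mul m)).trans finSumFinEquiv.symm)
  let β := Q.toBilin b₀
  have hβ : ∀ x, β x x = Q x := fun x => by
    conv_rhs => rw [← QuadraticMap.toQuadraticMap_toBilin Q b₀]
    rfl
  let a : Matrix (I m) (I m) A := Matrix.of fun i j => β (b i) (b j)
  have hqf : ∀ x : I m → A, qf a x = Q (∑ i, x i • b i) := fun x => by
    rw [← hβ, qf, dotProduct]
    simp only [map_sum, LinearMap.coe_sum, Finset.sum_apply, map_smul, LinearMap.smul_apply,
      smul_eq_mul, Matrix.mulVec, dotProduct, Finset.mul_sum, a, Matrix.of_apply]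
    rw [Finset.sum_comm]
    exact Finset.sum_congr rfl fun i _ => Finset.sum_congr rfl fun j _ => by ring
  refine ⟨b, a, ?_, hqf⟩
  rw [← Matrix.isUnit_iff_isUnit_det, ← Matrix.mulVec_surjective_iff_isUnit]
  intro y
  obtain ⟨w, hw⟩ := hQ.2 (b.constr A y)
  refine ⟨b.repr w, funext fun i => ?_⟩
  have hp : ∀ x z, QuadraticMap.polar Q x z = β x z + β z x := fun x z => by
    simp only [QuadraticMap.polar, ← hβ, map_add, LinearMap.add_apply]; abel
  have h := LinearMap.congr_fun hw (b i)
  rw [b.constr_basis, QuadraticMap.polarBilin_apply_apply, hp] at h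
  rw [← h]
  conv_rhs => rw [← b.sum_repr w]
  simp only [map_sum, LinearMap.coe_sum, Finset.sum_apply, map_smul, LinearMap.smul_apply,
    smul_eq_mul, ← Finset.sum_add_distrib, Matrix.mulVec, dotProduct, a, Matrix.add_apply,
    Matrix.transpose_apply, Matrix.of_apply]
  exact Finset.sum_congr rfl fun j _ => by ring

theorem exists_splitting [Module.Free A V] [Module.Finite A V] [Nontrivial A] {m : ℕ}
    (hV : Module.finrank A V = 2 * m) (hQ : Function.Bijective (QuadraticMap.polarBilin Q)) :
    Nonempty (Splitting Q m) := by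
  classical
  obtain ⟨b, a, ha, hqf⟩ := exists_basis_matrix Q hV hQ
  obtain ⟨B, _, _, het, hff, g, hg, hform⟩ := exists_split_global a ha
  set aB := a.map (algebraMap A B) with haB
  let QB : QuadraticForm B (I m → B) := LinearMap.BilinMap.toQuadraticMap (Matrix.toLinearMap₂' B aB)
  have hQB : ∀ x, QB x = qf aB x := fun x => Matrix.toLinearMap₂'_apply' aB x x
  -- forwards
  let Fl : (I m → B) →ₗ[B] B ⊗[A] CliffordAlgebra Q :=
    Fintype.linearCombination B fun i => (1 : B) ⊗ₜ[A] ι Q (b i)
  have hFl : ∀ x, Fl x = ∑ i, x i ⊗ₜ[A] ι Q (b i) := fun x => by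
    simp [Fl, Fintype.linearCombination_apply, TensorProduct.smul_tmul']
  have hd : ∀ i, Q (b i) = a i i := fun i => by
    have := hqf (Pi.single i 1)
    rw [Finset.sum_eq_single i (fun j _ hj => by simp [hj]) (fun h => absurd (Finset.mem_univ i) h)] at this
    simpa [qf] using this.symm
  have ho : ∀ i j, QuadraticMap.polar Q (b i) (b j) = a i j + a j i := fun i j => by
    have hsingle : ∀ k, ∑ r, (Pi.single k (1 : A) : I m → A) r • b r = b k := fun k => by
      rw [Finset.sum_eq_single k (fun j _ hj => by simp [hj]) (fun h => absurd (Finset.mem_univ k) h)]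
      simp
    have h2 := hqf (Pi.single i 1 + Pi.single j 1)
    simp only [Pi.add_apply, add_smul, Finset.sum_add_distrib, hsingle] at h2
    rw [qf_add, hqf, hqf, hsingle, hsingle] at h2
    rw [QuadraticMap.polar, ← h2]
    simp [bl]
    abel
  have hsq : ∀ x, Fl x * Fl x = algebraMap B _ (QB x) := by
    intro x
    rw [hQB, hFl, qf, dotProduct, map_sum, Finset.sum_mul_sum]
    simp only [Matrix.mulVec, dotProduct, Finset.mul_sum, map_sum, Algebra.TensorProduct.tmul_mul_tmul]
    rw [← sub_eq_zero, ← Finset.sum_sub_distrib]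
    simp only [← Finset.sum_sub_distrib]
    have hterm : ∀ i j, (x i * x j) ⊗ₜ[A] (ι Q (b i) * ι Q (b j)) -
        algebraMap B (B ⊗[A] CliffordAlgebra Q) (x i * (aB i j * x j)) =
        (x i * x j) ⊗ₜ[A] (ι Q (b i) * ι Q (b j) - algebraMap A _ (a i j)) := fun i j => by
      rw [TensorProduct.tmul_sub, Algebra.TensorProduct.algebraMap_apply, Algebra.algebraMap_self, RingHom.id_apply,
        show algebraMap A (CliffordAlgebra Q) (a i j) = a i j • 1 from Algebra.algebraMap_eq_smul_one _,
        TensorProduct.tmul_smul, TensorProduct.smul_tmul']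
      congr 2
      rw [haB, Matrix.map_apply, Algebra.smul_def]
      ring
    simp only [hterm]
    rw [← Fintype.sum_prod_type']
    refine Finset.sum_involution (fun p _ => p.swap) ?_ ?_ (fun p _ => Finset.mem_univ _)
      (fun p _ => p.swap_swap)
    · rintro ⟨i, j⟩ _
      simp only [Prod.swap_prod_mk]
      rw [mul_comm (x j), ← TensorProduct.tmul_add]
      have : ι Q (b i) * ι Q (b j) - algebraMap A _ (a i j) +
          (ι Q (b j) * ι Q (b i) - algebraMap A _ (a j i)) = 0 := by
        rw [sub_add_sub_comm, ι_mul_ι_add_swap, ho, map_add, sub_self]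
      rw [this, TensorProduct.tmul_zero]
    · rintro ⟨i, j⟩ _ hne h
      obtain rfl : j = i := congrArg Prod.fst h
      apply hne
      rw [ι_sq_scalar, hd, sub_self, TensorProduct.tmul_zero]
  let F : CliffordAlgebra QB →ₐ[B] B ⊗[A] CliffordAlgebra Q := lift QB ⟨Fl, hsq⟩
  -- backwards
  let cl : V →ₗ[A] (I m → B) :=
    ((Algebra.linearMap A B).compLeft (I m)).comp b.equivFun.toLinearMap
  have hcl : ∀ w i, cl w i = algebraMap A B (b.repr w i) := fun w i => rfl
  let g₀ : CliffordAlgebra Q →ₐ[A] CliffordAlgebra QB :=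
    lift Q ⟨((ι QB).restrictScalars A).comp cl, fun w => by
      show ι QB (cl w) * ι QB (cl w) = _
      rw [ι_sq_scalar, IsScalarTower.algebraMap_apply A B (CliffordAlgebra QB), hQB]
      congr 1
      conv_rhs => rw [← b.sum_repr w, ← hqf, map_qf]
      rfl⟩
  let G : B ⊗[A] CliffordAlgebra Q →ₐ[B] CliffordAlgebra QB :=
    Algebra.TensorProduct.lift (Algebra.ofId B _) g₀ fun r y => Algebra.commutes r _
  have hclb : ∀ i, cl (b i) = Pi.single i 1 := fun i => by
    funext j
    rw [hcl, b.repr_self, Finsupp.single_apply, Pi.single_apply]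
    split_ifs <;> simp_all
  have hG : ∀ w, G (1 ⊗ₜ ι Q w) = ι QB (cl w) := fun w => by
    show Algebra.ofId B (CliffordAlgebra QB) 1 * g₀ (ι Q w) = _
    rw [map_one, one_mul]
    exact lift_ι_apply _ _ _
  have hFG : F.comp G = AlgHom.id B _ := by
    apply Algebra.TensorProduct.ext
    · ext
    · refine CliffordAlgebra.hom_ext (b.ext fun i => ?_)
      show F (G (1 ⊗ₜ ι Q (b i))) = 1 ⊗ₜ ι Q (b i)
      rw [hG, hclb]
      simp only [F, lift_ι_apply, hFl]
      rw [Finset.sum_eq_single i (fun j _ hj => by simp [hj]) (fun h => absurd (Finset.mem_univ i) h)]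
      simp
  have hGF : G.comp F = AlgHom.id B _ := by
    refine CliffordAlgebra.hom_ext (LinearMap.ext fun x => ?_)
    show G (F (ι QB x)) = ι QB x
    simp only [F, lift_ι_apply, hFl, map_sum]
    conv_rhs => rw [pi_eq_sum_univ' x, map_sum]
    refine Finset.sum_congr rfl fun i _ => ?_
    rw [map_smul, show (x i) ⊗ₜ[A] ι Q (b i) = x i • ((1 : B) ⊗ₜ[A] ι Q (b i)) by
      rw [TensorProduct.smul_tmul', smul_eq_mul, mul_one], map_smul, hG, hclb]
  let e₁ : B ⊗[A] CliffordAlgebra Q ≃ₐ[B] CliffordAlgebra QB := AlgEquiv.ofAlgHom G F hGF hFG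
  have hgb : Function.Bijective g.mulVec :=
    Function.bijective_iff_has_inverse.2 ⟨g⁻¹.mulVec,
      fun x => by simp [Matrix.mulVec_mulVec, Matrix.nonsing_inv_mul _ hg],
      fun x => by simp [Matrix.mulVec_mulVec, Matrix.mul_nonsing_inv _ hg]⟩
  let eg : (I m → B) ≃ₗ[B] (I m → B) := LinearEquiv.ofBijective g.mulVecLin hgb
  let iso : (hypQ B m).IsometryEquiv QB := ⟨eg, fun x => by
    show QB (g.mulVec x) = hypQ B m x
    rw [hQB, hypQ_apply, hform]⟩
  obtain ⟨Φ, hΦ⟩ := exists_equiv_matrix B m
  let eC := CliffordAlgebra.equivOfIsometry iso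
  have heC : ∀ z, eC.symm (ι QB (eg z)) = ι (hypQ B m) z := fun z => by
    rw [AlgEquiv.symm_apply_eq]
    exact (CliffordAlgebra.map_apply_ι iso.toIsometry z).symm
  have he₁ : ∀ w, e₁ (1 ⊗ₜ ι Q w) = ι QB (cl w) := hG
  clear_value eC e₁
  let T : B ⊗[A] CliffordAlgebra Q ≃ₐ[B] Matrix (Fin m → Bool) (Fin m → Bool) B :=
    (e₁.trans eC.symm).trans Φ
  have hT : ∀ w, Flip par (T (1 ⊗ₜ ι Q w)) := fun w => by
    have h : T (1 ⊗ₜ ι Q w) = Φ (ι (hypQ B m) (eg.symm (cl w))) := by
      rw [show T (1 ⊗ₜ ι Q w) = Φ (eC.symm (e₁ (1 ⊗ₜ ι Q w))) from rfl, he₁, ← heC,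
        LinearEquiv.apply_symm_apply]
    rw [h]
    exact hΦ _
  exact ⟨⟨B, het, hff, T, hT, b⟩⟩

namespace Splitting

variable {Q} {m : ℕ} (S : Splitting Q m)

theorem pres_even {x : CliffordAlgebra Q} (hx : x ∈ evenOdd Q 0) : Pres par (S.T (1 ⊗ₜ x)) := by
  induction x, hx using CliffordAlgebra.even_induction with
  | algebraMap r =>
    rw [show (1 : S.B) ⊗ₜ[A] algebraMap A (CliffordAlgebra Q) r = algebraMap S.B _ (algebraMap A S.B r) by
      rw [Algebra.TensorProduct.algebraMap_apply, Algebra.algebraMap_eq_smul_one (A := CliffordAlgebra Q),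
        TensorProduct.tmul_smul, TensorProduct.smul_tmul', Algebra.smul_def, mul_one,
        Algebra.algebraMap_self, RingHom.id_apply], AlgEquiv.commutes]
    exact pres_algebraMap _
  | add x y hx hy ihx ihy => rw [TensorProduct.tmul_add, map_add]; exact pres_add ihx ihy
  | ι_mul_ι_mul v w x hx ih =>
    rw [show (1 : S.B) ⊗ₜ[A] (ι Q v * ι Q w * x) = (1 ⊗ₜ ι Q v) * (1 ⊗ₜ ι Q w) * (1 ⊗ₜ x) by simp,
      map_mul, map_mul]
    exact pres_mul (flip_mul_flip (S.flip v) (S.flip w)) ih

theorem flip_odd {x : CliffordAlgebra Q} (hx : x ∈ evenOdd Q 1) : Flip par (S.T (1 ⊗ₜ x)) := by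
  induction x, hx using CliffordAlgebra.odd_induction with
  | ι v => exact S.flip v
  | add x y hx hy ihx ihy => rw [TensorProduct.tmul_add, map_add]; exact flip_add ihx ihy
  | ι_mul_ι_mul v w x hx ih =>
    rw [show (1 : S.B) ⊗ₜ[A] (ι Q v * ι Q w * x) = (1 ⊗ₜ ι Q v) * (1 ⊗ₜ ι Q w) * (1 ⊗ₜ x) by simp,
      map_mul, map_mul]
    exact pres_mul_flip (flip_mul_flip (S.flip v) (S.flip w)) ih

theorem exists_even_add_odd (x : CliffordAlgebra Q) :
    ∃ y ∈ evenOdd Q 0, ∃ z ∈ evenOdd Q 1, y + z = x := by
  have h : x ∈ evenOdd Q 0 ⊔ evenOdd Q 1 := by rw [(evenOdd_isCompl Q).sup_eq_top]; trivial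
  exact Submodule.mem_sup.1 h

/-- The base change of the inclusion of the even part. -/
noncomputable def incl : S.B ⊗[A] CliffordAlgebra.even Q →ₐ[S.B] S.B ⊗[A] CliffordAlgebra Q :=
  Algebra.TensorProduct.map (AlgHom.id S.B S.B) (CliffordAlgebra.even Q).val

theorem incl_injective : Function.Injective S.incl := by
  haveI := S.ffl
  have h := Module.Flat.lTensor_preserves_injective_linearMap (M := S.B)
    (CliffordAlgebra.even Q).val.toLinearMap Subtype.val_injective
  convert h using 1
  funext y
  induction y with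
  | zero => simp
  | tmul r x => simp [incl]
  | add a b ha hb => rw [map_add, map_add, ha, hb]

theorem pres_incl (y : S.B ⊗[A] CliffordAlgebra.even Q) : Pres par (S.T (S.incl y)) := by
  induction y with
  | zero => intro s t _; simp
  | tmul r x =>
    rw [show S.incl (r ⊗ₜ x) = r • ((1 : S.B) ⊗ₜ[A] (x : CliffordAlgebra Q)) by
      simp [incl, TensorProduct.smul_tmul'], map_smul]
    exact pres_smul r (S.pres_even x.2)
  | add a b ha hb => rw [map_add, map_add]; exact pres_add ha hb

theorem exists_incl_add (y : S.B ⊗[A] CliffordAlgebra Q) :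
    ∃ z w, S.incl z + w = y ∧ Flip par (S.T w) := by
  induction y with
  | zero => exact ⟨0, 0, by simp, fun s t _ => by simp⟩
  | tmul r x =>
    obtain ⟨x0, h0, x1, h1, rfl⟩ := exists_even_add_odd x
    refine ⟨r ⊗ₜ ⟨x0, h0⟩, r ⊗ₜ x1, by simp [incl, TensorProduct.tmul_add], ?_⟩
    rw [show r ⊗ₜ[A] x1 = r • ((1 : S.B) ⊗ₜ[A] x1) by simp [TensorProduct.smul_tmul'], map_smul]
    exact flip_smul r (S.flip_odd h1)
  | add a b ha hb =>
    obtain ⟨z, w, rfl, hw⟩ := ha
    obtain ⟨z', w', rfl, hw'⟩ := hb
    exact ⟨z + z', w + w', by rw [map_add]; abel, by rw [map_add]; exact flip_add hw hw'⟩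

/-- The pair of diagonal blocks. -/
abbrev E2 (S : Splitting Q m) :=
  Matrix (P m false) (P m false) S.B × Matrix (P m true) (P m true) S.B

/-- The even part becomes a product of two matrix algebras. -/
noncomputable def evHom : S.B ⊗[A] CliffordAlgebra.even Q →ₐ[S.B] S.E2 where
  toFun y := ((S.T (S.incl y)).submatrix Subtype.val Subtype.val,
    (S.T (S.incl y)).submatrix Subtype.val Subtype.val)
  map_one' := by
    simp only [map_one]
    exact Prod.ext (Matrix.submatrix_one _ Subtype.val_injective) (Matrix.submatrix_one _ Subtype.val_injective)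
  map_mul' y z := by
    simp only [map_mul]
    exact Prod.ext (toBlock_mul_pres (S.pres_incl y) false) (toBlock_mul_pres (S.pres_incl y) true)
  map_zero' := by simp only [map_zero]; exact Prod.ext (by ext; simp) (by ext; simp)
  map_add' y z := by simp only [map_add]; exact Prod.ext (by ext; simp) (by ext; simp)
  commutes' r := by
    simp only [AlgHom.commutes, AlgEquiv.commutes]
    refine Prod.ext ?_ ?_ <;> ext s t <;> simp [Matrix.algebraMap_matrix_apply, Subtype.val_injective.eq_iff]

theorem evHom_bijective : Function.Bijective S.evHom := by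
  constructor
  · rw [injective_iff_map_eq_zero]
    intro y hy
    apply S.incl_injective
    apply S.T.injective
    rw [map_zero, map_zero]
    ext s t
    by_cases h : par s = par t
    · have h1 := congrArg Prod.fst hy
      have h2 := congrArg Prod.snd hy
      cases hs : par s
      · exact congrFun (congrFun h1 ⟨s, hs⟩) ⟨t, by rw [← h, hs]⟩
      · exact congrFun (congrFun h2 ⟨s, hs⟩) ⟨t, by rw [← h, hs]⟩
    · exact S.pres_incl y s t h
  · rintro ⟨M0, M1⟩
    let M : Matrix (Fin m → Bool) (Fin m → Bool) S.B := Matrix.of fun s t =>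
      if h : par s = false ∧ par t = false then M0 ⟨s, h.1⟩ ⟨t, h.2⟩
      else if h : par s = true ∧ par t = true then M1 ⟨s, h.1⟩ ⟨t, h.2⟩ else 0
    have hM : Pres par M := fun s t h => by
      simp only [M, Matrix.of_apply]
      rw [dif_neg (fun h' => h (h'.1.trans h'.2.symm)), dif_neg (fun h' => h (h'.1.trans h'.2.symm))]
    obtain ⟨z, w, hzw, hw⟩ := S.exists_incl_add (S.T.symm M)
    have : S.T (S.incl z) = M := by
      have e : S.T (S.incl z) + S.T w = M := by rw [← map_add, hzw, AlgEquiv.apply_symm_apply]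
      have hw0 : S.T w = 0 := eq_zero_of_pres_flip (fun s t h => by
        have := congrFun (congrFun e s) t
        rw [Matrix.add_apply, S.pres_incl z s t h, hM s t h, zero_add] at this
        exact this) hw
      rw [hw0, add_zero] at e
      exact e
    refine ⟨z, Prod.ext ?_ ?_⟩ <;> ext ⟨s, hs⟩ ⟨t, ht⟩
    · show S.T (S.incl z) s t = _
      rw [this]
      simp [M, hs, ht]
    · show S.T (S.incl z) s t = _
      rw [this]
      simp [M, hs, ht]

/-- The even part becomes a product of two matrix algebras. -/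
noncomputable def ev : S.B ⊗[A] CliffordAlgebra.even Q ≃ₐ[S.B] S.E2 :=
  AlgEquiv.ofBijective S.evHom S.evHom_bijective

theorem gen_mem (i j : I m) : ι Q (S.b i) * ι Q (S.b j) ∈ CliffordAlgebra.even Q :=
  ι_mul_ι_mem_evenOdd_zero Q _ _

/-- Commutators with the products of two basis vectors. -/
noncomputable def comm : CliffordAlgebra.even Q →ₗ[A] (I m × I m → CliffordAlgebra.even Q) :=
  LinearMap.pi fun p =>
    LinearMap.mulRight A ⟨_, S.gen_mem p.1 p.2⟩ - LinearMap.mulLeft A ⟨_, S.gen_mem p.1 p.2⟩

theorem mem_center_of_comm_eq_zero {z : CliffordAlgebra.even Q} (hz : S.comm z = 0) :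
    z ∈ Subalgebra.center A (CliffordAlgebra.even Q) := by
  rw [Subalgebra.mem_center_iff]
  intro w
  have hb : ∀ i j, (z : CliffordAlgebra Q) * (ι Q (S.b i) * ι Q (S.b j)) =
      ι Q (S.b i) * ι Q (S.b j) * z := fun i j =>
    sub_eq_zero.1 (congrArg Subtype.val (congrFun hz (i, j)))
  have hvw : ∀ v v', Commute (z : CliffordAlgebra Q) (ι Q v * ι Q v') := fun v v' => by
    rw [← S.b.sum_repr v, ← S.b.sum_repr v', map_sum, map_sum, Finset.sum_mul_sum]
    refine Commute.sum_right _ _ _ fun i _ => Commute.sum_right _ _ _ fun j _ => ?_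
    rw [map_smul, map_smul, smul_mul_smul_comm]
    exact (show Commute _ _ from hb i j).smul_right _
  have : Commute (z : CliffordAlgebra Q) w.1 := by
    obtain ⟨w, hw⟩ := w
    show Commute (z : CliffordAlgebra Q) w
    induction w, hw using CliffordAlgebra.even_induction with
    | algebraMap r => exact (Algebra.commutes r _).symm
    | add x y hx hy ihx ihy => exact ihx.add_right ihy
    | ι_mul_ι_mul v v' x hx ih => exact (hvw v v').mul_right ih
  exact Subtype.ext this.eq.symm

/-- The base change of the centre of the even part, as block matrices. -/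
noncomputable def cenHom : S.B ⊗[A] Subalgebra.center A (CliffordAlgebra.even Q) →ₐ[S.B] S.E2 :=
  S.ev.toAlgHom.comp (Algebra.TensorProduct.map (AlgHom.id S.B S.B)
    (Subalgebra.center A (CliffordAlgebra.even Q)).val)

theorem cenHom_injective : Function.Injective S.cenHom := by
  haveI := S.ffl
  refine S.ev.injective.comp ?_
  have h := Module.Flat.lTensor_preserves_injective_linearMap (M := S.B)
    (Subalgebra.center A (CliffordAlgebra.even Q)).val.toLinearMap Subtype.val_injective
  convert h using 1
  funext y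
  induction y with
  | zero => simp
  | tmul r x => simp
  | add a b ha hb => rw [map_add, map_add, ha, hb]

/-- Pairs of scalar matrices. -/
noncomputable def sc : (S.B × S.B) →ₐ[S.B] S.E2 :=
  ((Matrix.scalarAlgHom (P m false) S.B).comp (AlgHom.fst S.B S.B S.B)).prod
    ((Matrix.scalarAlgHom (P m true) S.B).comp (AlgHom.snd S.B S.B S.B))

theorem card_P {k : ℕ} (b : Bool) : Fintype.card (P (k + 1) b) = 2 ^ k := card_par k b

theorem nonempty_P (hm : 1 ≤ m) (b : Bool) : Nonempty (P m b) := by
  obtain ⟨k, rfl⟩ := Nat.exists_eq_add_of_le' hm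
  exact Fintype.card_pos_iff.1 (by rw [card_P]; positivity)

theorem sc_injective (hm : 1 ≤ m) : Function.Injective S.sc := by
  intro x y h
  obtain ⟨s⟩ := nonempty_P hm false
  obtain ⟨t⟩ := nonempty_P hm true
  have h1 := congrFun (congrFun (congrArg Prod.fst h) s) s
  have h2 := congrFun (congrFun (congrArg Prod.snd h) t) t
  simp [sc] at h1 h2
  exact Prod.ext h1 h2

theorem range_cenHom : S.cenHom.range = S.sc.range := by
  classical
  apply le_antisymm
  · rintro _ ⟨z, rfl⟩
    have hc : ∀ y, Commute (S.cenHom z) y := by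
      intro y
      obtain ⟨y, rfl⟩ := S.ev.surjective y
      show Commute (S.ev _) (S.ev y)
      refine Commute.map ?_ S.ev
      induction z with
      | zero => rw [map_zero]; exact Commute.zero_left _
      | add a b ha hb => rw [map_add]; exact ha.add_left hb
      | tmul r x =>
        induction y with
        | zero => exact Commute.zero_right _
        | add a b ha hb => exact ha.add_right hb
        | tmul r' w =>
          show Commute (r ⊗ₜ[A] (x : CliffordAlgebra.even Q)) (r' ⊗ₜ[A] w)
          rw [Commute, SemiconjBy, Algebra.TensorProduct.tmul_mul_tmul,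
            Algebra.TensorProduct.tmul_mul_tmul, mul_comm r, Subalgebra.mem_center_iff.1 x.2 w]
    obtain ⟨r, hr⟩ : (S.cenHom z).1 ∈ Set.range (Matrix.scalar (P m false)) :=
      Matrix.mem_range_scalar_of_commute_single fun i j _ =>
        ((hc (Matrix.single i j 1, 0)).map (RingHom.fst _ _)).symm
    obtain ⟨r', hr'⟩ : (S.cenHom z).2 ∈ Set.range (Matrix.scalar (P m true)) :=
      Matrix.mem_range_scalar_of_commute_single fun i j _ =>
        ((hc (0, Matrix.single i j 1)).map (RingHom.snd _ _)).symm
    exact ⟨(r, r'), Prod.ext hr hr'⟩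
  · rintro _ ⟨⟨r, r'⟩, rfl⟩
    set y := S.ev.symm (S.sc (r, r')) with hy
    have hyc : ∀ w, Commute y w := fun w => by
      have : Commute (S.sc (r, r')) (S.ev w) :=
        Prod.ext (Matrix.scalar_commute r (mul_comm r) _).eq (Matrix.scalar_commute r' (mul_comm r') _).eq
      have h := this.map S.ev.symm
      rwa [AlgEquiv.symm_apply_apply] at h
    haveI := S.ffl
    have hexact : Function.Exact
        (Subalgebra.center A (CliffordAlgebra.even Q)).val.toLinearMap S.comm := by
      intro z
      constructor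
      · intro hz
        exact ⟨⟨z, S.mem_center_of_comm_eq_zero hz⟩, rfl⟩
      · rintro ⟨w, rfl⟩
        funext p
        exact sub_eq_zero.2 (Subalgebra.mem_center_iff.1 w.2 _).symm
    have hzero : S.comm.lTensor S.B y = 0 := by
      apply (TensorProduct.piRight A A S.B fun _ => CliffordAlgebra.even Q).injective
      rw [map_zero]
      funext p
      have key : ∀ y', TensorProduct.piRight A A S.B (fun _ => CliffordAlgebra.even Q)
          (S.comm.lTensor S.B y') p = y' * (1 ⊗ₜ ⟨_, S.gen_mem p.1 p.2⟩) -
            (1 ⊗ₜ ⟨_, S.gen_mem p.1 p.2⟩) * y' := by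
        intro y'
        induction y' with
        | zero => simp
        | tmul r'' w => simp [comm, TensorProduct.tmul_sub]
        | add a b ha hb => simp only [map_add, Pi.add_apply, ha, hb, add_mul, mul_add]; abel
      rw [key, (hyc _).eq, sub_self, Pi.zero_apply]
    obtain ⟨z, hz⟩ := ((Module.Flat.lTensor_exact S.B hexact) y).1 hzero
    refine ⟨z, ?_⟩
    show S.ev (Algebra.TensorProduct.map (AlgHom.id S.B S.B)
      (Subalgebra.center A (CliffordAlgebra.even Q)).val z) = S.sc (r, r')
    rw [← AlgEquiv.apply_symm_apply S.ev (S.sc (r, r')), ← hy, ← hz]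
    congr 1

/-- The centre of the even part becomes split of rank two. -/
noncomputable def cen (hm : 1 ≤ m) :
    S.B ⊗[A] Subalgebra.center A (CliffordAlgebra.even Q) ≃ₐ[S.B] S.B × S.B :=
  (AlgEquiv.ofInjective S.cenHom S.cenHom_injective).trans
    ((Subalgebra.equivOfEq _ _ S.range_cenHom).trans (AlgEquiv.ofInjective S.sc (S.sc_injective hm)).symm)

theorem sc_cen (hm : 1 ≤ m) (z : S.B ⊗[A] Subalgebra.center A (CliffordAlgebra.even Q)) :
    S.sc (S.cen hm z) = S.cenHom z :=
  congrArg Subtype.val ((AlgEquiv.ofInjective S.sc (S.sc_injective hm)).apply_symm_apply _)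

end Splitting

end Clifford

end QSplit86
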