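import Groth.Agent.QSplit86.CliffRep
import Groth.Agent.S16651

/-!
# Lifting points of the Clifford groups
-/

set_option autoImplicit false
set_option maxHeartbeats 800000
set_option synthInstance.maxHeartbeats 200000
universe u

open CategoryTheory AlgebraicGeometry TensorProduct CliffordAlgebra Matrix Groth.Agent.S17014 Groth.Agent.QuadCentre
open scoped Pointwise

namespace QSplit86

variable {R : Type u} [CommRing R]

section Forms

variable {n : ℕ} (Q : QuadraticForm R (Fin n → R)) (A : Type u) [CommRing A] [Algebra R A]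

theorem coeffs_QA :
    QuadGrp.coeffs (stdBasis (R := R) A) (LinearEquiv.refl A A) (QA Q A) = cA A (stdCoeffs Q) :=
  coeff_ext fun x => by
    rw [qf_upper_coeffs]
    show QuadGrp.baseChangeForm A Q _ = _
    rw [baseChangeForm_eq_qf, ← Module.Basis.equivFun_symm_apply, LinearEquiv.apply_symm_apply]

theorem isRegular_QA (h : IsUnit (polarMatAt (stdCoeffs Q)).det) : QuadGrp.IsRegular (QA Q A) := by
  classical
  have hc := isUnit_det_cA A h
  set b := stdBasis (R := R) A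
  set P := polarMatAt (cA A (stdCoeffs Q)) with hP
  have hpol : ∀ x y, QuadraticMap.polarBilin (QA Q A) x y = b.equivFun x ⬝ᵥ P *ᵥ b.equivFun y := fun x y => by
    show QuadGrp.baseChangeForm A Q (x + y) - QuadGrp.baseChangeForm A Q x - QuadGrp.baseChangeForm A Q y = _
    rw [hP, baseChangeForm_eq_qf, baseChangeForm_eq_qf, baseChangeForm_eq_qf, map_add, qf_add, polarMatAt_eq_upper,
      bl]
    abel
  have hsingle : ∀ j, b.equivFun (b j) = Pi.single j 1 := fun j => by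
    funext k; simp [Pi.single_apply, Finsupp.single_apply, eq_comm]
  constructor
  · rw [injective_iff_map_eq_zero]
    intro x hx
    refine b.equivFun.map_eq_zero_iff.1 ?_
    have h0 : b.equivFun x ᵥ* P = 0 := funext fun j => by
      have h := hpol x (b j)
      rw [hx, hsingle, Matrix.dotProduct_mulVec, dotProduct_single, mul_one] at h
      exact h.symm
    exact Matrix.vecMul_injective_of_isUnit ((Matrix.isUnit_iff_isUnit_det _).2 hc)
      (by simp only; rw [h0, Matrix.zero_vecMul])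
  · intro f
    refine ⟨b.equivFun.symm ((fun j => f (b j)) ᵥ* P⁻¹), b.ext fun j => ?_⟩
    rw [hpol, hsingle, LinearEquiv.apply_symm_apply, Matrix.dotProduct_mulVec, Matrix.vecMul_vecMul,
      Matrix.nonsing_inv_mul _ hc, Matrix.vecMul_one, dotProduct_single, mul_one]

theorem isSemiregular_QA {m : ℕ} (Q : QuadraticForm R (Fin (2 * m + 1) → R)) (h : IsUnit (hd (stdCoeffs Q))) :
    QuadGrp.IsSemiregular (stdBasis (R := R) A) (LinearEquiv.refl A A) (QA Q A) := by
  rw [QuadGrp.IsSemiregular, halfDisc_eq_hd, coeffs_QA, cA, ← map_hd]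
  exact h.map _

theorem mem_O_iff_subst (g : (A ⊗[R] (Fin n → R)) ≃ₗ[A] (A ⊗[R] (Fin n → R))) :
    g ∈ QuadGrp.O (QA Q A) ↔
      subst (cA A (stdCoeffs Q)) (LinearMap.toMatrix (stdBasis A) (stdBasis A) g.toLinearMap) =
        cA A (stdCoeffs Q) := by
  rw [← mem_orth_iff]
  exact forall_congr' fun z => (AlgebraTensorModule.rid R A A).injective.eq_iff

theorem finrank_QA [Nontrivial A] : Module.finrank A (A ⊗[R] (Fin n → R)) = n := by
  rw [Module.finrank_eq_card_basis (stdBasis (R := R) A), Fintype.card_fin]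

end Forms

section Lift

variable {n : ℕ} {A B : Type u} [CommRing A] [Algebra R A] [CommRing B] [Algebra R B]
  (π : A →ₐ[R] B) (hker : RingHom.ker π.toRingHom ^ 2 = ⊥)

include hker in
theorem isUnit_of_map_sq_zero (hπ : Function.Surjective π) {a : A} (h : IsUnit (π a)) : IsUnit a := by
  obtain ⟨b', hb'⟩ := h.exists_right_inv
  obtain ⟨b, rfl⟩ := hπ b'
  have hm : a * b - 1 ∈ RingHom.ker π.toRingHom := by
    show π (a * b - 1) = 0
    rw [map_sub, map_mul, map_one, hb', sub_self]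
  have := ker_mul_eq_zero π.toRingHom hker hm hm
  exact IsUnit.of_mul_eq_one (b * (2 - a * b)) (by linear_combination -this)

theorem exists_unit_lift (hπ : Function.Surjective π) (hker : RingHom.ker π.toRingHom ^ 2 = ⊥) (t : Bˣ) :
    ∃ s : Aˣ, π s = t := by
  obtain ⟨a, ha⟩ := hπ t
  exact ⟨(isUnit_of_map_sq_zero π hker hπ (ha ▸ t.isUnit)).unit, ha⟩

theorem rTensor_g {g : (A ⊗[R] (Fin n → R)) ≃ₗ[A] (A ⊗[R] (Fin n → R))}
    {gb : (B ⊗[R] (Fin n → R)) ≃ₗ[B] (B ⊗[R] (Fin n → R))}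
    (h : (LinearMap.toMatrix (stdBasis A) (stdBasis A) g.toLinearMap).map π.toRingHom =
      LinearMap.toMatrix (stdBasis B) (stdBasis B) gb.toLinearMap) (v : A ⊗[R] (Fin n → R)) :
    LinearMap.rTensor (Fin n → R) π.toLinearMap (g v) = gb (LinearMap.rTensor (Fin n → R) π.toLinearMap v) := by
  classical
  apply (stdBasis (R := R) B).repr.injective
  ext i
  have hv : ⇑((stdBasis (R := R) B).repr (LinearMap.rTensor (Fin n → R) π.toLinearMap v)) =
      π.toRingHom ∘ ⇑((stdBasis (R := R) A).repr v) := funext fun j => repr_rTensor A π v j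
  rw [repr_rTensor, ← LinearEquiv.coe_coe g, ← LinearEquiv.coe_coe gb, ← LinearMap.toMatrix_mulVec_repr (stdBasis A) (stdBasis A),
    ← LinearMap.toMatrix_mulVec_repr (stdBasis B) (stdBasis B), hv, ← h]
  exact RingHom.map_mulVec π.toRingHom _ _ i

variable (Q : QuadraticForm R (Fin n → R))

theorem commute_of_conj (hπ : Function.Surjective π) {u : (CliffordAlgebra (QA Q A))ˣ} {ub : (CliffordAlgebra (QA Q B))ˣ}
    {g : (A ⊗[R] (Fin n → R)) ≃ₗ[A] (A ⊗[R] (Fin n → R))}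
    {gb : (B ⊗[R] (Fin n → R)) ≃ₗ[B] (B ⊗[R] (Fin n → R))}
    (h : (LinearMap.toMatrix (stdBasis A) (stdBasis A) g.toLinearMap).map π.toRingHom =
      LinearMap.toMatrix (stdBasis B) (stdBasis B) gb.toLinearMap)
    (hu : ∀ v, (u : CliffordAlgebra (QA Q A)) * ι (QA Q A) v * ↑u⁻¹ = ι (QA Q A) (g v))
    (hub : ∀ v, (ub : CliffordAlgebra (QA Q B)) * ι (QA Q B) v * ↑ub⁻¹ = ι (QA Q B) (gb v)) :
    ((Units.map (Fm Q π).toMonoidHom u)⁻¹ * ub : (CliffordAlgebra (QA Q B))ˣ).val ∈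
      Subalgebra.center B (CliffordAlgebra (QA Q B)) := by
  refine mem_center_of_commute_ι fun w => ?_
  obtain ⟨v, rfl⟩ : ∃ v, LinearMap.rTensor (Fin n → R) π.toLinearMap v = w :=
    LinearMap.rTensor_surjective (Fin n → R) (g := π.toLinearMap) hπ w
  set u' := Units.map (Fm Q π).toMonoidHom u
  set w := LinearMap.rTensor (Fin n → R) π.toLinearMap v
  have h2 : (u' : CliffordAlgebra (QA Q B)) * ι (QA Q B) w * ↑u'⁻¹ =
      (ub : CliffordAlgebra (QA Q B)) * ι (QA Q B) w * ↑ub⁻¹ := by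
    rw [hub, ← rTensor_g π h, ← Fm_ι Q π (g v), ← hu, map_mul, map_mul, Fm_ι]
    rfl
  calc (↑(u'⁻¹ * ub) : CliffordAlgebra (QA Q B)) * ι (QA Q B) w
      = ↑u'⁻¹ * ((ub : CliffordAlgebra (QA Q B)) * ι (QA Q B) w * ↑ub⁻¹) * ub := by simp [mul_assoc]
    _ = ↑u'⁻¹ * ((u' : CliffordAlgebra (QA Q B)) * ι (QA Q B) w * ↑u'⁻¹) * ub := by rw [h2]
    _ = ι (QA Q B) w * ↑(u'⁻¹ * ub) := by simp [mul_assoc]

omit hker in
theorem exists_scalar (z : (CliffordAlgebra (QA Q B))ˣ)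
    (h1 : (z : CliffordAlgebra (QA Q B)) ∈ (algebraMap B (CliffordAlgebra (QA Q B))).range)
    (h2 : (↑z⁻¹ : CliffordAlgebra (QA Q B)) ∈ (algebraMap B (CliffordAlgebra (QA Q B))).range) :
    ∃ t : Bˣ, (z : CliffordAlgebra (QA Q B)) = algebraMap B _ t := by
  haveI : Module.Free B (B ⊗[R] (Fin n → R)) := Module.Free.of_basis (stdBasis (R := R) B)
  haveI : Module.Finite B (B ⊗[R] (Fin n → R)) := Module.Finite.of_basis (stdBasis (R := R) B)
  obtain ⟨t, ht⟩ := h1
  obtain ⟨t', ht'⟩ := h2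
  have : t * t' = 1 := algebraMap_clifford_injective (QA Q B) (by rw [map_mul, ht, ht', map_one, Units.mul_inv])
  exact ⟨⟨t, t', this, by rw [mul_comm, this]⟩, ht.symm⟩

/-- Multiplying a conjugator by a scalar. -/
theorem scalar_conj {V : Type*} [AddCommGroup V] [Module A V] {q : QuadraticForm A V} (s : Aˣ) (u : (CliffordAlgebra q)ˣ)
    (v : V) :
    ((Units.map (algebraMap A (CliffordAlgebra q)).toMonoidHom s * u : (CliffordAlgebra q)ˣ) : CliffordAlgebra q) *
      ι q v * ↑(Units.map (algebraMap A (CliffordAlgebra q)).toMonoidHom s * u)⁻¹ = u * ι q v * ↑u⁻¹ := by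
  rw [_root_.mul_inv_rev, Units.val_mul, Units.val_mul]
  set σ := Units.map (algebraMap A (CliffordAlgebra q)).toMonoidHom s
  have hσ : ∀ y, Commute (σ : CliffordAlgebra q) y := fun y => Algebra.commutes (s : A) y
  calc (σ : CliffordAlgebra q) * u * ι q v * (↑u⁻¹ * ↑σ⁻¹)
      = (σ : CliffordAlgebra q) * (u * ι q v * ↑u⁻¹) * ↑σ⁻¹ := by simp [mul_assoc]
    _ = (u * ι q v * ↑u⁻¹) * σ * ↑σ⁻¹ := by rw [(hσ _).eq]
    _ = _ := by rw [mul_assoc, Units.mul_inv, mul_one]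

/-- Correcting a lift by a scalar. -/
theorem eq_Fm_scalar_mul {u : (CliffordAlgebra (QA Q A))ˣ} {ub : (CliffordAlgebra (QA Q B))ˣ} {s : A} {t : B}
    (hst : π s = t)
    (ht : ((Units.map (Fm Q π).toMonoidHom u)⁻¹ * ub : (CliffordAlgebra (QA Q B))ˣ).val = algebraMap B _ t) :
    (ub : CliffordAlgebra (QA Q B)) = Fm Q π (algebraMap A _ s * u) := by
  have h : (ub : CliffordAlgebra (QA Q B)) = Fm Q π u * algebraMap B _ t := by
    rw [← ht, Units.val_mul, ← mul_assoc]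
    show _ = (↑(Units.map (Fm Q π).toMonoidHom u) : CliffordAlgebra (QA Q B)) * _ * _
    rw [Units.mul_inv, one_mul]
  rw [h, map_mul, Fm_algebraMap, hst, Algebra.commutes]

end Lift

section Even

variable {m : ℕ} (Q : QuadraticForm R (Fin (2 * m) → R)) {A B : Type u} [CommRing A] [Algebra R A] [CommRing B]
  [Algebra R B] [IsLocalRing A] (π : A →ₐ[R] B)

theorem exists_lift_gpin_even (hQ : IsUnit (polarMatAt (stdCoeffs Q)).det) (hπ : Function.Surjective π)
    (hker : RingHom.ker π.toRingHom ^ 2 = ⊥) [Nontrivial B] {ub : (CliffordAlgebra (QA Q B))ˣ}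
    (hub : ub ∈ QuadGrp.GPin' (QA Q B)) :
    ∃ u : (CliffordAlgebra (QA Q A))ˣ, u ∈ QuadGrp.GPin' (QA Q A) ∧
      QuadGrp.IsLocHomog (QA Q A) (u : CliffordAlgebra (QA Q A)) ∧ (ub : CliffordAlgebra (QA Q B)) = Fm Q π u := by
  classical
  haveI : Module.Free A (A ⊗[R] (Fin (2 * m) → R)) := Module.Free.of_basis (stdBasis (R := R) A)
  haveI : Module.Finite A (A ⊗[R] (Fin (2 * m) → R)) := Module.Finite.of_basis (stdBasis (R := R) A)
  haveI : Module.Free B (B ⊗[R] (Fin (2 * m) → R)) := Module.Free.of_basis (stdBasis (R := R) B)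
  haveI : Module.Finite B (B ⊗[R] (Fin (2 * m) → R)) := Module.Finite.of_basis (stdBasis (R := R) B)
  obtain ⟨gb, hgb, hconj⟩ := exists_conj_of_mem hub
  have hs := (mem_O_iff_subst Q B gb).1 hgb
  rw [← map_cA π] at hs
  obtain ⟨G', hG', hs'⟩ := exists_lift_of_isUnit π.toRingHom hπ hker (cA A (stdCoeffs Q)) (isUnit_det_cA A hQ) _ hs
  have hdet : IsUnit G'.det := isUnit_of_map_sq_zero π hker hπ (by
    rw [show π G'.det = (G'.map π.toRingHom).det from RingHom.map_det π.toRingHom G', hG', det_eq_det_toMatrix]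
    exact Units.isUnit _)
  let g := ofMatrix (R := R) A G' hdet
  have hg : g ∈ QuadGrp.O (QA Q A) := (mem_O_iff_subst Q A g).2 (by rw [toMatrix_ofMatrix]; exact hs')
  have hreg := isRegular_QA Q A hQ
  obtain ⟨u₀, hu₀, hu₀c⟩ := exists_conj (Q := QA Q A) (m := m) (finrank_QA A) hreg g hg
  obtain ⟨S⟩ := exists_splitting (QA Q B) (finrank_QA B) (isRegular_QA Q B hQ)
  have hc := commute_of_conj π Q hπ (g := g) (by rw [toMatrix_ofMatrix]; exact hG') hu₀c hconj
  set z := (Units.map (Fm Q π).toMonoidHom u₀)⁻¹ * ub with hz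
  have hc' : (↑z⁻¹ : CliffordAlgebra (QA Q B)) ∈ Subalgebra.center B (CliffordAlgebra (QA Q B)) :=
    Subalgebra.mem_center_iff.2 fun y => ((Commute.units_inv_left (show Commute (z : CliffordAlgebra (QA Q B)) y from
      (Subalgebra.mem_center_iff.1 hc y).symm)).eq).symm
  rw [Groth.Agent.S16651.center_bot S, Algebra.mem_bot] at hc hc'
  obtain ⟨t, ht⟩ := exists_scalar Q z hc hc'
  obtain ⟨s, hst⟩ := exists_unit_lift π hπ hker t
  refine ⟨Units.map (algebraMap A _).toMonoidHom s * u₀,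
    mem_GPin'_of_conj g fun v => (scalar_conj s u₀ v).trans (hu₀c v), ?_, ?_⟩
  · exact isLocHomog_of_mem (Q := QA Q A) (m := m) (finrank_QA A) hreg _
      (mem_GPin'_of_conj g fun v => (scalar_conj s u₀ v).trans (hu₀c v))
  · exact eq_Fm_scalar_mul π Q hst ht

end Even

section Parity

variable {n : ℕ} {A : Type u} [CommRing A] [Algebra R A] (Q : QuadraticForm R (Fin n → R))

theorem isLocHomog_of_mem_evenOdd {i : ZMod 2} {x : CliffordAlgebra (QA Q A)} (hx : x ∈ evenOdd (QA Q A) i) :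
    QuadGrp.IsLocHomog (QA Q A) x := by
  fin_cases i
  · exact ⟨1, IsIdempotentElem.one, by rw [one_smul]; exact hx, by rw [sub_self, zero_smul]; exact Submodule.zero_mem _⟩
  · exact ⟨0, IsIdempotentElem.zero, by rw [zero_smul]; exact Submodule.zero_mem _, by rw [sub_zero, one_smul]; exact hx⟩

theorem exists_parity [IsLocalRing A] {x : CliffordAlgebra (QA Q A)} (hx : QuadGrp.IsLocHomog (QA Q A) x) :
    ∃ i, x ∈ evenOdd (QA Q A) i := by
  obtain ⟨e, he, h0, h1⟩ := hx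
  have he' : e * (1 - e) = 0 := by rw [mul_sub, mul_one, he.eq, sub_self]
  rcases IsLocalRing.isUnit_or_isUnit_one_sub_self e with hu | hu
  · exact ⟨0, by rw [← Submodule.smul_mem_iff_of_isUnit _ hu] ; exact h0⟩
  · exact ⟨1, by rw [← Submodule.smul_mem_iff_of_isUnit _ hu] ; exact h1⟩

theorem inv_mem_evenOdd {i : ZMod 2} {u : (CliffordAlgebra (QA Q A))ˣ}
    (hu : (u : CliffordAlgebra (QA Q A)) ∈ evenOdd (QA Q A) i) :
    (↑u⁻¹ : CliffordAlgebra (QA Q A)) ∈ evenOdd (QA Q A) i := by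
  fin_cases i
  · exact (QuadGrp.evenUnits (QA Q A)).inv_mem hu
  · have h := QuadGrp.isLocHomog_inv_aux (QA Q A) u 0 (by rw [zero_smul]; exact Submodule.zero_mem _)
      (by rw [sub_zero, one_smul]; exact hu)
    rw [sub_zero, one_smul] at h
    exact h.2

theorem inv_mem_center (z : (CliffordAlgebra (QA Q A))ˣ)
    (hz : (z : CliffordAlgebra (QA Q A)) ∈ Subalgebra.center A (CliffordAlgebra (QA Q A))) :
    (↑z⁻¹ : CliffordAlgebra (QA Q A)) ∈ Subalgebra.center A (CliffordAlgebra (QA Q A)) :=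
  Subalgebra.mem_center_iff.2 fun y => ((Commute.units_inv_left (show Commute (z : CliffordAlgebra (QA Q A)) y from
    (Subalgebra.mem_center_iff.1 hz y).symm)).eq).symm

/-- Multiplying a conjugator by a central unit. -/
theorem central_conj (z u : (CliffordAlgebra (QA Q A))ˣ)
    (hz : (z : CliffordAlgebra (QA Q A)) ∈ Subalgebra.center A (CliffordAlgebra (QA Q A)))
    (v : A ⊗[R] (Fin n → R)) :
    ((z * u : (CliffordAlgebra (QA Q A))ˣ) : CliffordAlgebra (QA Q A)) * ι (QA Q A) v * ↑(z * u)⁻¹ =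
      u * ι (QA Q A) v * ↑u⁻¹ := by
  rw [_root_.mul_inv_rev, Units.val_mul, Units.val_mul]
  calc (z : CliffordAlgebra (QA Q A)) * u * ι (QA Q A) v * (↑u⁻¹ * ↑z⁻¹)
      = (z : CliffordAlgebra (QA Q A)) * (u * ι (QA Q A) v * ↑u⁻¹) * ↑z⁻¹ := by simp [mul_assoc]
    _ = (u * ι (QA Q A) v * ↑u⁻¹) * z * ↑z⁻¹ := by rw [Subalgebra.mem_center_iff.1 hz]
    _ = _ := by rw [mul_assoc, Units.mul_inv, mul_one]

end Parity

section Odd

variable {m : ℕ} (Q : QuadraticForm R (Fin (2 * m + 1) → R)) {A B : Type u} [CommRing A] [Algebra R A] [CommRing B]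
  [Algebra R B] [IsLocalRing A] (π : A →ₐ[R] B)

theorem exists_lift_gpin_odd (hQ : IsUnit (hd (stdCoeffs Q)))
    (K : Matrix (Fin (2 * m + 1)) (Fin (2 * m + 1)) A) (hK : IsUnit K.det)
    (hcK : cA A (stdCoeffs Q) = subst (coefSplit A m) K)
    (hπ : Function.Surjective π) (hker : RingHom.ker π.toRingHom ^ 2 = ⊥) [Nontrivial B]
    {ub : (CliffordAlgebra (QA Q B))ˣ} (hub : ub ∈ QuadGrp.GPin' (QA Q B))
    (hh : QuadGrp.IsLocHomog (QA Q B) (ub : CliffordAlgebra (QA Q B))) :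
    ∃ u : (CliffordAlgebra (QA Q A))ˣ, u ∈ QuadGrp.GPin' (QA Q A) ∧
      (∃ i, (u : CliffordAlgebra (QA Q A)) ∈ evenOdd (QA Q A) i) ∧
      (ub : CliffordAlgebra (QA Q B)) = Fm Q π u := by
  classical
  haveI : IsLocalRing B := IsLocalRing.of_surjective' π.toRingHom hπ
  haveI : Module.Free A (A ⊗[R] (Fin (2 * m + 1) → R)) := Module.Free.of_basis (stdBasis (R := R) A)
  haveI : Module.Finite A (A ⊗[R] (Fin (2 * m + 1) → R)) := Module.Finite.of_basis (stdBasis (R := R) A)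
  haveI : Module.Free B (B ⊗[R] (Fin (2 * m + 1) → R)) := Module.Free.of_basis (stdBasis (R := R) B)
  haveI : Module.Finite B (B ⊗[R] (Fin (2 * m + 1) → R)) := Module.Finite.of_basis (stdBasis (R := R) B)
  obtain ⟨i, hi⟩ := exists_parity Q hh
  obtain ⟨gb, hgb, hconj⟩ := exists_conj_of_mem hub
  obtain ⟨SB⟩ := exists_oddSplitting (QA Q B) (stdBasis (R := R) B) (isSemiregular_QA B Q hQ)
  have hdb : (LinearMap.toMatrix (stdBasis B) (stdBasis B) gb.toLinearMap).det = 1 := by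
    rw [LinearMap.det_toMatrix]; exact SB.det_eq_one (stdBasis (R := R) B) hconj
  have hs := (mem_O_iff_subst Q B gb).1 hgb
  rw [← map_cA π] at hs
  obtain ⟨G', hG', hs', hd'⟩ := exists_lift_of_split π.toRingHom hπ hker _ K hK hcK _ hs hdb
  let g := ofMatrix (R := R) A G' (hd' ▸ isUnit_one)
  have hg : g ∈ QuadGrp.O (QA Q A) := (mem_O_iff_subst Q A g).2 (by rw [toMatrix_ofMatrix]; exact hs')
  have hgd : LinearMap.det g.toLinearMap = 1 := by
    rw [← LinearMap.det_toMatrix (stdBasis (R := R) A), toMatrix_ofMatrix]; exact hd'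
  obtain ⟨u₀, hu₀e, hu₀, hu₀c⟩ :=
    exists_even_conj (stdBasis (R := R) A) (isSemiregular_QA A Q hQ) hg hgd
  set u₀b := Units.map (Fm Q π).toMonoidHom u₀
  have hu₀be : (↑u₀b⁻¹ : CliffordAlgebra (QA Q B)) ∈ evenOdd (QA Q B) 0 :=
    inv_mem_evenOdd Q (Fm_mem_evenOdd Q π hu₀e)
  have hc := commute_of_conj π Q hπ (g := g) (by rw [toMatrix_ofMatrix]; exact hG') hu₀c hconj
  set z := u₀b⁻¹ * ub with hz
  have hze : (z : CliffordAlgebra (QA Q B)) ∈ evenOdd (QA Q B) i := by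
    rw [hz, Units.val_mul, ← zero_add i]; exact SetLike.mul_mem_graded hu₀be hi
  fin_cases i
  · obtain ⟨t, ht⟩ := exists_scalar Q z (SB.even_center_mem_range hc hze)
      (SB.even_center_mem_range (inv_mem_center Q z hc) (inv_mem_evenOdd Q hze))
    obtain ⟨s, hst⟩ := exists_unit_lift π hπ hker t
    refine ⟨Units.map (algebraMap A _).toMonoidHom s * u₀,
      mem_GPin'_of_conj g fun v => (scalar_conj s u₀ v).trans (hu₀c v), ⟨0, ?_⟩, eq_Fm_scalar_mul π Q hst ht⟩
    rw [Units.val_mul, ← zero_add (0 : ZMod 2)]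
    exact SetLike.mul_mem_graded (SetLike.algebraMap_mem_graded (evenOdd (QA Q A)) _) hu₀e
  · obtain ⟨zA, hzA, hzA1, hzAu, -⟩ :=
      Groth.Agent.S16999.result m (stdBasis (R := R) A) (QA Q A) (isSemiregular_QA A Q hQ)
    obtain ⟨zu, rfl⟩ := hzAu
    set zb := Units.map (Fm Q π).toMonoidHom zu with hzb
    have hzbc : (zb : CliffordAlgebra (QA Q B)) ∈ Subalgebra.center B (CliffordAlgebra (QA Q B)) :=
      Subalgebra.mem_center_iff.2 fun y => by
        obtain ⟨y', rfl⟩ := Fm_surjective Q π hπ y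
        show Fm Q π y' * Fm Q π zu = Fm Q π zu * Fm Q π y'
        rw [← map_mul, ← map_mul, Subalgebra.mem_center_iff.1 hzA y']
    have hw0 : ((z * zb : (CliffordAlgebra (QA Q B))ˣ) : CliffordAlgebra (QA Q B)) ∈ evenOdd (QA Q B) 0 := by
      rw [Units.val_mul, ← CharTwo.add_self_eq_zero (1 : ZMod 2)]
      exact SetLike.mul_mem_graded hze (Fm_mem_evenOdd Q π hzA1)
    have hwc : ((z * zb : (CliffordAlgebra (QA Q B))ˣ) : CliffordAlgebra (QA Q B)) ∈
        Subalgebra.center B (CliffordAlgebra (QA Q B)) := by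
      rw [Units.val_mul]; exact Subalgebra.mul_mem _ hc hzbc
    obtain ⟨t, ht⟩ := exists_scalar Q (z * zb) (SB.even_center_mem_range hwc hw0)
      (SB.even_center_mem_range (inv_mem_center Q _ hwc) (inv_mem_evenOdd Q hw0))
    obtain ⟨s, hst⟩ := exists_unit_lift π hπ hker t
    have hzAi := inv_mem_center Q zu hzA
    have hconj' : ∀ v, ((zu⁻¹ * u₀ : (CliffordAlgebra (QA Q A))ˣ) : CliffordAlgebra (QA Q A)) * ι (QA Q A) v *
        ↑(zu⁻¹ * u₀)⁻¹ = ι (QA Q A) (g v) := fun v => (central_conj Q zu⁻¹ u₀ hzAi v).trans (hu₀c v)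
    refine ⟨Units.map (algebraMap A _).toMonoidHom s * (zu⁻¹ * u₀),
      mem_GPin'_of_conj g fun v => (scalar_conj s _ v).trans (hconj' v), ⟨1, ?_⟩, ?_⟩
    · rw [Units.val_mul, Units.val_mul, ← zero_add (1 : ZMod 2)]
      refine SetLike.mul_mem_graded (SetLike.algebraMap_mem_graded (evenOdd (QA Q A)) _) ?_
      rw [← add_zero (1 : ZMod 2)]
      exact SetLike.mul_mem_graded (inv_mem_evenOdd Q hzA1) hu₀e
    · refine eq_Fm_scalar_mul π Q hst (Eq.trans (congrArg Units.val ?_) ht)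
      rw [map_mul, map_inv, hz, ← hzb, _root_.mul_inv_rev, inv_inv, mul_assoc]
      rw [mul_assoc]
      refine congrArg₂ (· * ·) rfl (Units.ext ?_)
      rw [Units.val_mul, Units.val_mul, Subalgebra.mem_center_iff.1 hzbc]

end Odd

section Vec

variable {V : Type*} [AddCommGroup V] {A : Type*} [CommRing A] [Module A V] (q : QuadraticForm A V)

theorem exists_vec_unit (v : V) (c : Aˣ) (hc : q v = c) :
    ∃ u : (CliffordAlgebra q)ˣ, (u : CliffordAlgebra q) = ι q v ∧ u ∈ QuadGrp.GPin' q := by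
  have hsq : ι q v * ((↑c⁻¹ : A) • ι q v) = 1 := by
    rw [mul_smul_comm, ι_sq_scalar, hc, Algebra.smul_def, ← map_mul, Units.inv_mul, map_one]
  refine ⟨⟨ι q v, (↑c⁻¹ : A) • ι q v, hsq, by rw [smul_mul_assoc, ← mul_smul_comm]; exact hsq⟩, rfl, ?_⟩
  rw [mem_GPin'_iff]
  refine ⟨fun w => ?_, fun w => ?_⟩
  · show ι q v * ι q w * ((↑c⁻¹ : A) • ι q v) ∈ _
    rw [mul_smul_comm, ι_mul_ι_mul_ι, ← map_smul]
    exact ⟨_, rfl⟩
  · show (↑c⁻¹ : A) • ι q v * ι q w * ι q v ∈ _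
    rw [smul_mul_assoc, smul_mul_assoc, ι_mul_ι_mul_ι, ← map_smul]
    exact ⟨_, rfl⟩

end Vec

section Pin

variable {m : ℕ} (Q : QuadraticForm R (Fin (2 * m + 1) → R)) {A B : Type u} [CommRing A] [Algebra R A] [CommRing B]
  [Algebra R B]

/-- The first index of a hyperbolic pair. -/
noncomputable def idxP (hm : 1 ≤ m) : Fin (2 * m + 1) := (oe m).symm (some (.inl ⟨0, hm⟩))

/-- The second index of a hyperbolic pair. -/
noncomputable def idxQ (hm : 1 ≤ m) : Fin (2 * m + 1) := (oe m).symm (some (.inr ⟨0, hm⟩))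

/-- A vector of given value. -/
noncomputable def vec (hm : 1 ≤ m) (K : Matrix (Fin (2 * m + 1)) (Fin (2 * m + 1)) A) (a : A) :
    A ⊗[R] (Fin (2 * m + 1) → R) :=
  (stdBasis A).equivFun.symm (K⁻¹ *ᵥ (Pi.single (idxP hm) 1 + a • Pi.single (idxQ hm) 1))

theorem QA_vec (hm : 1 ≤ m) (K : Matrix (Fin (2 * m + 1)) (Fin (2 * m + 1)) A) (hK : IsUnit K.det)
    (hcK : cA A (stdCoeffs Q) = subst (coefSplit A m) K) (a : A) : QA Q A (vec hm K a) = a := by
  classical
  show QuadGrp.baseChangeForm A Q _ = a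
  have hne : idxP hm ≠ idxQ hm := fun h => by
    have := congrArg (oe m) h
    simp [idxP, idxQ] at this
  rw [baseChangeForm_eq_qf, vec, LinearEquiv.apply_symm_apply, hcK, qf_upper_subst, Matrix.mulVec_mulVec,
    Matrix.mul_nonsing_inv _ hK, Matrix.one_mulVec, qf_add, qf_smul, bl_smul_right, qf_single, qf_single,
    bl_single_single _ hne, coefSplit_mk, coefSplit_mk, coefSplit_mk, if_neg hne]
  simp [idxP, idxQ, flipI]

theorem rTensor_vec (π : A →ₐ[R] B) (hm : 1 ≤ m) (K : Matrix (Fin (2 * m + 1)) (Fin (2 * m + 1)) A) {a b : A}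
    (hab : π a = π b) :
    LinearMap.rTensor (Fin (2 * m + 1) → R) π.toLinearMap (vec hm K a) =
      LinearMap.rTensor (Fin (2 * m + 1) → R) π.toLinearMap (vec hm K b) := by
  classical
  apply (stdBasis (R := R) B).repr.injective
  ext j
  rw [repr_rTensor, repr_rTensor, ← Module.Basis.equivFun_apply, ← Module.Basis.equivFun_apply, vec, vec,
    LinearEquiv.apply_symm_apply, LinearEquiv.apply_symm_apply]
  show π.toRingHom _ = π.toRingHom _
  rw [RingHom.map_mulVec, RingHom.map_mulVec]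
  refine congrFun (congrArg (Matrix.mulVec _) (funext fun k => ?_)) j
  show π _ = π _
  by_cases h : k = idxQ hm <;> simp [Pi.single_apply, h, hab, apply_ite π]

variable [IsLocalRing A] (π : A →ₐ[R] B)

theorem exists_lift_pin_odd (hm : 1 ≤ m) (hQ : IsUnit (hd (stdCoeffs Q)))
    (K : Matrix (Fin (2 * m + 1)) (Fin (2 * m + 1)) A) (hK : IsUnit K.det)
    (hcK : cA A (stdCoeffs Q) = subst (coefSplit A m) K)
    (hπ : Function.Surjective π) (hker : RingHom.ker π.toRingHom ^ 2 = ⊥) [Nontrivial B]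
    {ub : (CliffordAlgebra (QA Q B))ˣ} (hub : ub ∈ QuadGrp.GPin' (QA Q B))
    (hh : QuadGrp.IsLocHomog (QA Q B) (ub : CliffordAlgebra (QA Q B)))
    (hn : star (ub : CliffordAlgebra (QA Q B)) * ub = 1) :
    ∃ u : (CliffordAlgebra (QA Q A))ˣ, u ∈ QuadGrp.GPin' (QA Q A) ∧
      QuadGrp.IsLocHomog (QA Q A) (u : CliffordAlgebra (QA Q A)) ∧
      star (u : CliffordAlgebra (QA Q A)) * u = 1 ∧ (ub : CliffordAlgebra (QA Q B)) = Fm Q π u := by
  classical
  haveI : Module.Free A (A ⊗[R] (Fin (2 * m + 1) → R)) := Module.Free.of_basis (stdBasis (R := R) A)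
  haveI : Module.Finite A (A ⊗[R] (Fin (2 * m + 1) → R)) := Module.Finite.of_basis (stdBasis (R := R) A)
  haveI : Module.Free B (B ⊗[R] (Fin (2 * m + 1) → R)) := Module.Free.of_basis (stdBasis (R := R) B)
  haveI : Module.Finite B (B ⊗[R] (Fin (2 * m + 1) → R)) := Module.Finite.of_basis (stdBasis (R := R) B)
  obtain ⟨u, hu, ⟨i, hi⟩, hFu⟩ := exists_lift_gpin_odd Q π hQ K hK hcK hπ hker hub hh
  obtain ⟨S⟩ := exists_oddSplitting (QA Q A) (stdBasis (R := R) A) (isSemiregular_QA A Q hQ)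
  obtain ⟨g, -, hg⟩ := exists_conj_of_mem hu
  set U := (u : CliffordAlgebra (QA Q A)) with hU
  have hc : star U * U ∈ Subalgebra.center A (CliffordAlgebra (QA Q A)) := by
    refine mem_center_of_commute_ι fun v => ?_
    have h1 : U * ι (QA Q A) v = ι (QA Q A) (g v) * U := by
      rw [← hg v, hU, mul_assoc (_ * _) _ (u : CliffordAlgebra (QA Q A)), Units.inv_mul, mul_one]
    have h2 := congrArg star h1
    rw [star_mul, star_mul, star_ι, star_ι, neg_mul, mul_neg, neg_inj] at h2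
    rw [mul_assoc, h1, ← mul_assoc, ← h2, mul_assoc]
  have hev : star U * U ∈ evenOdd (QA Q A) 0 := by
    rw [← CharTwo.add_self_eq_zero i]
    refine SetLike.mul_mem_graded ?_ hi
    simp only [star_def, reverse_mem_evenOdd_iff, involute_mem_evenOdd_iff]
    exact hi
  obtain ⟨s, hs⟩ := S.even_center_mem_range hc hev
  have hs1 : π s = 1 := by
    apply algebraMap_clifford_injective (QA Q B)
    rw [← Fm_algebraMap Q π, hs, map_mul, Fm_star, hU, ← hFu, hn, map_one]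
  obtain ⟨s, rfl⟩ := isUnit_of_map_sq_zero π hker hπ (hs1 ▸ isUnit_one : IsUnit (π s))
  have hr : π (↑s⁻¹ : A) = π 1 := by
    have := congrArg π (Units.inv_mul s)
    rwa [map_mul, hs1, mul_one] at this
  obtain ⟨a, ha, ha'⟩ := exists_vec_unit (QA Q A) (vec hm K 1) 1 (QA_vec Q hm K hK hcK 1)
  obtain ⟨b, hb, hb'⟩ := exists_vec_unit (QA Q A) (vec hm K ↑s⁻¹) s⁻¹ (QA_vec Q hm K hK hcK _)
  refine ⟨u * (a * b), mul_mem hu (mul_mem ha' hb'), ?_, ?_, ?_⟩
  · refine isLocHomog_of_mem_evenOdd Q (i := i + (1 + 1)) ?_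
    rw [Units.val_mul, Units.val_mul, ha, hb]
    exact SetLike.mul_mem_graded hi (SetLike.mul_mem_graded (ι_mem_evenOdd_one _ _) (ι_mem_evenOdd_one _ _))
  · rw [Units.val_mul, star_mul, mul_assoc, ← mul_assoc (star U), ← hU, ← hs, Algebra.commutes, ← mul_assoc,
      Units.val_mul, ha, hb, star_mul, star_ι, star_ι, neg_mul_neg, mul_assoc (ι (QA Q A) _) _ (_ * _),
      ← mul_assoc (ι (QA Q A) (vec hm K 1)), ι_sq_scalar, QA_vec Q hm K hK hcK, map_one, one_mul, ι_sq_scalar,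
      QA_vec Q hm K hK hcK, ← map_mul, Units.inv_mul, map_one]
  · rw [Units.val_mul, Units.val_mul, map_mul, map_mul, ha, hb, ← hFu, Fm_ι, Fm_ι, rTensor_vec π hm K hr, ← Fm_ι,
      ← map_mul, ι_sq_scalar, QA_vec Q hm K hK hcK, map_one, map_one, mul_one]

end Pin

section Smooth

theorem smooth_gpin_even {m : ℕ} (Q : QuadraticForm R (Fin (2 * m) → R))
    (hQ : IsUnit (polarMatAt (stdCoeffs Q)).det) :
    Algebra.Smooth R (EqRing (eqC Q (noExtra (R := R) (n := 2 * m)))) := by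
  classical
  haveI := finitePresentation_eqRing (eqC Q (noExtra (R := R) (n := 2 * m)))
  refine smooth_of_lift_local fun A B _ _ _ _ _ π hπ hker f => ?_
  set x := eqRingPts _ B f
  obtain ⟨hB, -⟩ := (eqC_zero_iff Q B _ _).1 x.2
  obtain ⟨hmem, -, f0, f1⟩ := unitOf_mem_GPin Q B hB
  rcases subsingleton_or_nontrivial B with hn | hn
  · exact absurd (by
      have hk : (1 : A) ∈ RingHom.ker π.toRingHom := Subsingleton.elim (α := B) _ _
      simpa using ker_mul_eq_zero π.toRingHom hker hk hk) (one_ne_zero (α := A))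
  obtain ⟨u, hu, ⟨e, he, h0, h1⟩, hF⟩ := exists_lift_gpin_even Q π hQ hπ hker hmem
  let g : EqRing (eqC Q (noExtra (R := R) (n := 2 * m))) →ₐ[R] A := (eqRingPts _ A).symm
    ⟨tuple Q A u e, (eqC_zero_iff Q A _ _).2 ⟨isTriple_tuple Q A hu he h0 h1, fun i => i.elim⟩⟩
  refine ⟨g, (eqRingPts _ B).injective (Subtype.ext ?_)⟩
  rw [eqRingPts_comp, Equiv.apply_symm_apply]
  show π ∘ tuple Q A u e = x.1
  rw [← comp_tuple Q π hu he h0 h1 hF f0 f1]
  exact tuple_unique Q B hB f0 f1 rfl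

variable {m : ℕ} (Q : QuadraticForm R (Fin (2 * m + 1) → R))

theorem exists_split_QA (hQ : IsUnit (hd (stdCoeffs Q))) :
    ∃ (T : Type u) (_ : CommRing T) (_ : Algebra R T), Module.FaithfullyFlat R T ∧
      ∀ (A : Type u) [CommRing A] [Algebra R A] [Algebra T A] [IsScalarTower R T A],
        ∃ K : Matrix (Fin (2 * m + 1)) (Fin (2 * m + 1)) A, IsUnit K.det ∧
          cA A (stdCoeffs Q) = subst (coefSplit A m) K := by
  obtain ⟨T, _, _, hff, K, hK, hcK⟩ := exists_split_coeffs (stdCoeffs Q) hQ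
  refine ⟨T, inferInstance, inferInstance, hff, fun A _ _ _ _ => ⟨K.map (algebraMap T A), ?_, ?_⟩⟩
  · rw [← RingHom.mapMatrix_apply, ← RingHom.map_det]; exact hK.map _
  · rw [← map_coefSplit (algebraMap T A), ← map_subst, ← hcK]
    funext s
    exact IsScalarTower.algebraMap_apply R T A (stdCoeffs Q s)

theorem smooth_gpin_odd (hQ : IsUnit (hd (stdCoeffs Q))) :
    Algebra.Smooth R (EqRing (eqC Q (noExtra (R := R) (n := 2 * m + 1)))) := by
  classical
  haveI := finitePresentation_eqRing (eqC Q (noExtra (R := R) (n := 2 * m + 1)))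
  obtain ⟨T, _, _, _, hT⟩ := exists_split_QA Q hQ
  refine smooth_of_lift _ T fun A B _ _ _ _ _ _ _ π hπ hker f => ?_
  obtain ⟨K, hK, hcK⟩ := hT A
  set x := eqRingPts _ B f
  obtain ⟨hB, -⟩ := (eqC_zero_iff Q B _ _).1 x.2
  obtain ⟨hmem, hid, f0, f1⟩ := unitOf_mem_GPin Q B hB
  rcases subsingleton_or_nontrivial B with hn | hn
  · exact absurd (by
      have hk : (1 : A) ∈ RingHom.ker π.toRingHom := Subsingleton.elim (α := B) _ _
      simpa using ker_mul_eq_zero π.toRingHom hker hk hk) (one_ne_zero (α := A))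
  obtain ⟨u, hu, ⟨i, hi⟩, hF⟩ := exists_lift_gpin_odd Q π hQ K hK hcK hπ hker hmem ⟨_, hid, f0, f1⟩
  obtain ⟨e, he, h0, h1⟩ := isLocHomog_of_mem_evenOdd Q hi
  let g : EqRing (eqC Q (noExtra (R := R) (n := 2 * m + 1))) →ₐ[R] A := (eqRingPts _ A).symm
    ⟨tuple Q A u e, (eqC_zero_iff Q A _ _).2 ⟨isTriple_tuple Q A hu he h0 h1, fun i => i.elim⟩⟩
  refine ⟨g, (eqRingPts _ B).injective (Subtype.ext ?_)⟩
  rw [eqRingPts_comp, Equiv.apply_symm_apply]
  show π ∘ tuple Q A u e = x.1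
  rw [← comp_tuple Q π hu he h0 h1 hF f0 f1]
  exact tuple_unique Q B hB f0 f1 rfl

theorem smooth_pin_odd (hm : 1 ≤ m) (hQ : IsUnit (hd (stdCoeffs Q))) :
    Algebra.Smooth R (EqRing (eqC Q (eqN Q))) := by
  classical
  haveI := finitePresentation_eqRing (eqC Q (eqN Q))
  obtain ⟨T, _, _, _, hT⟩ := exists_split_QA Q hQ
  refine smooth_of_lift _ T fun A B _ _ _ _ _ _ _ π hπ hker f => ?_
  obtain ⟨K, hK, hcK⟩ := hT A
  set x := eqRingPts _ B f
  obtain ⟨hB, hN⟩ := (eqC_zero_iff Q B _ _).1 x.2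
  obtain ⟨hmem, hid, f0, f1⟩ := unitOf_mem_GPin Q B hB
  rcases subsingleton_or_nontrivial B with hn | hn
  · exact absurd (by
      have hk : (1 : A) ∈ RingHom.ker π.toRingHom := Subsingleton.elim (α := B) _ _
      simpa using ker_mul_eq_zero π.toRingHom hker hk hk) (one_ne_zero (α := A))
  obtain ⟨u, hu, ⟨e, he, h0, h1⟩, hnu, hF⟩ :=
    exists_lift_pin_odd Q π hm hQ K hK hcK hπ hker hmem ⟨_, hid, f0, f1⟩ ((eqN_zero_iff Q B x.1).1 hN)
  let g : EqRing (eqC Q (eqN Q)) →ₐ[R] A := (eqRingPts _ A).symm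
    ⟨tuple Q A u e, (eqC_zero_iff Q A _ _).2 ⟨isTriple_tuple Q A hu he h0 h1,
      (eqN_zero_iff Q A _).2 (by rw [(tu_tuple Q A u e).1, AlgEquiv.apply_symm_apply]; exact hnu)⟩⟩
  refine ⟨g, (eqRingPts _ B).injective (Subtype.ext ?_)⟩
  rw [eqRingPts_comp, Equiv.apply_symm_apply]
  show π ∘ tuple Q A u e = x.1
  rw [← comp_tuple Q π hu he h0 h1 hF f0 f1]
  exact tuple_unique Q B hB f0 f1 rfl

end Smooth

end QSplit86
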