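import Groth.Prelude.Def_QuadGrp
import Groth.Agent.S16651

/-!
# Units of the Clifford algebra normalising the module
-/

set_option autoImplicit false
universe u v

namespace QSplit86

open CliffordAlgebra TensorProduct
open scoped Pointwise

variable {R : Type u} [CommRing R] {M : Type v} [AddCommGroup M] [Module R M] {Q : QuadraticForm R M}

theorem algebraMap_clifford_injective [Module.Free R M] [Module.Finite R M] (Q : QuadraticForm R M) :
    Function.Injective (algebraMap R (CliffordAlgebra Q)) := by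
  classical
  let b := Module.Free.chooseBasis R M
  haveI : LinearOrder (Module.Free.ChooseBasisIndex R M) :=
    LinearOrder.lift' _ (Fintype.equivFin _).injective
  have h : (-(Q.toBilin b)).toQuadraticMap = (0 : QuadraticForm R M) - Q := by
    rw [LinearMap.BilinMap.toQuadraticMap_neg, zero_sub, QuadraticMap.toQuadraticMap_toBilin]
  intro r s hrs
  have := congrArg (fun x => ExteriorAlgebra.algebraMapInv (CliffordAlgebra.changeForm h x)) hrs
  simp only [changeForm_algebraMap, AlgHom.commutes] at this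
  exact this

theorem ι_clifford_injective [Module.Free R M] [Module.Finite R M] (Q : QuadraticForm R M) :
    Function.Injective (CliffordAlgebra.ι Q) :=
  (Groth.Agent.S16651.ι_split Q).1

theorem mem_GPin'_of_conj {u : (CliffordAlgebra Q)ˣ} (g : M ≃ₗ[R] M)
    (h : ∀ v, (u : CliffordAlgebra Q) * ι Q v * ↑u⁻¹ = ι Q (g v)) : u ∈ QuadGrp.GPin' Q := by
  rw [QuadGrp.mem_GPin']
  ext x
  rw [Submodule.mem_smul_pointwise_iff_exists]
  constructor
  · rintro ⟨s, ⟨v, rfl⟩, rfl⟩
    rw [ConjAct.units_smul_def, ConjAct.ofConjAct_toConjAct, h]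
    exact ⟨_, rfl⟩
  · rintro ⟨w, rfl⟩
    exact ⟨ι Q (g.symm w), ⟨_, rfl⟩, by
      rw [ConjAct.units_smul_def, ConjAct.ofConjAct_toConjAct, h, LinearEquiv.apply_symm_apply]⟩

/-- A unit normalising the module induces an isometry. -/
theorem exists_conj_of_mem [Module.Free R M] [Module.Finite R M] {u : (CliffordAlgebra Q)ˣ}
    (hu : u ∈ QuadGrp.GPin' Q) :
    ∃ g ∈ QuadGrp.O Q, ∀ v, (u : CliffordAlgebra Q) * ι Q v * ↑u⁻¹ = ι Q (g v) := by
  rw [QuadGrp.mem_GPin'] at hu
  have h1 : ∀ v, ∃ w, (u : CliffordAlgebra Q) * ι Q v * ↑u⁻¹ = ι Q w := fun v => by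
    have hm : ConjAct.toConjAct u • ι Q v ∈ ConjAct.toConjAct u • LinearMap.range (ι Q) :=
      Submodule.smul_mem_pointwise_smul _ _ _ ⟨v, rfl⟩
    rw [hu] at hm
    obtain ⟨w, hw⟩ := hm
    exact ⟨w, by rw [hw, ConjAct.units_smul_def, ConjAct.ofConjAct_toConjAct]⟩
  choose f hf using h1
  have hinj := ι_clifford_injective Q
  let g₀ : M →ₗ[R] M :=
    { toFun := f
      map_add' := fun v w => hinj (by rw [map_add, ← hf, ← hf, ← hf, map_add, mul_add, add_mul])
      map_smul' := fun r v => hinj (by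
        rw [RingHom.id_apply, map_smul, ← hf, ← hf, map_smul, mul_smul_comm, smul_mul_assoc]) }
  have hb : Function.Bijective g₀ := by
    constructor
    · intro v w hvw
      apply hinj
      have h := congrArg (ι Q) hvw
      rw [show g₀ v = f v from rfl, show g₀ w = f w from rfl, ← hf, ← hf] at h
      exact u.mul_right_inj.1 ((u⁻¹).mul_left_inj.1 h)
    · intro w
      have hm : ι Q w ∈ ConjAct.toConjAct u • LinearMap.range (ι Q) := by rw [hu]; exact ⟨w, rfl⟩
      obtain ⟨s, ⟨v, rfl⟩, hs⟩ := Submodule.mem_smul_pointwise_iff_exists _ _ _ |>.1 hm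
      rw [ConjAct.units_smul_def, ConjAct.ofConjAct_toConjAct, hf] at hs
      exact ⟨v, hinj hs⟩
  refine ⟨LinearEquiv.ofBijective g₀ hb, fun v => ?_, fun v => hf v⟩
  apply algebraMap_clifford_injective Q
  show algebraMap R _ (Q (f v)) = _
  rw [← ι_sq_scalar, ← hf]
  simp only [mul_assoc, Units.inv_mul_cancel_left]
  rw [← mul_assoc (ι Q v), ι_sq_scalar, ← mul_assoc, ← Algebra.commutes, mul_assoc, Units.mul_inv, mul_one]

/-- The automorphism of the Clifford algebra induced by an isometry. -/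
noncomputable def mapEquiv (g : M ≃ₗ[R] M) (hg : g ∈ QuadGrp.O Q) :
    CliffordAlgebra Q ≃ₐ[R] CliffordAlgebra Q :=
  CliffordAlgebra.equivOfIsometry (⟨g, hg⟩ : Q.IsometryEquiv Q)

theorem mapEquiv_ι (g : M ≃ₗ[R] M) (hg : g ∈ QuadGrp.O Q) (v : M) :
    mapEquiv g hg (ι Q v) = ι Q (g v) :=
  CliffordAlgebra.map_apply_ι _ v

theorem map_eq_mapEquiv (g : M ≃ₗ[R] M) (hg : g ∈ QuadGrp.O Q) (x : CliffordAlgebra Q) :
    CliffordAlgebra.map (QuadGrp.isometryOfMem Q g hg) x = mapEquiv g hg x := rfl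

theorem mapEquiv_eq_conj {g : M ≃ₗ[R] M} (hg : g ∈ QuadGrp.O Q) {u : (CliffordAlgebra Q)ˣ}
    (h : ∀ v, (u : CliffordAlgebra Q) * ι Q v * ↑u⁻¹ = ι Q (g v)) (x : CliffordAlgebra Q) :
    mapEquiv g hg x = u * x * ↑u⁻¹ := by
  induction x using CliffordAlgebra.induction with
  | algebraMap r =>
    rw [AlgEquiv.commutes, ← Algebra.commutes r (u : CliffordAlgebra Q), mul_assoc, Units.mul_inv, mul_one]
  | ι v => rw [mapEquiv_ι, h]
  | mul a b ha hb => rw [map_mul, ha, hb]; simp [mul_assoc]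
  | add a b ha hb => rw [map_add, ha, hb, mul_add, add_mul]

/-- The parts of an intertwiner are intertwiners. -/
theorem intertwine_parts {u0 u1 : CliffordAlgebra Q} (h0 : u0 ∈ evenOdd Q 0) (h1 : u1 ∈ evenOdd Q 1)
    {v w : M} (h : (u0 + u1) * ι Q v = ι Q w * (u0 + u1)) :
    u0 * ι Q v = ι Q w * u0 ∧ u1 * ι Q v = ι Q w * u1 := by
  have a0 : u0 * ι Q v - ι Q w * u0 ∈ evenOdd Q 1 :=
    Submodule.sub_mem _ (zero_add (1 : ZMod 2) ▸ SetLike.mul_mem_graded h0 (ι_mem_evenOdd_one Q v))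
      (add_zero (1 : ZMod 2) ▸ SetLike.mul_mem_graded (ι_mem_evenOdd_one Q w) h0)
  have a1 : u1 * ι Q v - ι Q w * u1 ∈ evenOdd Q 0 := by
    have e1 := SetLike.mul_mem_graded h1 (ι_mem_evenOdd_one Q v)
    have e2 := SetLike.mul_mem_graded (ι_mem_evenOdd_one Q w) h1
    rw [show (1 : ZMod 2) + 1 = 0 from rfl] at e1 e2
    exact Submodule.sub_mem _ e1 e2
  rw [add_mul, mul_add, ← sub_eq_zero, add_sub_add_comm] at h
  have e : u1 * ι Q v - ι Q w * u1 = 0 := Submodule.disjoint_def.1 (evenOdd_isCompl Q).disjoint _ a1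
    (eq_neg_of_add_eq_zero_right h ▸ Submodule.neg_mem _ a0)
  rw [e, add_zero] at h
  exact ⟨sub_eq_zero.1 h, sub_eq_zero.1 e⟩

theorem mem_center_of_commute_ι {x : CliffordAlgebra Q} (h : ∀ v, x * ι Q v = ι Q v * x) :
    x ∈ Subalgebra.center R (CliffordAlgebra Q) := by
  rw [Subalgebra.mem_center_iff]
  intro y
  induction y using CliffordAlgebra.induction with
  | algebraMap r => exact Algebra.commutes r x
  | ι v => exact (h v).symm
  | mul a b ha hb => rw [mul_assoc, hb, ← mul_assoc, ha, mul_assoc]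
  | add a b ha hb => rw [add_mul, mul_add, ha, hb]

theorem exists_algebraMap_of_tmul {B : Type*} [CommRing B] [Algebra R B] [Module.FaithfullyFlat R B]
    {x : CliffordAlgebra Q} {r : B} (h : (1 : B) ⊗ₜ[R] x = r ⊗ₜ[R] (1 : CliffordAlgebra Q)) :
    ∃ c : R, algebraMap R (CliffordAlgebra Q) c = x := by
  let N : Submodule R (CliffordAlgebra Q) := LinearMap.range (Algebra.linearMap R (CliffordAlgebra Q))
  have h' := congrArg (N.mkQ.lTensor B) h
  rw [LinearMap.lTensor_tmul, LinearMap.lTensor_tmul,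
    show N.mkQ 1 = 0 from (Submodule.Quotient.mk_eq_zero N).2 ⟨1, map_one (algebraMap R _)⟩,
    TensorProduct.tmul_zero] at h'
  obtain ⟨c, hc⟩ : x ∈ N := (Submodule.Quotient.mk_eq_zero N).1
    (Module.FaithfullyFlat.tensorProduct_mk_injective (A := R) (B := B) _
      (by simpa using h' : (TensorProduct.mk R B _ 1) (N.mkQ x) = (TensorProduct.mk R B _ 1) 0))
  exact ⟨c, hc⟩

end QSplit86
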