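import Groth.Agent.QSplit86.GrpRep
import Mathlib.RingTheory.Jacobson.Ring
import Mathlib.FieldTheory.IsAlgClosed.AlgebraicClosure
import Mathlib.RingTheory.LocalRing.ResidueField.Fiber
import Mathlib.AlgebraicGeometry.Fiber

/-!
# Connected fibres from rational families of points
-/

set_option autoImplicit false
set_option maxHeartbeats 800000
universe u

open TensorProduct CategoryTheory AlgebraicGeometry

namespace QSplit86

variable {R : Type u} [CommRing R] {A₀ : Type u} [CommRing A₀] [Algebra R A₀]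

/-- A point of an algebra as a point of the base change. -/
noncomputable def ext {K L : Type u} [CommRing K] [CommRing L] [Algebra R K] [Algebra R L] [Algebra K L]
    [IsScalarTower R K L] (x : A₀ →ₐ[R] L) : K ⊗[R] A₀ →ₐ[K] L :=
  Algebra.TensorProduct.lift (Algebra.ofId K L) x fun _ _ => Commute.all _ _

/-- Two points in the same clopen pieces of the base change. -/
def Rel {K : Type u} [Field K] [Algebra R K] (x y : A₀ →ₐ[R] K) : Prop :=
  ∀ a : K ⊗[R] A₀, IsIdempotentElem a → ext x a = ext y a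

theorem rel_refl {K : Type u} [Field K] [Algebra R K] (x : A₀ →ₐ[R] K) : Rel x x := fun _ _ => rfl

theorem rel_of_family {K L : Type u} [Field K] [CommRing L] [IsDomain L] [Algebra R K] [Algebra R L] [Algebra K L]
    [IsScalarTower R K L] (ψ : A₀ →ₐ[R] L) (ev ev' : L →ₐ[K] K) :
    Rel ((ev.restrictScalars R).comp ψ) ((ev'.restrictScalars R).comp ψ) := by
  intro a ha
  have key : ∀ e : L →ₐ[K] K, ext ((e.restrictScalars R).comp ψ) a = e (ext ψ a) := by
    intro e
    have : ext ((e.restrictScalars R).comp ψ) = e.comp (ext ψ) :=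
      Algebra.TensorProduct.ext (by ext) (AlgHom.ext fun z => by simp [ext])
    rw [this]; rfl
  rw [key, key]
  rcases IsIdempotentElem.iff_eq_zero_or_one.1 (ha.map (ext ψ)) with h | h <;> rw [h] <;> simp

theorem idem_trivial {K : Type u} [Field K] [IsAlgClosed K] [Algebra R K] [Algebra.FiniteType R A₀]
    (x₀ : A₀ →ₐ[R] K) (h : ∀ x : A₀ →ₐ[R] K, Rel x₀ x) (a : K ⊗[R] A₀) (ha : IsIdempotentElem a) :
    a = 0 ∨ a = 1 := by
  have key : ∀ a : K ⊗[R] A₀, IsIdempotentElem a → ext x₀ a = 0 → a = 0 := by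
    intro a ha h0
    have hu : IsUnit (1 - a) := by
      by_contra hn
      obtain ⟨m, hm, hle⟩ := Ideal.exists_le_maximal _
        (show Ideal.span {1 - a} ≠ ⊤ from fun e => hn (Ideal.span_singleton_eq_top.1 e))
      letI : Field ((K ⊗[R] A₀) ⧸ m) := Ideal.Quotient.field m
      haveI : Algebra.FiniteType K ((K ⊗[R] A₀) ⧸ m) :=
        Algebra.FiniteType.of_surjective (Ideal.Quotient.mkₐ K m) (Ideal.Quotient.mkₐ_surjective K m)
      haveI : Module.Finite K ((K ⊗[R] A₀) ⧸ m) := finite_of_finite_type_of_isJacobsonRing K _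
      let e : K ≃ₐ[K] (K ⊗[R] A₀) ⧸ m := AlgEquiv.ofBijective (Algebra.ofId K _)
        (IsAlgClosed.algebraMap_bijective_of_isIntegral (k := K) (K := (K ⊗[R] A₀) ⧸ m))
      let y : K ⊗[R] A₀ →ₐ[K] K := e.symm.toAlgHom.comp (Ideal.Quotient.mkₐ K m)
      have hy : ext ((y.restrictScalars R).comp Algebra.TensorProduct.includeRight) = y :=
        Algebra.TensorProduct.ext (by ext) (AlgHom.ext fun z => by simp [ext])
      have h1 : y (1 - a) = 0 := by
        show e.symm (Ideal.Quotient.mk m (1 - a)) = 0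
        rw [Ideal.Quotient.eq_zero_iff_mem.2 (hle (Ideal.mem_span_singleton_self _)), map_zero]
      rw [map_sub, map_one, ← hy, ← h _ a ha, h0, sub_zero] at h1
      exact one_ne_zero h1
    exact hu.mul_left_eq_zero.1 (by rw [mul_sub, mul_one, ha.eq, sub_self])
  rcases IsIdempotentElem.iff_eq_zero_or_one.1 (ha.map (ext x₀)) with h0 | h1
  · exact Or.inl (key a ha h0)
  · exact Or.inr (sub_eq_zero.1 (key (1 - a) ha.one_sub (by rw [map_sub, map_one, h1, sub_self]))).symm

set_option synthInstance.maxHeartbeats 100000 in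
theorem connectedSpace_fiber [Algebra.FiniteType R A₀] (G : Over (Spec (CommRingCat.of R)))
    (i : QuadGrp.specOver R A₀ ≅ G) (s : ↥(Spec (CommRingCat.of R)))
    (h : ∀ (K : Type u) [Field K] [IsAlgClosed K] [Algebra R K],
      ∃ x₀ : A₀ →ₐ[R] K, ∀ x : A₀ →ₐ[R] K, Rel x₀ x) :
    ConnectedSpace ↥(G.hom.fiber s) := by
  obtain ⟨a, b, hab, -, hia, -⟩ := hom_left_comp G A₀ i
  let p : PrimeSpectrum R := s
  let k := p.asIdeal.ResidueField
  let K := AlgebraicClosure k
  obtain ⟨x₀, hx₀⟩ := h K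
  let f : k ⊗[R] A₀ →ₐ[R] K ⊗[R] A₀ := Algebra.TensorProduct.map (IsScalarTower.toAlgHom R k K) (AlgHom.id R A₀)
  have hinj : Function.Injective f := by
    let e := TensorProduct.AlgebraTensorModule.cancelBaseChange R k K K A₀
    have : Function.Injective (fun z => e ((TensorProduct.mk k K (k ⊗[R] A₀) 1) z)) :=
      e.injective.comp (Module.FaithfullyFlat.tensorProduct_mk_injective (A := k) (B := K) (k ⊗[R] A₀))
    convert this using 1
    funext z
    induction z with
    | zero => simp
    | tmul c z => simp [e, f, Algebra.smul_def]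
    | add a b ha hb => simp only [map_add] at ha hb ⊢; rw [ha, hb]
  have hidem : ∀ z : k ⊗[R] A₀, IsIdempotentElem z → z = 0 ∨ z = 1 := fun z hz =>
    (idem_trivial x₀ hx₀ (f z) (hz.map f)).imp (fun h => hinj (h.trans (map_zero f).symm))
      (fun h => hinj (h.trans (map_one f).symm))
  haveI : Nontrivial (k ⊗[R] A₀) := ((ext x₀).restrictScalars R |>.comp f).toRingHom.domain_nontrivial
  haveI : ConnectedSpace (PrimeSpectrum (k ⊗[R] A₀)) := by
    haveI : PreconnectedSpace (PrimeSpectrum (k ⊗[R] A₀)) := preconnectedSpace_iff_clopen.2 fun U hU => by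
      obtain ⟨e, he, rfl⟩ := PrimeSpectrum.isClopen_iff.1 hU
      rcases hidem e he with rfl | rfl
      · exact Or.inl (by simp)
      · exact Or.inr (by simp)
    exact ⟨inferInstance⟩
  have e1 := ((G.hom.fiberι s).isEmbedding.toHomeomorph).trans
    (Homeomorph.setCongr (G.hom.range_fiberι s))
  have e2 := PrimeSpectrum.preimageHomeomorphFiber R A₀ p
  let ha : ↥(Spec (CommRingCat.of A₀)) ≃ₜ ↥G.left := Scheme.homeoOfIso (asIso a)
  let e3 : PrimeSpectrum.comap (algebraMap R A₀) ⁻¹' {p} ≃ₜ ⇑G.hom ⁻¹' {s} := ha.subtype fun x => by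
    show (Spec.map (CommRingCat.ofHom (algebraMap R A₀))) x ∈ ({s} : Set _) ↔ G.hom (a x) ∈ ({s} : Set _)
    rw [← hab]; rfl
  exact (e1.trans (e3.symm.trans e2)).symm.surjective.connectedSpace (e1.trans (e3.symm.trans e2)).symm.continuous

end QSplit86
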