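import Mathlib

/-!
# Algebra automorphisms of matrices preserve the trace
-/

set_option autoImplicit false

namespace QSplit86

open Matrix

variable {n : Type*} [Fintype n] [DecidableEq n] {B : Type*} [CommRing B]

theorem trace_algEquiv (G : Matrix n n B ≃ₐ[B] Matrix n n B) (X : Matrix n n B) :
    trace (G X) = trace X := by
  rcases isEmpty_or_nonempty n with hn | hn
  · rw [Subsingleton.elim (G X) X]
  obtain ⟨o⟩ := hn
  set p := G (single o o 1) with hp
  set c := trace p with hc
  have hunit : ∀ i j, trace (G (single i j 1)) = if i = j then c else 0 := fun i j => by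
    have h : single i j (1 : B) = single i o 1 * single o j 1 := by simp
    rw [h, map_mul, trace_mul_comm, ← map_mul]
    split_ifs with hij
    · subst hij; rw [single_mul_single_same, mul_one]
    · rw [show single o j (1 : B) * single i o 1 = 0 by
        ext a b
        rw [Matrix.mul_apply, Matrix.zero_apply]
        refine Finset.sum_eq_zero fun x _ => ?_
        simp only [single_apply]
        split_ifs <;> simp_all, map_zero, trace_zero]
  have hf : ∀ Y, trace (G Y) = c * trace Y := fun Y => by
    have e : Y = ∑ i, ∑ j, Y i j • single i j (1 : B) := by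
      conv_lhs => rw [matrix_eq_sum_single Y]
      simp [smul_single]
    calc trace (G Y) = ∑ i, ∑ j, Y i j * trace (G (single i j 1)) := by
          conv_lhs => rw [e]
          simp only [map_sum, map_smul, trace_sum, trace_smul, smul_eq_mul]
      _ = c * trace Y := by
          simp only [hunit, mul_ite, mul_zero, Finset.sum_ite_eq, Finset.mem_univ, if_true]
          rw [show trace Y = ∑ i, Y i i from rfl, Finset.mul_sum]
          exact Finset.sum_congr rfl fun i _ => mul_comm _ _
  have hcu : IsUnit c := by
    refine IsUnit.of_mul_eq_one (trace (G.symm (single o o 1))) ?_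
    rw [← hf, AlgEquiv.apply_symm_apply, trace_single_eq_same]
  have hpp : p * p = p := by rw [hp, ← map_mul, single_mul_single_same, mul_one]
  have hpYp : ∀ Y, p * Y * p = (G.symm Y o o) • p := fun Y => by
    rw [hp, ← map_smul, ← AlgEquiv.apply_symm_apply G Y, ← map_mul, ← map_mul, AlgEquiv.symm_apply_apply]
    congr 1
    simp [smul_single]
  have hY : ∀ Y, trace (Y * p) = G.symm Y o o * c := fun Y => by
    have h := congrArg trace (hpYp Y)
    rw [trace_smul, smul_eq_mul, mul_assoc, trace_mul_comm p, mul_assoc, hpp] at h
    exact h
  have key : ∀ i j k l, c * (p i k * p l j) = p l k * p i j := fun i j k l => by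
    have h1 : p i k * p l j = G.symm (single k l 1) o o * p i j := by
      have := congrFun (congrFun (hpYp (single k l 1)) i) j
      simpa [Matrix.mul_apply, single_apply, ite_and] using this
    have h2 : p l k = G.symm (single k l 1) o o * c := by
      rw [← hY]; simp [trace, Matrix.mul_apply, single_apply, ite_and]
    rw [h1, h2]; ring
  let J : Ideal B := LinearMap.ker (LinearMap.mulLeft B (c - 1))
  have hJ : J = ⊤ := by
    rw [← Ideal.radical_eq_top, Ideal.eq_top_iff_one]
    have hmem : c ∈ J.radical := by
      show ∑ i, p i i ∈ J.radical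
      exact Ideal.sum_mem _ fun i _ => ⟨2, by
        show (c - 1) * p i i ^ 2 = 0
        linear_combination key i i i i⟩
    obtain ⟨w, hw⟩ := hcu
    simpa [← hw] using J.radical.mul_mem_left (↑w⁻¹ : B) hmem
  have h1 : (1 : B) ∈ J := hJ ▸ Submodule.mem_top
  have : c = 1 := by simpa [J, sub_eq_zero] using h1
  rw [hf, this, one_mul]

end QSplit86
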