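import Groth.Agent.QSplit86.Structure
import Groth.Agent.QSplit86.CliffordUnits
import Groth.Agent.QSplit86.TraceAut
import Groth.Agent.S5705
import Groth.Agent.Azu.Basic

/-!
# The Dickson invariant of an isometry in even rank and the determinant
-/

set_option autoImplicit false
set_option maxHeartbeats 1600000
set_option synthInstance.maxHeartbeats 200000
universe u v

open scoped TensorProduct
open CliffordAlgebra

namespace QSplit86

variable {R : Type u} [CommRing R] {M : Type v} [AddCommGroup M] [Module R M] {Q : QuadraticForm R M}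

section Words

/-- The product of a list of vectors. -/
noncomputable def word (Q : QuadraticForm R M) (l : List M) : CliffordAlgebra Q := (l.map (ι Q)).prod

@[simp] theorem word_nil : word Q [] = 1 := rfl

@[simp] theorem word_cons (x : M) (l : List M) : word Q (x :: l) = ι Q x * word Q l := by simp [word]

theorem word_mem_evenOdd (l : List M) : word Q l ∈ evenOdd Q (l.length : ZMod 2) := by
  induction l with
  | nil => simpa using SetLike.one_mem_graded (evenOdd Q)
  | cons x t ih =>
    rw [word_cons, List.length_cons, Nat.cast_succ, add_comm]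
    exact SetLike.mul_mem_graded (ι_mem_evenOdd_one Q x) ih

theorem anti_word (c : M) (l : List M) (h : ∀ x ∈ l, QuadraticMap.polar Q c x = 0) :
    ι Q c * word Q l = (-1 : R) ^ l.length • (word Q l * ι Q c) := by
  induction l with
  | nil => simp
  | cons x t ih =>
    have hx : ι Q c * ι Q x = -(ι Q x * ι Q c) := by
      rw [eq_neg_iff_add_eq_zero, ι_mul_ι_add_swap, h x List.mem_cons_self, map_zero]
    rw [word_cons, ← mul_assoc, hx, neg_mul, mul_assoc, ih fun y hy => h y (List.mem_cons_of_mem _ hy),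
      List.length_cons, pow_succ', mul_smul_comm, mul_smul, neg_one_smul, mul_assoc]

/-- The span of the products of fewer than `k` vectors. -/
noncomputable def short (Q : QuadraticForm R M) (k : ℕ) : Submodule R (CliffordAlgebra Q) :=
  Submodule.span R {x | ∃ l : List M, l.length < k ∧ x = word Q l}

theorem ι_mul_short {k : ℕ} (y : M) {x : CliffordAlgebra Q} (hx : x ∈ short Q k) :
    ι Q y * x ∈ short Q (k + 1) := by
  refine Submodule.span_induction ?_ ?_ ?_ ?_ hx
  · rintro _ ⟨l, hl, rfl⟩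
    exact Submodule.subset_span ⟨y :: l, by simp; omega, (word_cons y l).symm⟩
  · rw [mul_zero]; exact Submodule.zero_mem _
  · intro a b _ _ ha hb; rw [mul_add]; exact Submodule.add_mem _ ha hb
  · intro r a _ ha; rw [mul_smul_comm]; exact Submodule.smul_mem _ r ha

theorem ι_mul_word_mem_short {x : M} {l : List M} (h : x ∈ l) :
    ι Q x * word Q l ∈ short Q (l.length + 1) := by
  induction l with
  | nil => simp at h
  | cons y t ih =>
    have ht : word Q t ∈ short Q (t.length + 1 + 1) := Submodule.subset_span ⟨t, by omega, rfl⟩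
    rw [word_cons, ← mul_assoc, List.length_cons]
    rcases List.mem_cons.1 h with rfl | h'
    · rw [ι_sq_scalar, ← Algebra.smul_def]
      exact Submodule.smul_mem _ _ ht
    · rw [ι_mul_ι_comm, sub_mul, ← Algebra.smul_def, mul_assoc]
      exact Submodule.sub_mem _ (Submodule.smul_mem _ _ ht) (ι_mul_short y (ih h'))

theorem word_mem_short_of_not_nodup {l : List M} (h : ¬ l.Nodup) : word Q l ∈ short Q l.length := by
  induction l with
  | nil => simp at h
  | cons x t ih =>
    rw [word_cons, List.length_cons]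
    by_cases hx : x ∈ t
    · exact ι_mul_word_mem_short hx
    · exact ι_mul_short x (ih fun hn => h (List.nodup_cons.2 ⟨hx, hn⟩))

variable {n : Type*} [Fintype n] [DecidableEq n] (b : Module.Basis n R M)

theorem word_mem_span_index (l : List M) :
    word Q l ∈ Submodule.span R {x | ∃ l' : List n, l'.length = l.length ∧ x = word Q (l'.map b)} := by
  induction l with
  | nil => exact Submodule.subset_span ⟨[], rfl, rfl⟩
  | cons x t ih =>
    rw [word_cons, ← b.sum_repr x, map_sum, Finset.sum_mul]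
    refine Submodule.sum_mem _ fun i _ => ?_
    rw [map_smul, smul_mul_assoc]
    refine Submodule.smul_mem _ _ ?_
    refine Submodule.span_induction ?_ ?_ ?_ ?_ ih
    · rintro _ ⟨l', hl', rfl⟩
      exact Submodule.subset_span ⟨i :: l', by simp [hl'], by simp⟩
    · rw [mul_zero]; exact Submodule.zero_mem _
    · intro a c _ _ ha hc; rw [mul_add]; exact Submodule.add_mem _ ha hc
    · intro r a _ ha; rw [mul_smul_comm]; exact Submodule.smul_mem _ r ha

/-- The span of the products of distinct basis vectors from a given list. -/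
noncomputable def nodupSpan (l : List n) : Submodule R (CliffordAlgebra Q) :=
  Submodule.span R {x | ∃ l' : List n, l'.Nodup ∧ l' ⊆ l ∧ x = word Q (l'.map b)}

theorem ι_mul_word_mem_nodupSpan (i : n) (l : List n) (hl : l.Nodup) :
    ι Q (b i) * word Q (l.map b) ∈ nodupSpan (Q := Q) b (i :: l) := by
  induction l with
  | nil => exact Submodule.subset_span ⟨[i], by simp, by simp, by simp⟩
  | cons j t ih =>
    obtain ⟨hj, ht⟩ := List.nodup_cons.1 hl
    have hmem : word Q (t.map b) ∈ nodupSpan (Q := Q) b (i :: j :: t) :=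
      Submodule.subset_span ⟨t, ht, fun y hy => List.mem_cons_of_mem _ (List.mem_cons_of_mem _ hy), rfl⟩
    rw [List.map_cons, word_cons, ← mul_assoc]
    rcases eq_or_ne i j with rfl | hij
    · rw [ι_sq_scalar, ← Algebra.smul_def]
      exact Submodule.smul_mem _ _ hmem
    · rw [ι_mul_ι_comm, sub_mul, ← Algebra.smul_def, mul_assoc]
      refine Submodule.sub_mem _ (Submodule.smul_mem _ _ hmem) ?_
      refine Submodule.span_induction ?_ ?_ ?_ ?_ (ih ht)
      · rintro _ ⟨l', hn, hsub, rfl⟩
        refine Submodule.subset_span ⟨j :: l', List.nodup_cons.2 ⟨fun hjl => ?_, hn⟩, ?_, by simp⟩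
        · rcases List.mem_cons.1 (hsub hjl) with h | h
          · exact hij h.symm
          · exact hj h
        · intro y hy
          rcases List.mem_cons.1 hy with rfl | hy
          · exact List.mem_cons_of_mem _ List.mem_cons_self
          · rcases List.mem_cons.1 (hsub hy) with rfl | h
            · exact List.mem_cons_self
            · exact List.mem_cons_of_mem _ (List.mem_cons_of_mem _ h)
      · rw [mul_zero]; exact Submodule.zero_mem _
      · intro a c _ _ ha hc; rw [mul_add]; exact Submodule.add_mem _ ha hc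
      · intro r a _ ha; rw [mul_smul_comm]; exact Submodule.smul_mem _ r ha

theorem span_nodup_eq_top :
    Submodule.span R {x : CliffordAlgebra Q | ∃ l : List n, l.Nodup ∧ x = word Q (l.map b)} = ⊤ := by
  rw [eq_top_iff]
  rintro x -
  induction x using CliffordAlgebra.left_induction with
  | algebraMap r =>
    rw [Algebra.algebraMap_eq_smul_one]
    exact Submodule.smul_mem _ _ (Submodule.subset_span ⟨[], List.nodup_nil, rfl⟩)
  | add a c ha hc => exact Submodule.add_mem _ ha hc
  | ι_mul a v ha =>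
    refine Submodule.span_induction ?_ ?_ ?_ ?_ ha
    · rintro _ ⟨l, hl, rfl⟩
      rw [← b.sum_repr v, map_sum, Finset.sum_mul]
      refine Submodule.sum_mem _ fun i _ => ?_
      rw [map_smul, smul_mul_assoc]
      refine Submodule.smul_mem _ _ ?_
      refine (Submodule.span_mono ?_ : nodupSpan (Q := Q) b (i :: l) ≤ _) (ι_mul_word_mem_nodupSpan b i l hl)
      rintro _ ⟨l', hn, -, rfl⟩
      exact ⟨l', hn, rfl⟩
    · rw [mul_zero]; exact Submodule.zero_mem _
    · intro a c _ _ ha hc; rw [mul_add]; exact Submodule.add_mem _ ha hc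
    · intro r a _ ha; rw [mul_smul_comm]; exact Submodule.smul_mem _ r ha

end Words

theorem mapEquiv_mem_evenOdd {g : M ≃ₗ[R] M} (hg : g ∈ QuadGrp.O Q) {i : ZMod 2} {x : CliffordAlgebra Q}
    (hx : x ∈ evenOdd Q i) : mapEquiv g hg x ∈ evenOdd Q i := by
  have h0 : ∀ v w : M, ∀ j, ∀ y ∈ evenOdd Q j,
      ι Q (g v) * ι Q (g w) * y ∈ evenOdd Q j := fun v w j y hy => by
    simpa using SetLike.mul_mem_graded (ι_mul_ι_mem_evenOdd_zero Q (g v) (g w)) hy
  fin_cases i
  · induction x, hx using CliffordAlgebra.even_induction with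
    | algebraMap r => rw [AlgEquiv.commutes]; exact SetLike.algebraMap_mem_graded (evenOdd Q) r
    | add x y hx hy ihx ihy => rw [map_add]; exact Submodule.add_mem _ ihx ihy
    | ι_mul_ι_mul v w x hx ih => rw [map_mul, map_mul, mapEquiv_ι, mapEquiv_ι]; exact h0 v w _ _ ih
  · induction x, hx using CliffordAlgebra.odd_induction with
    | ι v => rw [mapEquiv_ι]; exact ι_mem_evenOdd_one Q _
    | add x y hx hy ihx ihy => rw [map_add]; exact Submodule.add_mem _ ihx ihy
    | ι_mul_ι_mul v w x hx ih => rw [map_mul, map_mul, mapEquiv_ι, mapEquiv_ι]; exact h0 v w _ _ ih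

namespace Splitting

variable {m : ℕ} (S : Splitting Q m)

/-- The image of the Clifford algebra in matrices. -/
noncomputable def H : CliffordAlgebra Q →ₐ[R] Matrix (Fin m → Bool) (Fin m → Bool) S.B :=
  (S.T.toAlgHom.restrictScalars R).comp Algebra.TensorProduct.includeRight

theorem H_apply (x : CliffordAlgebra Q) : S.H x = S.T (1 ⊗ₜ x) := rfl

theorem H_flip (v : M) : Flip par (S.H (ι Q v)) := S.flip v

theorem H_injective : Function.Injective S.H := fun x y h => by
  haveI := S.ffl
  exact Module.FaithfullyFlat.tensorProduct_mk_injective (A := R) (B := S.B) _ (S.T.injective h)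

theorem T_tmul (r : S.B) (x : CliffordAlgebra Q) : S.T (r ⊗ₜ x) = r • S.H x := by
  rw [H_apply, ← map_smul, TensorProduct.smul_tmul', smul_eq_mul, mul_one]

theorem span_range_H : Submodule.span S.B (Set.range S.H) = ⊤ := by
  rw [eq_top_iff]
  rintro Y -
  obtain ⟨y, rfl⟩ := S.T.surjective Y
  induction y with
  | zero => rw [map_zero]; exact Submodule.zero_mem _
  | tmul r x => rw [T_tmul]; exact Submodule.smul_mem _ _ (Submodule.subset_span ⟨x, rfl⟩)
  | add a c ha hc => rw [map_add]; exact Submodule.add_mem _ ha hc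

theorem algebraMap_B_injective : Function.Injective (algebraMap R S.B) := by
  haveI := S.ffl
  exact FaithfulSMul.algebraMap_injective R S.B

/-- Scalars on the two blocks. -/
def dg (S : Splitting Q m) (a b : S.B) : Matrix (Fin m → Bool) (Fin m → Bool) S.B :=
  Matrix.diagonal fun s => if par s then b else a

theorem dg_mul (a b a' b' : S.B) : S.dg a b * S.dg a' b' = S.dg (a * a') (b * b') := by
  rw [dg, dg, dg, Matrix.diagonal_mul_diagonal]; congr 1; funext s; split_ifs <;> rfl

theorem dg_add (a b a' b' : S.B) : S.dg a b + S.dg a' b' = S.dg (a + a') (b + b') := by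
  rw [dg, dg, dg, Matrix.diagonal_add]; congr 1; funext s; split_ifs <;> rfl

theorem dg_sub (a b a' b' : S.B) : S.dg a b - S.dg a' b' = S.dg (a - a') (b - b') := by
  rw [dg, dg, dg, Matrix.diagonal_sub]; congr 1; funext s; split_ifs <;> rfl

theorem dg_smul (r a b : S.B) : r • S.dg a b = S.dg (r * a) (r * b) := by
  rw [dg, dg, ← Matrix.diagonal_smul]; congr 1; funext s; simp only [Pi.smul_apply, smul_eq_mul]; split_ifs <;> rfl

theorem dg_one : S.dg 1 1 = 1 := by simp [dg]

theorem dg_injective (hm : 1 ≤ m) {a b a' b' : S.B} (h : S.dg a b = S.dg a' b') : a = a' ∧ b = b' := by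
  obtain ⟨s, hs⟩ := nonempty_P hm false
  obtain ⟨t, ht⟩ := nonempty_P hm true
  exact ⟨by simpa [dg, hs] using congrFun (congrFun h s) s, by simpa [dg, ht] using congrFun (congrFun h t) t⟩

theorem dg_mul_flip {a b : S.B} {Y : Matrix (Fin m → Bool) (Fin m → Bool) S.B} (hY : Flip par Y) :
    S.dg a b * Y = Y * S.dg b a := by
  ext s t
  rw [dg, dg, Matrix.diagonal_mul, Matrix.mul_diagonal]
  cases hs : par s <;> cases ht : par t <;> simp [mul_comm]
  all_goals rw [hY s t (hs.trans ht.symm)]; simp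

theorem dg_mul_pres {a b : S.B} {Y : Matrix (Fin m → Bool) (Fin m → Bool) S.B} (hY : Pres par Y) :
    S.dg a b * Y = Y * S.dg a b := by
  ext s t
  rw [dg, Matrix.diagonal_mul, Matrix.mul_diagonal]
  cases hs : par s <;> cases ht : par t <;> simp [mul_comm]
  all_goals rw [hY s t (by simp [hs, ht])]; simp

/-- The images of the centre of the even part. -/
noncomputable def Zm : S.B ⊗[R] Subalgebra.center R (CliffordAlgebra.even Q) →ₗ[S.B]
    Matrix (Fin m → Bool) (Fin m → Bool) S.B :=
  S.T.toLinearMap.comp (S.incl.toLinearMap.comp (Algebra.TensorProduct.map (AlgHom.id S.B S.B)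
    (Subalgebra.center R (CliffordAlgebra.even Q)).val).toLinearMap)

theorem Zm_tmul (r : S.B) (z : Subalgebra.center R (CliffordAlgebra.even Q)) :
    S.Zm (r ⊗ₜ z) = r • S.H ((z : CliffordAlgebra.even Q) : CliffordAlgebra Q) := by
  rw [← T_tmul]; rfl

theorem Zm_eq (hm : 1 ≤ m) (w : S.B ⊗[R] Subalgebra.center R (CliffordAlgebra.even Q)) :
    S.Zm w = S.dg (S.cen hm w).1 (S.cen hm w).2 := by
  classical
  set y := Algebra.TensorProduct.map (AlgHom.id S.B S.B)
    (Subalgebra.center R (CliffordAlgebra.even Q)).val w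
  have h := S.sc_cen hm w
  show S.T (S.incl y) = _
  ext s t
  by_cases hst : par s = par t
  · cases hs : par s
    · have := congrFun (congrFun (congrArg Prod.fst h) ⟨s, hs⟩) ⟨t, hst ▸ hs⟩
      refine Eq.trans this.symm ?_
      by_cases he : s = t
      · subst he; simp [sc, dg, hs]
      · simp [sc, dg, he]
    · have := congrFun (congrFun (congrArg Prod.snd h) ⟨s, hs⟩) ⟨t, hst ▸ hs⟩
      refine Eq.trans this.symm ?_
      by_cases he : s = t
      · subst he; simp [sc, dg, hs]
      · simp [sc, dg, he]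
  · rw [S.pres_incl y s t hst, dg, Matrix.diagonal_apply_ne _ fun h' => hst (congrArg par h')]

/-- The induced automorphism of the matrix algebra. -/
noncomputable def gAut (G : CliffordAlgebra Q ≃ₐ[R] CliffordAlgebra Q) :
    Matrix (Fin m → Bool) (Fin m → Bool) S.B ≃ₐ[S.B] Matrix (Fin m → Bool) (Fin m → Bool) S.B :=
  S.T.symm.trans ((Algebra.TensorProduct.congr AlgEquiv.refl G).trans S.T)

theorem gAut_H (G : CliffordAlgebra Q ≃ₐ[R] CliffordAlgebra Q) (x : CliffordAlgebra Q) :
    S.gAut G (S.H x) = S.H (G x) := by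
  simp [gAut, H_apply]

theorem mul_gAut_eq {G : CliffordAlgebra Q ≃ₐ[R] CliffordAlgebra Q} {u : CliffordAlgebra Q}
    (hu : ∀ x, u * x = G x * u) (Y : Matrix (Fin m → Bool) (Fin m → Bool) S.B) :
    S.H u * Y = S.gAut G Y * S.H u := by
  have hY : Y ∈ Submodule.span S.B (Set.range S.H) := S.span_range_H ▸ Submodule.mem_top
  refine Submodule.span_induction ?_ ?_ ?_ ?_ hY
  · rintro _ ⟨x, rfl⟩; rw [gAut_H, ← map_mul, ← map_mul, hu]
  · simp
  · intro a c _ _ ha hc; rw [map_add, mul_add, add_mul, ha, hc]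
  · intro r a _ ha; rw [map_smul, mul_smul_comm, smul_mul_assoc, ha]

theorem exists_gAut_P0 (hm : 1 ≤ m) {g : M ≃ₗ[R] M} (hg : g ∈ QuadGrp.O Q)
    (hc : ∃ c v, QuadraticMap.polar Q c v = 1) :
    ∃ a : S.B, a * a = a ∧ S.gAut (mapEquiv g hg) (S.dg 1 0) = S.dg a (1 - a) ∧
      ∀ w, S.gAut (mapEquiv g hg) (S.dg 1 0) = S.dg 1 0 → S.gAut (mapEquiv g hg) (S.Zm w) = S.Zm w := by
  classical
  set G := mapEquiv g hg with hG
  have hsymm : ∀ x ∈ evenOdd Q 0, G.symm x ∈ evenOdd Q 0 := fun x hx => by
    have hinv : g⁻¹ ∈ QuadGrp.O Q := (QuadGrp.O Q).inv_mem hg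
    have : ∀ y, G (mapEquiv g⁻¹ hinv y) = y := fun y => by
      induction y using CliffordAlgebra.induction with
      | algebraMap r => simp
      | ι v => rw [hG, mapEquiv_ι, mapEquiv_ι]; exact congrArg _ (LinearEquiv.apply_symm_apply g v)
      | mul a b ha hb => rw [map_mul, map_mul, ha, hb]
      | add a b ha hb => rw [map_add, map_add, ha, hb]
    rw [G.symm_apply_eq.2 (this x).symm]
    exact mapEquiv_mem_evenOdd hinv hx
  have hrange : ∀ w, ∃ w', S.gAut G (S.Zm w) = S.Zm w' := by
    intro w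
    induction w with
    | zero => exact ⟨0, by simp⟩
    | tmul r z =>
      refine ⟨r ⊗ₜ ⟨⟨G z.1.1, mapEquiv_mem_evenOdd hg z.1.2⟩, ?_⟩, ?_⟩
      · rw [Subalgebra.mem_center_iff]
        rintro ⟨y, hy⟩
        have := congrArg (fun t : CliffordAlgebra.even Q => G t.1)
          (Subalgebra.mem_center_iff.1 z.2 ⟨G.symm y, hsymm y hy⟩)
        refine Subtype.ext ?_
        show y * G z.1.1 = G z.1.1 * y
        simpa using this
      · rw [Zm_tmul, Zm_tmul, map_smul, gAut_H]
    | add a b ha hb =>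
      obtain ⟨a', ha⟩ := ha
      obtain ⟨b', hb⟩ := hb
      exact ⟨a' + b', by simp [map_add, ha, hb]⟩
  obtain ⟨w', hw'⟩ := hrange ((S.cen hm).symm (1, 0))
  rw [S.Zm_eq hm, S.Zm_eq hm, AlgEquiv.apply_symm_apply] at hw'
  set a := (S.cen hm w').1
  set b := (S.cen hm w').2
  change S.gAut G (S.dg 1 0) = S.dg a b at hw'
  have h01 : S.gAut G (S.dg 0 1) = S.dg (1 - a) (1 - b) := by
    rw [← dg_sub, dg_one, ← hw', ← map_one (S.gAut G), ← map_sub, ← dg_one, dg_sub]
    simp
  have hflip : ∀ v, S.dg a b * S.H (ι Q v) = S.dg (1 - b) (1 - a) * S.H (ι Q v) := fun v => by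
    rw [S.dg_mul_flip (a := 1 - b) (b := 1 - a) (S.H_flip v), ← hw', ← h01]
    have := congrArg (S.gAut G) (S.dg_mul_flip (a := 1) (b := 0) (S.H_flip (g.symm v)))
    rwa [map_mul, map_mul, gAut_H, hG, mapEquiv_ι, LinearEquiv.apply_symm_apply] at this
  obtain ⟨c, v, hcv⟩ := hc
  have h1 : S.H (ι Q c) * S.H (ι Q v) + S.H (ι Q v) * S.H (ι Q c) = 1 := by
    rw [← map_mul S.H, ← map_mul S.H, ← map_add, ι_mul_ι_add_swap, hcv, map_one, map_one]
  have hab : S.dg a b = S.dg (1 - b) (1 - a) := by
    rw [← mul_one (S.dg a b), ← mul_one (S.dg (1 - b) (1 - a)), ← h1, mul_add, mul_add, ← mul_assoc,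
      ← mul_assoc, hflip, hflip]
    simp only [mul_assoc]
  have hb : b = 1 - a := (S.dg_injective hm hab).2
  refine ⟨a, ?_, by rw [hw', hb], fun w hfix => ?_⟩
  · have h := congrArg (S.gAut G) (S.dg_mul 1 0 1 0)
    rw [map_mul, mul_one, mul_zero, hw', dg_mul] at h
    exact (S.dg_injective hm h).1
  · have hfix' : S.gAut G (S.dg 0 1) = S.dg 0 1 := by
      have e : S.dg 0 1 = 1 - S.dg 1 0 := by rw [← dg_one, dg_sub]; simp
      rw [e, map_sub, map_one, hfix]
    rw [S.Zm_eq hm]
    have e : S.dg (S.cen hm w).1 (S.cen hm w).2 =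
        (S.cen hm w).1 • S.dg 1 0 + (S.cen hm w).2 • S.dg 0 1 := by simp [dg_smul, dg_add]
    rw [e, map_add, map_smul, map_smul, hfix, hfix']

/-- The supertrace. -/
noncomputable def str : CliffordAlgebra Q →ₗ[R] S.B :=
  (((Matrix.traceLinearMap (Fin m → Bool) S.B S.B).comp (LinearMap.mulLeft S.B (S.dg 1 (-1)))).restrictScalars R).comp
    S.H.toLinearMap

theorem str_apply (x : CliffordAlgebra Q) : S.str x = Matrix.trace (S.dg 1 (-1) * S.H x) := rfl

theorem str_ι_mul (c : M) (x : CliffordAlgebra Q) : S.str (ι Q c * x) = -S.str (x * ι Q c) := by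
  rw [str_apply, str_apply, map_mul, map_mul, ← mul_assoc, S.dg_mul_flip (S.H_flip c),
    show S.dg (-1) 1 = (-1 : S.B) • S.dg 1 (-1) by rw [dg_smul]; simp, mul_smul_comm, smul_mul_assoc,
    Matrix.trace_smul, smul_eq_mul, neg_one_mul, mul_assoc, Matrix.trace_mul_comm (S.H (ι Q c)), mul_assoc]

theorem str_odd {x : CliffordAlgebra Q} (hx : x ∈ evenOdd Q 1) : S.str x = 0 := by
  rw [str_apply, dg]
  refine Finset.sum_eq_zero fun s _ => ?_
  rw [Matrix.diag_apply, Matrix.diagonal_mul, H_apply, S.flip_odd hx s s rfl, mul_zero]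

theorem str_word_eq_zero {n : Type*} [Fintype n] [DecidableEq n] (b : Module.Basis n R M)
    (d : n → M) (hd : ∀ i j, QuadraticMap.polar Q (d i) (b j) = if i = j then 1 else 0)
    (l : List n) {i : n} (hi : i ∉ l) : S.str (word Q (l.map b)) = 0 := by
  set P := word Q (l.map b) with hP
  rcases Nat.even_or_odd l.length with hev | hodd
  · have hperp : ∀ x ∈ l.map b, QuadraticMap.polar Q (d i) x = 0 := by
      intro x hx
      obtain ⟨j, hj, rfl⟩ := List.mem_map.1 hx
      rw [hd, if_neg (by rintro rfl; exact hi hj)]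
    have h : ι Q (d i) * (ι Q (b i) * P) = P - ι Q (b i) * P * ι Q (d i) := by
      rw [← mul_assoc, ι_mul_ι_comm, hd, if_pos rfl, map_one, sub_mul, one_mul, mul_assoc,
        hP, anti_word _ _ hperp, List.length_map, Even.neg_one_pow hev, one_smul, ← mul_assoc]
    have h' := congrArg S.str h
    rw [map_sub, str_ι_mul, eq_sub_iff_add_eq, neg_add_cancel] at h'
    exact h'.symm
  · refine S.str_odd ?_
    have := word_mem_evenOdd (Q := Q) (l.map b)
    rwa [List.length_map, ZMod.natCast_eq_one_iff_odd.2 hodd, ← hP] at this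

variable {k : ℕ} (b : Module.Basis (Fin k) R M) (d : Fin k → M)
  (hd : ∀ i j, QuadraticMap.polar Q (d i) (b j) = if i = j then 1 else 0)
include hd

theorem str_short {x : CliffordAlgebra Q} (hx : x ∈ short Q k) : S.str x = 0 := by
  refine (Submodule.span_le (p := LinearMap.ker S.str)).2 ?_ hx
  rintro _ ⟨l, hl, rfl⟩
  refine (Submodule.span_le (p := LinearMap.ker S.str)).2 ?_ (word_mem_span_index b l)
  rintro _ ⟨l', hl', rfl⟩
  obtain ⟨i, hi⟩ : ∃ i, i ∉ l' := by
    by_contra h
    push Not at h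
    have := Finset.card_le_card (s := Finset.univ) (t := l'.toFinset) fun i _ => List.mem_toFinset.2 (h i)
    have := this.trans (List.toFinset_card_le l')
    simp at this
    omega
  exact S.str_word_eq_zero b d hd l' hi

/-- The supertrace of a product, as an alternating map. -/
noncomputable def top : AlternatingMap R M S.B (Fin k) where
  toMultilinearMap := S.str.compMultilinearMap
    ((MultilinearMap.mkPiAlgebraFin R k (CliffordAlgebra Q)).compLinearMap fun _ => ι Q)
  map_eq_zero_of_eq' v i j hij hne := by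
    have h : S.str (word Q (List.ofFn v)) = 0 := by
      apply S.str_short b d hd
      have hnd : ¬ (List.ofFn v).Nodup := fun h => hne (List.nodup_ofFn.1 h hij)
      simpa using word_mem_short_of_not_nodup (Q := Q) hnd
    simpa [word, List.map_ofFn, Function.comp_def] using h

theorem top_apply (v : Fin k → M) : S.top b d hd v = S.str (word Q (List.ofFn v)) := by
  simp [top, word, List.map_ofFn, Function.comp_def]

theorem isUnit_top : IsUnit (S.top b d hd b) := by
  classical
  set t := S.top b d hd b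
  let N : Submodule R S.B := (Ideal.span {t}).restrictScalars R
  have hmem : ∀ x, S.str x ∈ N := fun x => by
    refine (Submodule.span_le (p := N.comap S.str)).2 ?_
      ((span_nodup_eq_top (Q := Q) b).symm ▸ Submodule.mem_top : x ∈ _)
    rintro _ ⟨l, hl, rfl⟩
    rw [SetLike.mem_coe, Submodule.mem_comap]
    by_cases hlk : l.length < k
    · rw [S.str_short b d hd (Submodule.subset_span ⟨l.map b, by simpa using hlk, rfl⟩)]
      exact Submodule.zero_mem _
    · have hlen : l.length = k := le_antisymm (by simpa using hl.length_le_card) (not_lt.1 hlk)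
      let σ : Equiv.Perm (Fin k) := Equiv.ofBijective (fun i => l.get (i.cast hlen.symm))
        (Finite.injective_iff_bijective.1 fun i j h => by simpa using hl.injective_get h)
      have : S.str (word Q (l.map b)) = S.top b d hd (b ∘ σ) := by
        rw [top_apply]
        congr 2
        apply List.ext_getElem
        · simp [hlen]
        · intro i h1 h2
          simp [σ]
      rw [this, AlternatingMap.map_perm]
      exact Ideal.mem_span_singleton'.2 ⟨((Equiv.Perm.sign σ : ℤ) : S.B), by rw [Units.smul_def]; simp [t, zsmul_eq_mul]⟩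
  obtain ⟨s⟩ : Nonempty (Fin m → Bool) := inferInstance
  let L : Matrix (Fin m → Bool) (Fin m → Bool) S.B →ₗ[S.B] S.B :=
    (Matrix.traceLinearMap (Fin m → Bool) S.B S.B).comp (LinearMap.mulLeft S.B (S.dg 1 (-1)))
  have hL : ∀ Y, L Y ∈ Ideal.span {t} := fun Y => by
    refine (Submodule.span_le (p := Submodule.comap L (Ideal.span {t}))).2 ?_
      (S.span_range_H.symm ▸ Submodule.mem_top : Y ∈ _)
    rintro _ ⟨x, rfl⟩
    exact hmem x
  have h := hL (S.dg 1 (-1) * Matrix.single s s 1)
  rw [show L (S.dg 1 (-1) * Matrix.single s s 1) =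
      Matrix.trace (S.dg 1 (-1) * (S.dg 1 (-1) * Matrix.single s s 1)) from rfl,
    ← mul_assoc, dg_mul, one_mul, neg_one_mul, neg_neg, dg_one, one_mul, Matrix.trace_single_eq_same,
    Ideal.mem_span_singleton] at h
  exact isUnit_of_dvd_one h

theorem det_mul_eq (hm : 1 ≤ m) [Module.Free R M] [Module.Finite R M] {g : M ≃ₗ[R] M}
    (hg : g ∈ QuadGrp.O Q) {a : S.B}
    (ha : S.gAut (mapEquiv g hg) (S.dg 1 0) = S.dg a (1 - a)) :
    (2 * a - 1) * algebraMap R S.B (LinearMap.det (g : M →ₗ[R] M)) = 1 := by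
  classical
  set G := mapEquiv g hg
  have hJ : S.gAut G (S.dg 1 (-1)) = (2 * a - 1) • S.dg 1 (-1) := by
    rw [show S.dg 1 (-1) = S.dg 1 0 + S.dg 1 0 - 1 by rw [← dg_one, dg_add, dg_sub]; simp,
      map_sub, map_add, map_one, ha, ← dg_one, dg_add, dg_add, dg_sub, dg_sub, dg_smul]
    congr 1 <;> ring
  have hstr : ∀ x, (2 * a - 1) * S.str (G x) = S.str x := fun x => by
    rw [str_apply, str_apply, ← trace_algEquiv (S.gAut G) (S.dg 1 (-1) * S.H x), map_mul, hJ, gAut_H,
      smul_mul_assoc, Matrix.trace_smul, smul_eq_mul]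
  have hext : ∀ v : Fin k → M, S.top b d hd v = b.det v • S.top b d hd b := by
    have : S.top b d hd = (LinearMap.toSpanSingleton R S.B (S.top b d hd b)).compAlternatingMap b.det := by
      refine b.ext_alternating fun i hi => ?_
      let σ : Equiv.Perm (Fin k) := Equiv.ofBijective i (Finite.injective_iff_bijective.1 hi)
      show S.top b d hd (b ∘ σ) = b.det (b ∘ σ) • S.top b d hd b
      rw [AlternatingMap.map_perm, AlternatingMap.map_perm, b.det_self]
      simp [Units.smul_def, Algebra.smul_def]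
    intro v
    exact DFunLike.congr_fun this v
  have hgb : S.top b d hd (g ∘ b) = S.str (G (word Q (List.ofFn b))) := by
    rw [top_apply]
    congr 1
    simp only [word, map_list_prod, List.map_map, List.map_ofFn]
    congr 2
    funext i
    exact (mapEquiv_ι g hg (b i)).symm
  have e := hstr (word Q (List.ofFn b))
  rw [← hgb, ← top_apply S b d hd, hext (g ∘ b),
    show (g : M → M) ∘ b = (g : M →ₗ[R] M) ∘ b from rfl, Module.Basis.det_comp, b.det_self, mul_one,
    Algebra.smul_def, ← mul_assoc] at e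
  exact (S.isUnit_top b d hd).mul_eq_right.1 e

end Splitting

section Descent

variable [Module.Free R M] [Module.Finite R M]

namespace Splitting

variable {m : ℕ} (S : Splitting Q m)

theorem exists_idempotent (hm : 1 ≤ m) {g : M ≃ₗ[R] M} (hg : g ∈ QuadGrp.O Q) {a : S.B} (ha : a * a = a)
    (hG : S.gAut (mapEquiv g hg) (S.dg 1 0) = S.dg a (1 - a)) :
    ∃ e : R, IsIdempotentElem e ∧ algebraMap R S.B e = a := by
  classical
  haveI := S.ffl
  set G := mapEquiv g hg
  set f := algebraMap R S.B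
  let J : Ideal R := Ideal.comap f (Ideal.span {1 - a})
  let δ : S.B ⊗[R] Subalgebra.center R (CliffordAlgebra.even Q) → S.B := fun w =>
    (S.cen hm w).1 - (S.cen hm w).2
  have hδadd : ∀ w w', δ (w + w') = δ w + δ w' := fun w w' => by
    simp only [δ, map_add, Prod.fst_add, Prod.snd_add]; ring
  have hsimple : ∀ (r r' : S.B) (z z' : Subalgebra.center R (CliffordAlgebra.even Q)),
      (1 - a) * (δ (r ⊗ₜ z) * δ (r' ⊗ₜ z')) ∈ J.map f := by
    intro r r' z z'
    have hlin : ∀ (r : S.B) z, δ (r ⊗ₜ z) = r * δ (1 ⊗ₜ z) := fun r z => by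
      have : r ⊗ₜ[R] z = r • ((1 : S.B) ⊗ₜ[R] z) := by rw [TensorProduct.smul_tmul', smul_eq_mul, mul_one]
      simp only [δ, this, map_smul, Prod.smul_fst, Prod.smul_snd, smul_eq_mul]; ring
    have hdiff : ∀ z : Subalgebra.center R (CliffordAlgebra.even Q),
        S.H (G ((z : CliffordAlgebra.even Q) : CliffordAlgebra Q) - ((z : CliffordAlgebra.even Q) : CliffordAlgebra Q)) =
          S.dg (-((1 - a) * δ (1 ⊗ₜ z))) ((1 - a) * δ (1 ⊗ₜ z)) := by
      intro z
      have hz : S.H ((z : CliffordAlgebra.even Q) : CliffordAlgebra Q) =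
          S.dg (S.cen hm (1 ⊗ₜ z)).1 (S.cen hm (1 ⊗ₜ z)).2 := by
        rw [← S.Zm_eq hm, Zm_tmul, one_smul]
      rw [map_sub, ← S.gAut_H, hz]
      set x := (S.cen hm ((1 : S.B) ⊗ₜ[R] z)).1 with hx
      set y := (S.cen hm ((1 : S.B) ⊗ₜ[R] z)).2 with hy
      have e : S.dg x y = x • S.dg 1 0 + y • (1 - S.dg 1 0) := by
        rw [← dg_one, dg_sub, dg_smul, dg_smul, dg_add]; simp
      conv_lhs => arg 1; rw [e]
      rw [map_add, map_smul, map_smul, map_sub, map_one, hG, ← dg_one, dg_sub, dg_smul, dg_smul, dg_add, dg_sub]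
      simp only [δ, ← hx, ← hy]
      congr 1 <;> ring
    set p := (G ((z : CliffordAlgebra.even Q) : CliffordAlgebra Q) - ((z : CliffordAlgebra.even Q) : CliffordAlgebra Q)) *
      (G ((z' : CliffordAlgebra.even Q) : CliffordAlgebra Q) - ((z' : CliffordAlgebra.even Q) : CliffordAlgebra Q)) with hp
    set c := (1 - a) * (δ ((1 : S.B) ⊗ₜ z) * δ ((1 : S.B) ⊗ₜ z')) with hc
    have hidem : (1 - a) * (1 - a) = 1 - a := by linear_combination ha
    have hHp : S.H p = S.dg c c := by
      rw [hp, map_mul, hdiff, hdiff, dg_mul, hc]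
      congr 1 <;> linear_combination (δ ((1 : S.B) ⊗ₜ z) * δ ((1 : S.B) ⊗ₜ z')) * hidem
    obtain ⟨r₀, hr₀⟩ := exists_algebraMap_of_tmul (B := S.B) (r := c) (x := p) (S.T.injective (by
      rw [← H_apply, hHp, T_tmul, map_one, ← dg_one, dg_smul, mul_one]))
    have hfr : f r₀ = c := by
      rw [← hr₀, AlgHom.commutes, IsScalarTower.algebraMap_apply R S.B, Algebra.algebraMap_eq_smul_one,
        ← dg_one, dg_smul, mul_one] at hHp
      exact (S.dg_injective hm hHp).1
    have hr₀J : r₀ ∈ J := by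
      show f r₀ ∈ Ideal.span {1 - a}
      rw [hfr]
      exact Ideal.mem_span_singleton'.2 ⟨_, mul_comm _ _⟩
    rw [hlin, hlin r' z', show (1 - a) * (r * δ (1 ⊗ₜ z) * (r' * δ (1 ⊗ₜ z'))) = r * r' * c by rw [hc]; ring, ← hfr]
    exact Ideal.mul_mem_left _ _ (Ideal.mem_map_of_mem f hr₀J)
  have hall : ∀ w w', (1 - a) * (δ w * δ w') ∈ J.map f := by
    intro w w'
    induction w with
    | zero => simp [δ]
    | add x y hx hy => rw [hδadd, add_mul, mul_add]; exact Ideal.add_mem _ hx hy
    | tmul r z =>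
      induction w' with
      | zero => simp [δ]
      | add x y hx hy => rw [hδadd, mul_add, mul_add]; exact Ideal.add_mem _ hx hy
      | tmul r' z' => exact hsimple r r' z z'
  have hmap : J.map f = Ideal.span {1 - a} := by
    refine le_antisymm Ideal.map_comap_le ((Ideal.span_singleton_le_iff_mem _).2 ?_)
    simpa [δ] using hall ((S.cen hm).symm (1, 0)) ((S.cen hm).symm (1, 0))
  have hJJ : J * J = J := by
    rw [← Ideal.comap_map_eq_self_of_faithfullyFlat (B := S.B) (J * J),
      ← Ideal.comap_map_eq_self_of_faithfullyFlat (B := S.B) J, Ideal.comap_map_eq_self_of_faithfullyFlat (B := S.B) J,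
      Ideal.map_mul, hmap, Ideal.span_singleton_mul_span_singleton,
      show (1 - a) * (1 - a) = 1 - a by linear_combination ha]
  have hfg : J.FG := by
    have h1 : (1 - a) ∈ Submodule.span S.B (f '' (J : Set R)) := by
      show _ ∈ Ideal.span (f '' (J : Set R))
      rw [show Ideal.span (f '' (J : Set R)) = J.map f from rfl, hmap]
      exact Ideal.mem_span_singleton_self _
    obtain ⟨T, hT, hT'⟩ := Submodule.mem_span_finite_of_mem_span h1
    obtain ⟨T', hT'J, rfl⟩ := Finset.subset_set_image_iff.1 hT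
    refine ⟨T', ?_⟩
    have hle : Ideal.span (T' : Set R) ≤ J := Ideal.span_le.2 hT'J
    have hmeq : (Ideal.span (T' : Set R)).map f = J.map f := by
      refine le_antisymm (Ideal.map_mono hle) ?_
      rw [hmap, Ideal.span_singleton_le_iff_mem, Ideal.map_span]
      simpa using hT'
    calc Submodule.span R (T' : Set R) = ((Ideal.span (T' : Set R)).map f).comap f :=
        (Ideal.comap_map_eq_self_of_faithfullyFlat (B := S.B) _).symm
      _ = J := by rw [hmeq, Ideal.comap_map_eq_self_of_faithfullyFlat]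
  obtain ⟨e₁, he₁, hJe⟩ := (Ideal.isIdempotentElem_iff_of_fg J hfg).1 hJJ
  refine ⟨1 - e₁, he₁.one_sub, ?_⟩
  have hspan : Ideal.span {f e₁} = Ideal.span {1 - a} := by
    rw [← hmap, hJe, Ideal.map_span, Set.image_singleton]
  obtain ⟨x, hx⟩ := Ideal.mem_span_singleton'.1 (hspan ▸ Ideal.mem_span_singleton_self _ : f e₁ ∈ _)
  obtain ⟨y, hy⟩ := Ideal.mem_span_singleton'.1 (hspan.symm ▸ Ideal.mem_span_singleton_self _ : 1 - a ∈ _)
  have hee : f e₁ * f e₁ = f e₁ := by rw [← map_mul, he₁.eq]
  have : f e₁ = 1 - a := by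
    have e1 : f e₁ * (1 - a) = f e₁ := by rw [← hx]; linear_combination x * ha
    have e2 : f e₁ * (1 - a) = 1 - a := by rw [← hy]; linear_combination y * hee
    exact e1.symm.trans e2
  rw [map_sub, map_one, this, sub_sub_cancel]

end Splitting

variable (Q) in
theorem exists_dual (hQ : QuadGrp.IsRegular Q) {n : Type*} [Fintype n] [DecidableEq n]
    (b : Module.Basis n R M) :
    ∃ d : n → M, ∀ i j, QuadraticMap.polar Q (d i) (b j) = if i = j then 1 else 0 := by
  choose d hd using fun i => hQ.2 (b.coord i)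
  refine ⟨d, fun i j => ?_⟩
  have := LinearMap.congr_fun (hd i) (b j)
  rw [QuadraticMap.polarBilin_apply_apply, b.coord_apply, b.repr_self, Finsupp.single_apply] at this
  rw [this]
  exact if_congr eq_comm rfl rfl

/-- The Dickson invariant of an isometry: its relation to the determinant, to the Dickson condition and to the
parity of a homogeneous unit inducing the isometry. -/
theorem exists_dickson [Nontrivial R] {m : ℕ} (hm : 1 ≤ m) (hM : Module.finrank R M = 2 * m)
    (hQ : QuadGrp.IsRegular Q) (g : M ≃ₗ[R] M) (hg : g ∈ QuadGrp.O Q) :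
    ∃ e : R, IsIdempotentElem e ∧ LinearMap.det (g : M →ₗ[R] M) = 2 * e - 1 ∧
      (QuadGrp.IsDicksonTrivial Q g hg ↔ e = 1) ∧
      ∀ u : (CliffordAlgebra Q)ˣ, (∀ v, (u : CliffordAlgebra Q) * ι Q v * ↑u⁻¹ = ι Q (g v)) →
        ((u : CliffordAlgebra Q) ∈ evenOdd Q 0 → e = 1) ∧ ((u : CliffordAlgebra Q) ∈ evenOdd Q 1 → e = 0) := by
  classical
  obtain ⟨S⟩ := exists_splitting Q hM hQ
  haveI := S.ffl
  let b := Module.finBasisOfFinrankEq R M hM
  obtain ⟨d, hd⟩ := exists_dual Q hQ b
  obtain ⟨a, ha, hG, hfix⟩ := S.exists_gAut_P0 hm hg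
    ⟨d ⟨0, by omega⟩, b ⟨0, by omega⟩, by rw [hd, if_pos rfl]⟩
  obtain ⟨e, he, hea⟩ := S.exists_idempotent hm hg ha hG
  have hinj := S.algebraMap_B_injective
  set f := algebraMap R S.B with hf
  have hdet : LinearMap.det (g : M →ₗ[R] M) = 2 * e - 1 := by
    apply hinj
    have h := S.det_mul_eq b d hd hm hg hG
    rw [map_sub, map_mul, map_ofNat, map_one, hea]
    linear_combination (2 * a - 1) * h - 4 * f (LinearMap.det (g : M →ₗ[R] M)) * ha
  have ha1 : S.gAut (mapEquiv g hg) (S.dg 1 0) = S.dg 1 0 ↔ e = 1 := by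
    rw [hG]
    constructor
    · intro h; apply hinj; rw [hea, map_one, (S.dg_injective hm h).1]
    · intro h; rw [← hea, h, map_one, sub_self]
  refine ⟨e, he, hdet, ⟨fun h => ha1.1 ?_, fun h z hz => ?_⟩, fun u hu => ⟨fun h0 => ha1.1 ?_, fun h1 => ?_⟩⟩
  · have key : ∀ w, S.gAut (mapEquiv g hg) (S.Zm w) = S.Zm w := by
      intro w
      induction w with
      | zero => simp
      | tmul r z =>
        rw [Splitting.Zm_tmul, map_smul, S.gAut_H, ← map_eq_mapEquiv, h z.1 z.2]
      | add x y hx hy => simp [map_add, hx, hy]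
    simpa [S.Zm_eq hm] using key ((S.cen hm).symm (1, 0))
  · rw [map_eq_mapEquiv]
    apply S.H_injective
    have := hfix ((1 : S.B) ⊗ₜ[R] ⟨z, hz⟩) (ha1.2 h)
    rw [Splitting.Zm_tmul, one_smul, S.gAut_H] at this
    exact this
  · have hU : IsUnit (S.H u) := u.isUnit.map S.H
    apply hU.mul_left_injective
    show S.gAut (mapEquiv g hg) (S.dg 1 0) * S.H u = S.dg 1 0 * S.H u
    rw [← S.mul_gAut_eq (fun x => by rw [mapEquiv_eq_conj hg hu]; simp [mul_assoc]) (S.dg 1 0),
      S.dg_mul_pres (show Pres par (S.H u) from S.pres_even h0)]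
  · apply hinj
    rw [hea, map_zero]
    have hU : IsUnit (S.H u) := u.isUnit.map S.H
    have hflip : Flip par (S.H u) := S.flip_odd h1
    have h : S.gAut (mapEquiv g hg) (S.dg 1 0) * S.H u = S.dg 0 1 * S.H u := by
      rw [← S.mul_gAut_eq (fun x => by rw [mapEquiv_eq_conj hg hu]; simp [mul_assoc]) (S.dg 1 0),
        S.dg_mul_flip hflip]
    rw [hG] at h
    exact (S.dg_injective hm (hU.mul_left_injective h)).1

variable (Q) in
theorem isAzumaya_clifford [Nontrivial R] {m : ℕ} (hM : Module.finrank R M = 2 * m)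
    (hQ : QuadGrp.IsRegular Q) : IsAzumaya R (CliffordAlgebra Q) := by
  obtain ⟨S⟩ := exists_splitting Q hM hQ
  haveI := S.ffl
  haveI : IsAzumaya S.B (Matrix (Fin m → Bool) (Fin m → Bool) S.B) := IsAzumaya.matrix _ _
  haveI := IsAzumaya.of_AlgEquiv _ _ _ S.T.symm
  exact Groth.Agent.Azu.of_baseChange_faithfullyFlat S.B

/-- Every isometry is inner on the Clifford algebra over a local ring. -/
theorem exists_conj [IsLocalRing R] {m : ℕ} (hM : Module.finrank R M = 2 * m)
    (hQ : QuadGrp.IsRegular Q) (g : M ≃ₗ[R] M) (hg : g ∈ QuadGrp.O Q) :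
    ∃ u : (CliffordAlgebra Q)ˣ, u ∈ QuadGrp.GPin' Q ∧
      ∀ v, (u : CliffordAlgebra Q) * ι Q v * ↑u⁻¹ = ι Q (g v) := by
  haveI := isAzumaya_clifford Q hM hQ
  obtain ⟨u, hu⟩ := (Groth.Agent.S5705.result R (CliffordAlgebra Q) (mapEquiv g hg)).1
  have h : ∀ v, (u : CliffordAlgebra Q) * ι Q v * ↑u⁻¹ = ι Q (g v) := fun v => by rw [← hu, mapEquiv_ι]
  exact ⟨u, mem_GPin'_of_conj g h, h⟩

/-- Every unit normalising the module is locally homogeneous. -/
theorem isLocHomog_of_mem {m : ℕ} (hM : Module.finrank R M = 2 * m)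
    (hQ : QuadGrp.IsRegular Q) (u : (CliffordAlgebra Q)ˣ) (hu : u ∈ QuadGrp.GPin' Q) :
    QuadGrp.IsLocHomog Q (u : CliffordAlgebra Q) := by
  rcases subsingleton_or_nontrivial R with hR | hR
  · haveI : Subsingleton (CliffordAlgebra Q) := Module.subsingleton R _
    refine ⟨1, IsIdempotentElem.one, ?_, ?_⟩ <;>
      (rw [Subsingleton.elim (_ • _ : CliffordAlgebra Q) 0]; exact Submodule.zero_mem _)
  obtain ⟨g, -, hconj⟩ := exists_conj_of_mem hu
  obtain ⟨S⟩ := exists_splitting Q hM hQ
  obtain ⟨u0, h0, u1, h1, hu01⟩ := Splitting.exists_even_add_odd (Q := Q) (u : CliffordAlgebra Q)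
  have hint : ∀ v, u0 * ι Q v = ι Q (g v) * u0 := fun v =>
    (intertwine_parts h0 h1 (by rw [hu01, ← hconj]; simp [mul_assoc])).1
  have hc : (↑u⁻¹ : CliffordAlgebra Q) * u0 ∈ Subalgebra.center R (CliffordAlgebra Q) :=
    mem_center_of_commute_ι fun v => by
      rw [mul_assoc, hint, ← hconj]; simp [← mul_assoc]
  rw [Groth.Agent.S16651.center_bot S, Algebra.mem_bot] at hc
  obtain ⟨e, he⟩ := hc
  have hu0 : u0 = e • (u : CliffordAlgebra Q) := by
    rw [Algebra.smul_def, Algebra.commutes, he, ← mul_assoc, Units.mul_inv, one_mul]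
  have hu1 : u1 = (1 - e) • (u : CliffordAlgebra Q) := by
    rw [sub_smul, one_smul, ← hu0, eq_sub_iff_add_eq, add_comm, hu01]
  refine ⟨e, ?_, hu0 ▸ h0, hu1 ▸ h1⟩
  have hsum : e • u0 - u0 = -(e • u1) := by rw [hu1, hu0]; module
  have hz : e • u1 = 0 := Submodule.disjoint_def.1 (evenOdd_isCompl Q).disjoint _
    (by rw [← neg_neg (e • u1), ← hsum]
        exact Submodule.neg_mem _ (Submodule.sub_mem _ (Submodule.smul_mem _ _ h0) h0))
    (Submodule.smul_mem _ _ h1)
  rw [hu1, smul_smul, Algebra.smul_def, u.mul_left_eq_zero, ← map_zero (algebraMap R (CliffordAlgebra Q))] at hz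
  have := algebraMap_clifford_injective Q hz
  show e * e = e
  linear_combination -this

theorem exists_isUnit_value [IsLocalRing R] {m : ℕ} (hm : 1 ≤ m) (hM : Module.finrank R M = 2 * m)
    (hQ : QuadGrp.IsRegular Q) : ∃ v, IsUnit (Q v) := by
  classical
  let b := Module.finBasisOfFinrankEq R M hM
  obtain ⟨d, hd⟩ := exists_dual Q hQ b
  by_contra h
  push Not at h
  let i : Fin (2 * m) := ⟨0, by omega⟩
  have h1 : QuadraticMap.polar Q (d i) (b i) ∈ IsLocalRing.maximalIdeal R := by
    rw [QuadraticMap.polar]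
    refine Ideal.sub_mem _ (Ideal.sub_mem _ ?_ ?_) ?_ <;> exact (IsLocalRing.mem_maximalIdeal _).2 (h _)
  rw [hd, if_pos rfl] at h1
  exact (IsLocalRing.mem_maximalIdeal _).1 h1 isUnit_one

/-- A unit vector gives an odd unit of the Clifford group. -/
theorem exists_reflection {v : M} (hv : IsUnit (Q v)) :
    ∃ (g : M ≃ₗ[R] M) (_ : g ∈ QuadGrp.O Q) (u : (CliffordAlgebra Q)ˣ),
      (u : CliffordAlgebra Q) ∈ evenOdd Q 1 ∧ ∀ w, (u : CliffordAlgebra Q) * ι Q w * ↑u⁻¹ = ι Q (g w) := by
  obtain ⟨q, hq⟩ := hv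
  have hsq : ι Q v * ((↑q⁻¹ : R) • ι Q v) = 1 := by
    rw [mul_smul_comm, ι_sq_scalar, ← hq, Algebra.smul_def, ← map_mul, Units.inv_mul, map_one]
  let u : (CliffordAlgebra Q)ˣ := ⟨ι Q v, (↑q⁻¹ : R) • ι Q v, hsq, by rw [smul_mul_assoc, ← mul_smul_comm]; exact hsq⟩
  have hw : ∀ w, (u : CliffordAlgebra Q) * ι Q w * ↑u⁻¹ =
      ι Q (((↑q⁻¹ : R) * QuadraticMap.polar Q v w) • v - w) := fun w => by
    show ι Q v * ι Q w * ((↑q⁻¹ : R) • ι Q v) = _
    rw [ι_mul_ι_comm, sub_mul, mul_assoc, hsq, mul_one, ← Algebra.smul_def, smul_smul,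
      mul_comm _ (↑q⁻¹ : R), map_sub, map_smul]
  obtain ⟨g, hg, hconj⟩ := exists_conj_of_mem (u := u) (by
    rw [QuadGrp.mem_GPin']
    have hinv : ∀ w, ((↑q⁻¹ : R) * QuadraticMap.polar Q v (((↑q⁻¹ : R) * QuadraticMap.polar Q v w) • v - w)) • v -
        (((↑q⁻¹ : R) * QuadraticMap.polar Q v w) • v - w) = w := fun w => by
      rw [← QuadraticMap.polarBilin_apply_apply Q v (_ - w), map_sub, map_smul, QuadraticMap.polarBilin_apply_apply,
        QuadraticMap.polarBilin_apply_apply, QuadraticMap.polar_self, smul_eq_mul, ← hq, nsmul_eq_mul, Nat.cast_ofNat]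
      rw [show (↑q⁻¹ : R) * ((↑q⁻¹ : R) * QuadraticMap.polar Q v w * (2 * ↑q) - QuadraticMap.polar Q v w) =
        (↑q⁻¹ : R) * QuadraticMap.polar Q v w by
          linear_combination (2 * (↑q⁻¹ : R) * QuadraticMap.polar Q v w) * q.inv_mul]
      abel
    let r : M →ₗ[R] M := (((↑q⁻¹ : R) • QuadraticMap.polarBilin Q v).smulRight v) - LinearMap.id
    have hr : ∀ w, r w = ((↑q⁻¹ : R) * QuadraticMap.polar Q v w) • v - w := fun w => by simp [r]
    exact mem_GPin'_of_conj (LinearEquiv.ofBijective r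
      ⟨Function.LeftInverse.injective (g := r) fun w => by rw [hr, hr, hinv],
        Function.RightInverse.surjective (g := r) fun w => by rw [hr, hr, hinv]⟩) fun w => by
      rw [hw]; exact congrArg (ι Q) (hr w).symm)
  exact ⟨g, hg, u, ι_mem_evenOdd_one Q v, hconj⟩

end Descent

end QSplit86

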