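import Mathlib
import Groth.Prelude.Def_QuadGrp2

/-!
# Representing algebras for pinned group schemes, and a smoothness criterion
-/

set_option autoImplicit false
set_option maxHeartbeats 1600000
set_option synthInstance.maxHeartbeats 100000
universe u

open CategoryTheory AlgebraicGeometry TensorProduct

namespace QSplit86

variable {R : Type u} [CommRing R]

/-- A morphism bijective on affine points is an isomorphism. -/
theorem isIso_of_affine_points {X Y : Scheme.{u}} (f : X ⟶ Y)
    (h : ∀ (S : CommRingCat.{u}) (y : Spec S ⟶ Y), ∃! x : Spec S ⟶ X, x ≫ f = y) : IsIso f := by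
  have h' : ∀ (T : Scheme.{u}) [IsAffine T] (y : T ⟶ Y), ∃! x : T ⟶ X, x ≫ f = y := by
    intro T _ y
    obtain ⟨x, hx, hxu⟩ := h _ (T.isoSpec.inv ≫ y)
    refine ⟨T.isoSpec.hom ≫ x, ?_, fun x' hx' => ?_⟩
    · simp [hx]
    · rw [← hxu (T.isoSpec.inv ≫ x') (by simp [hx']), Iso.hom_inv_id_assoc]
  have hmono : Mono f := ⟨fun {T} a b hab => by
    refine T.affineCover.hom_ext _ _ fun i => ?_
    exact (h' _ (T.affineCover.f i ≫ a ≫ f)).unique (Category.assoc _ _ _)
      ((Category.assoc _ _ _).trans (congrArg (T.affineCover.f i ≫ ·) hab.symm))⟩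
  choose s hs _ using fun i => h' _ (Y.affineCover.f i)
  let g : Y ⟶ X := Y.affineCover.glueMorphisms s fun i j => by
    rw [← cancel_mono f, Category.assoc, Category.assoc, hs, hs, Limits.pullback.condition]
  have hg : g ≫ f = 𝟙 Y := Y.affineCover.hom_ext _ _ fun i => by
    rw [Scheme.Cover.ι_glueMorphisms_assoc, hs, Category.comp_id]
  exact ⟨g, by rw [← cancel_mono f, Category.assoc, hg, Category.comp_id, Category.id_comp], hg⟩

/-- An `R`-scheme whose points with values in algebras are those of an algebra is that spectrum. -/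
theorem exists_iso_spec (G : Over (Spec (CommRingCat.of R))) (A₀ : Type u) [CommRing A₀] [Algebra R A₀]
    (e : ∀ (A : Type u) [CommRing A] [Algebra R A], (QuadGrp.specOver R A ⟶ G) ≃ (A₀ →ₐ[R] A))
    (nat : ∀ (A B : Type u) [CommRing A] [Algebra R A] [CommRing B] [Algebra R B] (φ : A →ₐ[R] B)
      (y : QuadGrp.specOver R A ⟶ G), e B (QuadGrp.specOverMap R φ ≫ y) = φ.comp (e A y)) :
    Nonempty (QuadGrp.specOver R A₀ ≅ G) := by
  let ψ : QuadGrp.specOver R A₀ ⟶ G := (e A₀).symm (AlgHom.id R A₀)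
  have hψ : e A₀ ψ = AlgHom.id R A₀ := (e A₀).apply_symm_apply _
  have key : ∀ (A : Type u) [CommRing A] [Algebra R A] (φ : A₀ →ₐ[R] A) (y : QuadGrp.specOver R A ⟶ G),
      QuadGrp.specOverMap R φ ≫ ψ = y ↔ φ = e A y := fun A _ _ φ y => by
    rw [← (e A).injective.eq_iff, nat, hψ, AlgHom.comp_id]
  haveI : IsIso ψ.left := isIso_of_affine_points ψ.left fun S y => by
    letI : Algebra R S := (Spec.preimage (y ≫ G.hom)).hom.toAlgebra
    have hh : Spec.map (CommRingCat.ofHom (algebraMap R S)) = y ≫ G.hom := Spec.map_preimage _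
    let y' : QuadGrp.specOver R S ⟶ G := Over.homMk y hh.symm
    let φ := e S y'
    refine ⟨Spec.map (CommRingCat.ofHom φ.toRingHom), congrArg CommaMorphism.left ((key S φ y').2 rfl),
      fun x₀ hx => ?_⟩
    obtain ⟨x, rfl⟩ : ∃ x : Spec S ⟶ Spec (CommRingCat.of A₀), x = x₀ := ⟨x₀, rfl⟩
    have hx' : x ≫ Spec.map (CommRingCat.ofHom (algebraMap R A₀)) =
        Spec.map (CommRingCat.ofHom (algebraMap R S)) := by
      rw [hh, ← hx]
      exact (congrArg (x ≫ ·) (Over.w ψ).symm).trans (Category.assoc _ _ _).symm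
    let χ : A₀ →ₐ[R] S :=
      { (Spec.preimage x).hom with
        commutes' := fun r => by
          have := Spec.map_injective (show Spec.map (CommRingCat.ofHom (algebraMap R A₀) ≫ Spec.preimage x) =
            Spec.map (CommRingCat.ofHom (algebraMap R S)) by rw [Spec.map_comp, Spec.map_preimage]; exact hx')
          exact congr($this r) }
    have hxχ : x = Spec.map (CommRingCat.ofHom χ.toRingHom) := (Spec.map_preimage x).symm
    rw [hxχ]
    have : χ = φ := (key S χ y').1 (Over.OverMorphism.ext (by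
      show Spec.map (CommRingCat.ofHom χ.toRingHom) ≫ ψ.left = y
      rw [← hxχ]; exact hx))
    rw [this]
  haveI : IsIso ((Over.forget _).map ψ) := inferInstanceAs (IsIso ψ.left)
  haveI : IsIso ψ := isIso_of_reflects_iso ψ (Over.forget _)
  exact ⟨asIso ψ⟩

theorem hom_left_comp (G : Over (Spec (CommRingCat.of R))) (A₀ : Type u) [CommRing A₀] [Algebra R A₀]
    (i : QuadGrp.specOver R A₀ ≅ G) :
    ∃ (a : Spec (CommRingCat.of A₀) ⟶ G.left) (b : G.left ⟶ Spec (CommRingCat.of A₀)),
      a ≫ G.hom = Spec.map (CommRingCat.ofHom (algebraMap R A₀)) ∧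
      b ≫ Spec.map (CommRingCat.ofHom (algebraMap R A₀)) = G.hom ∧ IsIso a ∧ IsIso b :=
  ⟨i.hom.left, i.inv.left, Over.w i.hom, Over.w i.inv, inferInstanceAs (IsIso ((Over.forget _).map i.hom)),
    inferInstanceAs (IsIso ((Over.forget _).map i.inv))⟩

theorem smooth_hom_of_iso (G : Over (Spec (CommRingCat.of R))) (A₀ : Type u) [CommRing A₀] [Algebra R A₀]
    (i : QuadGrp.specOver R A₀ ≅ G) : Smooth G.hom ↔ Algebra.Smooth R A₀ := by
  obtain ⟨a, b, h, h', hi, hi'⟩ := hom_left_comp G A₀ i
  have hs : Smooth (Spec.map (CommRingCat.ofHom (algebraMap R A₀))) ↔ Algebra.Smooth R A₀ := by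
    rw [HasRingHomProperty.Spec_iff (P := @Smooth)]; exact RingHom.smooth_algebraMap
  rw [← hs]
  constructor
  · intro hG; rw [← h]; infer_instance
  · intro hG; rw [← h']; infer_instance

theorem isAffineHom_of_iso (G : Over (Spec (CommRingCat.of R))) (A₀ : Type u) [CommRing A₀] [Algebra R A₀]
    (i : QuadGrp.specOver R A₀ ≅ G) : IsAffineHom G.hom := by
  obtain ⟨a, b, h, h', hi, hi'⟩ := hom_left_comp G A₀ i
  rw [← h']; infer_instance

theorem isReduced_of_iso (G : Over (Spec (CommRingCat.of R))) (A₀ : Type u) [CommRing A₀] [Algebra R A₀]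
    (i : QuadGrp.specOver R A₀ ≅ G) [_root_.IsReduced A₀] : IsReduced G.left := by
  obtain ⟨a, b, h, h', hi, hi'⟩ := hom_left_comp G A₀ i
  haveI : _root_.IsReduced (CommRingCat.of A₀) := inferInstanceAs (_root_.IsReduced A₀)
  exact isReduced_of_isOpenImmersion b

theorem flat_of_hom_of_iso (G : Over (Spec (CommRingCat.of R))) (A₀ : Type u) [CommRing A₀] [Algebra R A₀]
    (i : QuadGrp.specOver R A₀ ≅ G) (hG : Flat G.hom) : Module.Flat R A₀ := by
  obtain ⟨a, b, h, h', hi, hi'⟩ := hom_left_comp G A₀ i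
  have : Flat (Spec.map (CommRingCat.ofHom (algebraMap R A₀))) := by rw [← h]; infer_instance
  rw [HasRingHomProperty.Spec_iff (P := @Flat)] at this
  exact RingHom.flat_algebraMap_iff.1 this

section Rep

variable {σ ι : Type} (eq : ι → MvPolynomial σ R)

/-- The algebra of a system of equations. -/
abbrev EqRing := MvPolynomial σ R ⧸ Ideal.span (Set.range eq)

theorem finitePresentation_eqRing [Finite σ] [Finite ι] : Algebra.FinitePresentation R (EqRing eq) :=
  Algebra.FinitePresentation.quotient (Submodule.fg_span (Set.finite_range eq))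

/-- Points of the algebra of a system of equations are its solutions. -/
noncomputable def eqRingPts (A : Type u) [CommRing A] [Algebra R A] :
    (EqRing eq →ₐ[R] A) ≃ {x : σ → A // ∀ j, MvPolynomial.aeval x (eq j) = 0} where
  toFun f := ⟨fun s => f (Ideal.Quotient.mk _ (MvPolynomial.X s)), fun j => by
    have e : MvPolynomial.aeval (fun s => f (Ideal.Quotient.mk _ (MvPolynomial.X s))) =
        f.comp (Ideal.Quotient.mkₐ R (Ideal.span (Set.range eq))) := MvPolynomial.algHom_ext fun s => by simp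
    rw [e, AlgHom.comp_apply, Ideal.Quotient.mkₐ_eq_mk, Ideal.Quotient.eq_zero_iff_mem.2
      (Ideal.subset_span (Set.mem_range_self j)), map_zero]⟩
  invFun x := Ideal.Quotient.liftₐ _ (MvPolynomial.aeval x.1) fun a ha => by
    have : Ideal.span (Set.range eq) ≤ RingHom.ker (MvPolynomial.aeval (R := R) x.1) :=
      Ideal.span_le.2 (by rintro _ ⟨j, rfl⟩; exact x.2 j)
    exact this ha
  left_inv f := by
    refine Ideal.Quotient.algHom_ext R (MvPolynomial.algHom_ext fun s => ?_)
    exact MvPolynomial.aeval_X (fun s => f (Ideal.Quotient.mk _ (MvPolynomial.X s))) s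
  right_inv x := by
    refine Subtype.ext (funext fun s => ?_)
    exact MvPolynomial.aeval_X x.1 s

theorem eqRingPts_comp {A B : Type u} [CommRing A] [Algebra R A] [CommRing B] [Algebra R B] (φ : A →ₐ[R] B)
    (f : EqRing eq →ₐ[R] A) : (eqRingPts eq B (φ.comp f)).1 = φ ∘ (eqRingPts eq A f).1 := rfl

end Rep

end QSplit86
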