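import Groth.Agent.QSplit86.Basic

/-!
# The Clifford algebra of a split form is a matrix algebra
-/

set_option autoImplicit false
universe u

namespace QSplit86

open CliffordAlgebra

variable (R : Type u) [CommRing R]

/-- The split quadratic form. -/
def hypQ (m : ℕ) : QuadraticForm R (I m → R) :=
  ∑ j : Fin m, QuadraticMap.linMulLin (LinearMap.proj (Sum.inl j)) (LinearMap.proj (Sum.inr j))

@[simp] theorem hypQ_apply (m : ℕ) (x : I m → R) : hypQ R m x = hyp x := by
  simp [hypQ, hyp]

variable {R} {m : ℕ}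

/-- The restriction to the smaller index type, as a linear map. -/
def restr (m : ℕ) : (I (m + 1) → R) →ₗ[R] (I m → R) := LinearMap.funLeft R R (emb m)

/-- The image of a vector in `2 × 2` matrices over the smaller Clifford algebra. -/
def gen (x : I (m + 1) → R) : Matrix Bool Bool (CliffordAlgebra (hypQ R m)) :=
  Matrix.of fun i j =>
    bif i then (bif j then -ι (hypQ R m) (x ∘ emb m) else algebraMap R _ (x (.inr 0)))
    else (bif j then algebraMap R _ (x (.inl 0)) else ι (hypQ R m) (x ∘ emb m))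

theorem gen_sq (x : I (m + 1) → R) :
    gen x * gen x = algebraMap R _ (hypQ R (m + 1) x) := by
  have hx : hypQ R (m + 1) x = x (.inl 0) * x (.inr 0) + hypQ R m (x ∘ emb m) := by
    simp [hyp, emb, Fin.sum_univ_succ]
  ext i j
  cases i <;> cases j <;>
    simp only [gen, Matrix.mul_apply, Fintype.univ_bool, Finset.mem_singleton, Bool.true_eq_false,
      not_false_eq_true, Finset.sum_insert, Finset.sum_singleton, Matrix.of_apply, cond_true, cond_false,
      Matrix.algebraMap_matrix_apply, ↓reduceIte, Bool.false_eq_true, hx, map_add, map_mul,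
      neg_mul_neg, ι_sq_scalar]
  · rw [mul_neg, Algebra.commutes]; abel
  · rw [neg_mul, Algebra.commutes]; abel
  · rw [Algebra.commutes (x (.inr 0))]; abel

/-- `gen` as a linear map. -/
def genL : (I (m + 1) → R) →ₗ[R] Matrix Bool Bool (CliffordAlgebra (hypQ R m)) where
  toFun := gen
  map_add' x y := by
    ext i j
    cases i <;> cases j <;> simp [gen, show (x + y) ∘ emb m = x ∘ emb m + y ∘ emb m from rfl, neg_add_rev, add_comm]
  map_smul' c x := by
    ext i j
    cases i <;> cases j <;>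
      simp only [gen, show (c • x) ∘ emb m = c • (x ∘ emb m) from rfl, Matrix.of_apply, Matrix.smul_apply,
        cond_true, cond_false, map_smul, Pi.smul_apply, smul_eq_mul, map_mul, RingHom.id_apply, smul_neg] <;>
      simp [Algebra.smul_def]

/-- The map to `2 × 2` matrices. -/
def toMat : CliffordAlgebra (hypQ R (m + 1)) →ₐ[R] Matrix Bool Bool (CliffordAlgebra (hypQ R m)) :=
  lift (hypQ R (m + 1)) ⟨genL, gen_sq⟩

theorem toMat_ι (x : I (m + 1) → R) : toMat (ι (hypQ R (m + 1)) x) = gen x :=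
  lift_ι_apply _ _ _

@[simp] theorem glue_inl (c d : R) (z : I m → R) : glue c d z (.inl 0) = c := by simp [glue]
@[simp] theorem glue_inr (c d : R) (z : I m → R) : glue c d z (.inr 0) = d := by simp [glue]

/-- The first vector of the split plane. -/
def ee : CliffordAlgebra (hypQ R (m + 1)) := ι _ (glue 1 0 0)
/-- The second vector of the split plane. -/
def ff : CliffordAlgebra (hypQ R (m + 1)) := ι _ (glue 0 1 0)

theorem glue_add (c c' d d' : R) (z z' : I m → R) :
    glue c d z + glue c' d' z' = glue (c + c') (d + d') (z + z') := by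
  funext i
  rcases i with i | i <;> rcases Fin.eq_zero_or_eq_succ i with rfl | ⟨i', rfl⟩ <;> simp [glue]

theorem glue_smul (a c d : R) (z : I m → R) : a • glue c d z = glue (a * c) (a * d) (a • z) := by
  funext i
  rcases i with i | i <;> rcases Fin.eq_zero_or_eq_succ i with rfl | ⟨i', rfl⟩ <;> simp [glue]

theorem hyp_glue (c d : R) (z : I m → R) :
    hypQ R (m + 1) (glue c d z) = c * d + hypQ R m z := by
  simp [hyp, glue, Fin.sum_univ_succ]

theorem ee_sq : (ee : CliffordAlgebra (hypQ R (m + 1))) * ee = 0 := by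
  rw [ee, ι_sq_scalar, hyp_glue]; simp [hyp]

theorem ff_sq : (ff : CliffordAlgebra (hypQ R (m + 1))) * ff = 0 := by
  rw [ff, ι_sq_scalar, hyp_glue]; simp [hyp]

theorem ee_ff : (ee : CliffordAlgebra (hypQ R (m + 1))) * ff + ff * ee = 1 := by
  rw [ee, ff, ι_mul_ι_add_swap, QuadraticMap.polar, glue_add, hyp_glue, hyp_glue, hyp_glue]
  simp [hyp]

theorem ee_ff_ee : (ee : CliffordAlgebra (hypQ R (m + 1))) * (ff * ee) = ee := by
  rw [eq_sub_of_add_eq' (ee_ff (R := R) (m := m)), mul_sub, mul_one, ← mul_assoc ee ee, ee_sq,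
    zero_mul, sub_zero]

theorem ff_ee_ff : (ff : CliffordAlgebra (hypQ R (m + 1))) * (ee * ff) = ff := by
  rw [eq_sub_of_add_eq (ee_ff (R := R) (m := m)), mul_sub, mul_one, ← mul_assoc ff ff, ff_sq,
    zero_mul, sub_zero]

theorem glue_anticomm (z : I m → R) (c d : R) :
    ι (hypQ R (m + 1)) (glue 0 0 z) * ι (hypQ R (m + 1)) (glue c d 0) =
      -(ι (hypQ R (m + 1)) (glue c d 0) * ι (hypQ R (m + 1)) (glue 0 0 z)) := by
  rw [eq_neg_iff_add_eq_zero, ι_mul_ι_add_swap, QuadraticMap.polar, glue_add, hyp_glue, hyp_glue,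
    hyp_glue]
  simp [hyp]

/-- The volume element of the split plane. -/
def sg : CliffordAlgebra (hypQ R (m + 1)) := ee * ff - ff * ee

theorem sg_sq : (sg : CliffordAlgebra (hypQ R (m + 1))) * sg = 1 := by
  have h1 : ee * ff * (ee * ff) = (ee * ff : CliffordAlgebra (hypQ R (m + 1))) := by
    rw [mul_assoc, ff_ee_ff]
  have h2 : ff * ee * (ff * ee) = (ff * ee : CliffordAlgebra (hypQ R (m + 1))) := by
    rw [mul_assoc, ee_ff_ee]
  have h3 : ee * ff * (ff * ee) = (0 : CliffordAlgebra (hypQ R (m + 1))) := by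
    rw [mul_assoc, ← mul_assoc ff ff, ff_sq, zero_mul, mul_zero]
  have h4 : ff * ee * (ee * ff) = (0 : CliffordAlgebra (hypQ R (m + 1))) := by
    rw [mul_assoc, ← mul_assoc ee ee, ee_sq, zero_mul, mul_zero]
  rw [sg, sub_mul, mul_sub, mul_sub, h1, h2, h3, h4, sub_zero, zero_sub, sub_neg_eq_add, ee_ff]

theorem sg_mul_ee : sg * ee = (ee : CliffordAlgebra (hypQ R (m + 1))) := by
  rw [sg, sub_mul, mul_assoc, ee_ff_ee, mul_assoc, ee_sq, mul_zero, sub_zero]

theorem ee_mul_sg : ee * sg = -(ee : CliffordAlgebra (hypQ R (m + 1))) := by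
  rw [sg, mul_sub, ee_ff_ee, ← mul_assoc, ee_sq, zero_mul, zero_sub]

theorem sg_mul_ff : sg * ff = -(ff : CliffordAlgebra (hypQ R (m + 1))) := by
  rw [sg, sub_mul, mul_assoc, ff_sq, mul_zero, mul_assoc, ff_ee_ff, zero_sub]

theorem ff_mul_sg : ff * sg = (ff : CliffordAlgebra (hypQ R (m + 1))) := by
  rw [sg, mul_sub, ff_ee_ff, ← mul_assoc ff ff, ff_sq, zero_mul, sub_zero]

theorem sg_comm_z (z : I m → R) :
    ι (hypQ R (m + 1)) (glue 0 0 z) * sg = sg * ι (hypQ R (m + 1)) (glue 0 0 z) := by
  simp only [sg, ee, ff, mul_sub, sub_mul, ← mul_assoc, glue_anticomm]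
  simp only [neg_mul, mul_assoc, glue_anticomm, mul_neg, neg_neg]

/-- The smaller Clifford algebra inside the commutant of the split plane. -/
def thL : (I m → R) →ₗ[R] CliffordAlgebra (hypQ R (m + 1)) where
  toFun z := ι (hypQ R (m + 1)) (glue 0 0 z) * sg
  map_add' z z' := by
    rw [← add_mul, ← map_add, glue_add, add_zero]
  map_smul' a z := by
    rw [RingHom.id_apply, ← smul_mul_assoc, ← map_smul, glue_smul, mul_zero]

theorem thL_sq (z : I m → R) : thL z * thL z = algebraMap R _ (hypQ R m z) := by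
  show ι _ (glue 0 0 z) * sg * (ι _ (glue 0 0 z) * sg) = _
  rw [mul_assoc, ← mul_assoc sg, ← sg_comm_z, mul_assoc _ sg sg, sg_sq, mul_one, ι_sq_scalar, hyp_glue]
  simp

/-- The embedding of the smaller Clifford algebra. -/
def th : CliffordAlgebra (hypQ R m) →ₐ[R] CliffordAlgebra (hypQ R (m + 1)) :=
  lift (hypQ R m) ⟨thL, thL_sq⟩

theorem th_comm (w : CliffordAlgebra (hypQ R m)) : Commute ee (th w) ∧ Commute ff (th w) := by
  induction w using CliffordAlgebra.induction with
  | algebraMap r =>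
    rw [AlgHom.commutes]
    exact ⟨(Algebra.commutes r _).symm, (Algebra.commutes r _).symm⟩
  | ι z =>
    simp only [th, lift_ι_apply, Commute, SemiconjBy]
    show ee * (ι _ (glue 0 0 z) * sg) = ι _ (glue 0 0 z) * sg * ee ∧
      ff * (ι _ (glue 0 0 z) * sg) = ι _ (glue 0 0 z) * sg * ff
    constructor
    · rw [mul_assoc _ sg, sg_mul_ee, ← mul_assoc, ee, ← neg_eq_iff_eq_neg.2 (glue_anticomm z 1 0),
        neg_mul, mul_assoc, ← ee, ee_mul_sg, mul_neg, neg_neg]
    · rw [mul_assoc _ sg, sg_mul_ff, ← mul_assoc, ff, ← neg_eq_iff_eq_neg.2 (glue_anticomm z 0 1),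
        neg_mul, mul_assoc, ← ff, ff_mul_sg, mul_neg]
  | mul a b ha hb => rw [map_mul]; exact ⟨ha.1.mul_right hb.1, ha.2.mul_right hb.2⟩
  | add a b ha hb => rw [map_add]; exact ⟨ha.1.add_right hb.1, ha.2.add_right hb.2⟩

/-- The inverse of `toMat`. -/
def ofMat (M : Matrix Bool Bool (CliffordAlgebra (hypQ R m))) : CliffordAlgebra (hypQ R (m + 1)) :=
  th (M false false) * (ee * ff) + th (M false true) * ee + th (M true false) * ff +
    th (M true true) * (ff * ee)

theorem ι_decomp (x : I (m + 1) → R) : ι (hypQ R (m + 1)) x =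
    th (ι (hypQ R m) (x ∘ emb m)) * sg + x (.inl 0) • ee + x (.inr 0) • ff := by
  rw [th, lift_ι_apply]
  show _ = ι _ (glue 0 0 (x ∘ emb m)) * sg * sg + _ + _
  rw [mul_assoc, sg_sq, mul_one, ee, ff, ← map_smul, ← map_smul, glue_smul, glue_smul, ← map_add,
    ← map_add, glue_add, glue_add]
  simp only [mul_one, mul_zero, smul_zero, add_zero, zero_add]
  rw [glue_self]

theorem ee_th_mul (w : CliffordAlgebra (hypQ R m)) (y : CliffordAlgebra (hypQ R (m + 1))) :
    ee * (th w * y) = th w * (ee * y) := by rw [← mul_assoc, (th_comm w).1.eq, mul_assoc]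

theorem ff_th_mul (w : CliffordAlgebra (hypQ R m)) (y : CliffordAlgebra (hypQ R (m + 1))) :
    ff * (th w * y) = th w * (ff * y) := by rw [← mul_assoc, (th_comm w).2.eq, mul_assoc]

theorem sg_th_mul (w : CliffordAlgebra (hypQ R m)) (y : CliffordAlgebra (hypQ R (m + 1))) :
    sg * (th w * y) = th w * (sg * y) := by
  simp only [sg, sub_mul, mul_assoc, ee_th_mul, ff_th_mul, mul_sub]

theorem ofMat_gen_mul (x : I (m + 1) → R) (M : Matrix Bool Bool (CliffordAlgebra (hypQ R m))) :
    ofMat (gen x * M) = ι (hypQ R (m + 1)) x * ofMat M := by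
  rw [ι_decomp]
  have a1 : sg * (ee * ff) = (ee * ff : CliffordAlgebra (hypQ R (m + 1))) := by
    rw [← mul_assoc, sg_mul_ee]
  have a2 : sg * (ff * ee) = -(ff * ee : CliffordAlgebra (hypQ R (m + 1))) := by
    rw [← mul_assoc, sg_mul_ff, neg_mul]
  have a3 : ee * (ee * ff) = (0 : CliffordAlgebra (hypQ R (m + 1))) := by
    rw [← mul_assoc, ee_sq, zero_mul]
  have a4 : ff * (ff * ee) = (0 : CliffordAlgebra (hypQ R (m + 1))) := by
    rw [← mul_assoc, ff_sq, zero_mul]
  simp only [ofMat, gen, Matrix.mul_apply, Fintype.univ_bool, Finset.mem_singleton, Bool.true_eq_false,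
    not_false_eq_true, Finset.sum_insert, Finset.sum_singleton, Matrix.of_apply, cond_true, cond_false,
    map_add, map_mul, map_neg, AlgHom.commutes, add_mul, mul_add, mul_assoc, smul_mul_assoc,
    ee_th_mul, ff_th_mul, sg_th_mul, a1, a2, a3, a4, sg_mul_ee, sg_mul_ff, ee_sq, ff_sq, ee_ff_ee,
    ff_ee_ff, Algebra.smul_def, neg_mul, mul_neg, mul_zero]
  abel

theorem ofMat_toMat (w : CliffordAlgebra (hypQ R (m + 1))) : ofMat (toMat w) = w := by
  induction w using CliffordAlgebra.left_induction with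
  | algebraMap r =>
    simp only [AlgHom.commutes, ofMat, Matrix.algebraMap_matrix_apply, ↓reduceIte, Bool.false_eq_true,
      Bool.true_eq_false, map_zero, zero_mul, add_zero, ← mul_add, ee_ff, mul_one]
  | add a b ha hb =>
    conv_rhs => rw [← ha, ← hb]
    simp only [map_add, ofMat, Matrix.add_apply, add_mul]
    abel
  | ι_mul a x ha => rw [map_mul, toMat_ι, ofMat_gen_mul, ha]

theorem toMat_th (w : CliffordAlgebra (hypQ R m)) :
    toMat (th w) = Matrix.scalar Bool w := by
  have h1 : toMat (ee : CliffordAlgebra (hypQ R (m + 1))) = Matrix.single false true 1 := by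
    rw [ee, toMat_ι]; ext i j
    cases i <;> cases j <;> simp [gen, glue_emb]
  have h2 : toMat (ff : CliffordAlgebra (hypQ R (m + 1))) = Matrix.single true false 1 := by
    rw [ff, toMat_ι]; ext i j
    cases i <;> cases j <;> simp [gen, glue_emb]
  induction w using CliffordAlgebra.induction with
  | algebraMap r => rw [AlgHom.commutes, AlgHom.commutes]; rfl
  | ι z =>
    rw [th, lift_ι_apply]
    show toMat (ι _ (glue 0 0 z) * (ee * ff - ff * ee)) = _
    rw [map_mul, map_sub, map_mul, map_mul, h1, h2, toMat_ι]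
    ext i j
    cases i <;> cases j <;>
      simp [gen, glue_emb, Matrix.mul_apply, Matrix.single_mul_single_same]
  | mul a b ha hb => rw [map_mul, map_mul, ha, hb, map_mul]
  | add a b ha hb => rw [map_add, map_add, ha, hb, map_add]

theorem toMat_ofMat (M : Matrix Bool Bool (CliffordAlgebra (hypQ R m))) : toMat (ofMat M) = M := by
  have h1 : toMat (ee : CliffordAlgebra (hypQ R (m + 1))) = Matrix.single false true 1 := by
    rw [ee, toMat_ι]; ext i j
    cases i <;> cases j <;> simp [gen, glue_emb]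
  have h2 : toMat (ff : CliffordAlgebra (hypQ R (m + 1))) = Matrix.single true false 1 := by
    rw [ff, toMat_ι]; ext i j
    cases i <;> cases j <;> simp [gen, glue_emb]
  simp only [ofMat, map_add, map_mul, toMat_th, h1, h2]
  ext i j
  cases i <;> cases j <;> simp [Matrix.mul_apply, Matrix.single]

/-- The step isomorphism. -/
noncomputable def stepEquiv : CliffordAlgebra (hypQ R (m + 1)) ≃ₐ[R]
    Matrix Bool Bool (CliffordAlgebra (hypQ R m)) :=
  AlgEquiv.ofBijective toMat
    ⟨Function.LeftInverse.injective ofMat_toMat, Function.RightInverse.surjective toMat_ofMat⟩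

/-- Parity of an index. -/
def par : ∀ {m : ℕ}, (Fin m → Bool) → Bool
  | 0, _ => false
  | _ + 1, s => xor (s 0) (par (Fin.tail s))

/-- A matrix exchanging the two parities. -/
def Flip {R : Type*} [Zero R] {P : Type*} (p : P → Bool) (M : Matrix P P R) : Prop :=
  ∀ s t, p s = p t → M s t = 0

/-- A matrix preserving the two parities. -/
def Pres {R : Type*} [Zero R] {P : Type*} (p : P → Bool) (M : Matrix P P R) : Prop :=
  ∀ s t, p s ≠ p t → M s t = 0

theorem exists_equiv_matrix (R : Type u) [CommRing R] (m : ℕ) :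
    ∃ Φ : CliffordAlgebra (hypQ R m) ≃ₐ[R] Matrix (Fin m → Bool) (Fin m → Bool) R,
      ∀ x, Flip par (Φ (ι (hypQ R m) x)) := by
  induction m with
  | zero =>
    have hι : ∀ x, ι (hypQ R 0) x = 0 := fun x => by
      rw [Subsingleton.elim x 0, map_zero]
    have hsur : Function.Surjective (algebraMap R (CliffordAlgebra (hypQ R 0))) := fun w => by
      induction w using CliffordAlgebra.induction with
      | algebraMap r => exact ⟨r, rfl⟩
      | ι z => exact ⟨0, by rw [hι, map_zero]⟩
      | mul a b ha hb => obtain ⟨r, rfl⟩ := ha; obtain ⟨s, rfl⟩ := hb; exact ⟨r * s, map_mul _ _ _⟩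
      | add a b ha hb => obtain ⟨r, rfl⟩ := ha; obtain ⟨s, rfl⟩ := hb; exact ⟨r + s, map_add _ _ _⟩
    let f : CliffordAlgebra (hypQ R 0) →ₐ[R] R :=
      lift (hypQ R 0) ⟨0, fun x => by simp [hyp]⟩
    let e₁ : CliffordAlgebra (hypQ R 0) ≃ₐ[R] R := AlgEquiv.ofBijective f
      ⟨fun a b hab => by
        obtain ⟨r, rfl⟩ := hsur a
        obtain ⟨s, rfl⟩ := hsur b
        rw [AlgHom.commutes, AlgHom.commutes] at hab
        exact congrArg _ hab,
      fun r => ⟨algebraMap R _ r, f.commutes r⟩⟩
    let e₂ : R ≃ₐ[R] Matrix (Fin 0 → Bool) (Fin 0 → Bool) R :=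
      AlgEquiv.ofBijective (Algebra.ofId R _)
        ⟨fun a b hab => by
          simpa [Algebra.ofId_apply, Matrix.algebraMap_matrix_apply] using
            congrFun (congrFun hab Fin.elim0) Fin.elim0,
        fun M => ⟨M Fin.elim0 Fin.elim0, by
          ext s t
          rw [Subsingleton.elim s Fin.elim0, Subsingleton.elim t Fin.elim0]
          simp [Algebra.ofId_apply, Matrix.algebraMap_matrix_apply]⟩⟩
    refine ⟨e₁.trans e₂, fun x s t _ => ?_⟩
    rw [hι, map_zero]; rfl
  | succ m ih =>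
    obtain ⟨Φ, hΦ⟩ := ih
    let c : Bool × (Fin m → Bool) ≃ (Fin (m + 1) → Bool) := Fin.consEquiv fun _ => Bool
    refine ⟨stepEquiv.trans (((AlgEquiv.mapMatrix Φ).trans (Matrix.compAlgEquiv _ _ R R)).trans
      (Matrix.reindexAlgEquiv R R c)), fun x s t hst => ?_⟩
    obtain ⟨⟨i, s'⟩, rfl⟩ := c.surjective s
    obtain ⟨⟨j, t'⟩, rfl⟩ := c.surjective t
    have hp : ∀ b u, par (c (b, u)) = xor b (par u) := fun b u => by
      show xor ((Fin.cons b u : Fin (m + 1) → Bool) 0) (par (Fin.tail (Fin.cons b u : Fin (m + 1) → Bool))) = _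
      rw [Fin.cons_zero, Fin.tail_cons]
    rw [hp, hp] at hst
    show Φ (toMat (ι _ x) (c.symm (c (i, s'))).1 (c.symm (c (j, t'))).1)
      (c.symm (c (i, s'))).2 (c.symm (c (j, t'))).2 = 0
    rw [toMat_ι, Equiv.symm_apply_apply, Equiv.symm_apply_apply]
    have hne : ∀ r : R, par s' ≠ par t' → Φ (algebraMap R _ r) s' t' = 0 := fun r h => by
      rw [AlgEquiv.commutes, Matrix.algebraMap_matrix_apply, if_neg (fun h' => h (congrArg par h'))]
    cases i <;> cases j <;> simp only [gen, Matrix.of_apply, cond_true, cond_false]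
    · exact hΦ _ _ _ (by simpa using hst)
    · exact hne _ (by simp_all)
    · exact hne _ (by simp_all)
    · rw [map_neg, Matrix.neg_apply, hΦ _ _ _ (by simpa using hst), neg_zero]

theorem card_par (m : ℕ) (b : Bool) :
    Fintype.card {s : Fin (m + 1) → Bool // par s = b} = 2 ^ m := by
  let e : {s : Fin (m + 1) → Bool // par s = b} ≃ (Fin m → Bool) :=
    { toFun := fun s => Fin.tail s.1
      invFun := fun u => ⟨Fin.cons (xor b (par u)) u, by simp [par, Bool.xor_assoc]⟩
      left_inv := fun s => by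
        obtain ⟨s, hs⟩ := s
        refine Subtype.ext ?_
        show Fin.cons (xor b (par (Fin.tail s))) (Fin.tail s) = s
        rw [show xor b (par (Fin.tail s)) = s 0 by rw [← hs]; simp [par, Bool.xor_assoc], Fin.cons_self_tail]
      right_inv := fun u => Fin.tail_cons _ _ }
  simp [Fintype.card_congr e]

end QSplit86
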