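import Groth.Agent.QSplit86.Basic
import Groth.Agent.S17014

/-!
# Flat-local splitting of quadratic forms of odd rank

`Good φ a`: at the geometric point `φ` the form has no non-zero vector which is isotropic and in the
kernel of the polar form.  This is shown to be equivalent to the non-vanishing of the half-discriminant.
-/

set_option autoImplicit false
universe u v

namespace QSplit86

open Matrix

variable {ι : Type*} [Fintype ι]

theorem qf_congr_map {A B : Type*} [CommRing A] [CommRing B] (f : A →+* B) (a b : Matrix ι ι A)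
    (h : ∀ x, qf a x = qf b x) (y : ι → B) : qf (a.map f) y = qf (b.map f) y := by
  classical
  have hd : ∀ i, a i i = b i i := fun i => by simpa [qf] using h (Pi.single i 1)
  have ho : ∀ i j, a i j + a j i = b i j + b j i := fun i j => by
    have := h (Pi.single i 1 + Pi.single j 1)
    rw [qf_add, qf_add, h, h, add_right_inj] at this
    simpa [bl] using this
  rw [← sub_eq_zero]
  simp only [qf, dotProduct, Matrix.mulVec, Finset.mul_sum, ← Finset.sum_sub_distrib, Matrix.map_apply]
  rw [← Fintype.sum_prod_type']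
  refine Finset.sum_involution (fun p _ => p.swap) ?_ ?_ (fun p _ => Finset.mem_univ _)
    (fun p _ => p.swap_swap)
  · rintro ⟨i, j⟩ _
    have := congrArg f (ho i j)
    simp only [map_add] at this
    simp only [Prod.swap_prod_mk]
    linear_combination (y i * y j) * this
  · rintro ⟨i, j⟩ _ hne he
    obtain rfl : j = i := congrArg Prod.fst he
    exact absurd (by rw [hd]; ring) hne

/-- Non-degeneracy at a geometric point. -/
def Good {A K : Type*} [CommRing A] [CommRing K] (φ : A →+* K) (a : Matrix ι ι A) : Prop :=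
  ∀ v : ι → K, (∀ w, bl (a.map φ) v w = 0) → qf (a.map φ) v = 0 → v = 0

theorem forall_bl_eq_zero [DecidableEq ι] {K : Type*} [CommRing K] (b : Matrix ι ι K) (v : ι → K)
    (h : ∀ i, bl b v (Pi.single i 1) = 0) (w : ι → K) : bl b v w = 0 := by
  have : v ᵥ* (b + bᵀ) = 0 := funext fun i => by
    rw [Pi.zero_apply, ← h i, bl, Matrix.dotProduct_mulVec]; simp
  rw [bl, Matrix.dotProduct_mulVec, this, zero_dotProduct]

theorem bl_mulVec_single [DecidableEq ι] {κ : Type*} [Fintype κ] [DecidableEq κ] {K : Type*} [CommRing K]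
    (b : Matrix ι ι K) (h : Matrix ι κ K) (w : ι → K) (r : κ) :
    bl b w (h *ᵥ Pi.single r 1) = (hᵀ *ᵥ ((b + bᵀ) *ᵥ w)) r := by
  rw [bl_comm, bl, Matrix.mulVec_single_one, Matrix.mulVec, Matrix.col_def]

variable {A : Type u} [CommRing A] {K : Type u} [Field K] [IsAlgClosed K]

/-- A regular hyperplane section with a constant matrix. -/
theorem exists_hyperplane {m : ℕ} (φ : A →+* K) (a : Matrix (Fin (2 * m + 1)) (Fin (2 * m + 1)) A)
    (hg : Good φ a) :
    ∃ h : Matrix (Fin (2 * m + 1)) (I m) A, φ (hᵀ * (a + aᵀ) * h).det ≠ 0 := by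
  classical
  set b := a.map φ with hb
  have key : ∀ h : Matrix (Fin (2 * m + 1)) (I m) A,
      (∀ z, (∀ r, bl b ((h.map φ) *ᵥ z) ((h.map φ) *ᵥ Pi.single r 1) = 0) → z = 0) →
      φ (hᵀ * (a + aᵀ) * h).det ≠ 0 := by
    intro h hz hdet
    rw [RingHom.map_det, RingHom.mapMatrix_apply, Matrix.map_mul, Matrix.map_mul,
      Matrix.map_add φ (map_add φ), Matrix.transpose_map, Matrix.transpose_map] at hdet
    obtain ⟨z, hz0, hz'⟩ := Matrix.exists_mulVec_eq_zero_iff.2 hdet
    refine hz0 (hz z fun r => ?_)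
    rw [bl_mulVec_single, Matrix.mulVec_mulVec, Matrix.mulVec_mulVec, hb]
    exact congrFun hz' r
  have he : ∀ i : Fin (2 * m + 1), ∃ e : I m ≃ {r // r ≠ i}, True := fun i =>
    ⟨Fintype.equivOfCardEq (by simp [Fintype.card_subtype_compl]; omega), trivial⟩
  by_cases hker : ∃ v : Fin (2 * m + 1) → K, v ≠ 0 ∧ ∀ w, bl b v w = 0
  · obtain ⟨v, hv, hvk⟩ := hker
    obtain ⟨i, hi⟩ := Function.ne_iff.1 hv
    obtain ⟨e, -⟩ := he i
    refine ⟨Matrix.of fun r k => if r = (e k).1 then 1 else 0, key _ fun z hz => ?_⟩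
    set h := (Matrix.of fun r k => if r = (e k).1 then (1 : A) else 0).map φ with hh
    have hcol : ∀ k, h *ᵥ Pi.single k 1 = Pi.single (e k).1 1 := fun k => by
      funext r; simp [hh, Pi.single_apply, apply_ite φ]
    have hwi : (h *ᵥ z) i = 0 := by
      simp [hh, Matrix.mulVec, dotProduct, apply_ite φ, fun k => (e k).2.symm]
    have hwe : ∀ k, (h *ᵥ z) (e k).1 = z k := fun k => by
      simp [hh, Matrix.mulVec, dotProduct, apply_ite φ, Subtype.val_injective.eq_iff, eq_comm (a := e k)]
    have hPw : ∀ r, r ≠ i → bl b (h *ᵥ z) (Pi.single r 1) = 0 := fun r hr => by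
      obtain ⟨k, hk⟩ := e.surjective ⟨r, hr⟩
      have := hz k
      rw [hcol, hk] at this
      exact this
    have hPi : bl b (h *ᵥ z) (Pi.single i 1) = 0 := by
      have h1 : bl b (h *ᵥ z) v = ∑ r, v r * bl b (h *ᵥ z) (Pi.single r 1) := by
        simp only [bl, Matrix.mulVec_single_one]
        rw [Matrix.dotProduct_mulVec]
        simp [dotProduct, mul_comm, Matrix.vecMul]
      rw [bl_comm, hvk, Finset.sum_eq_single i (fun r _ hr => by rw [hPw r hr, mul_zero])
        (fun h => absurd (Finset.mem_univ i) h)] at h1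
      exact (mul_eq_zero.1 h1.symm).resolve_left hi
    have hPw' : ∀ w, bl b (h *ᵥ z) w = 0 := forall_bl_eq_zero _ _ fun r => by
      rcases eq_or_ne r i with rfl | hr
      · exact hPi
      · exact hPw r hr
    have hqv : qf b v ≠ 0 := fun h0 => hv (hg v hvk h0)
    obtain ⟨t, ht⟩ := IsAlgClosed.exists_pow_nat_eq (-(qf b (h *ᵥ z)) / qf b v) (n := 2) two_pos
    have h0 : h *ᵥ z + t • v = 0 := hg _ (fun w => by
        show bl b _ w = 0
        rw [bl_add_left, bl_smul_left, hPw', hvk, mul_zero, add_zero]) (by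
      show qf b _ = 0
      rw [qf_add, qf_smul, bl_smul_right, hPw', mul_zero, add_zero, ht, div_mul_cancel₀ _ hqv, add_neg_cancel])
    have ht0 : t = 0 := by
      have := congrFun h0 i
      simp only [Pi.add_apply, hwi, zero_add, Pi.smul_apply, smul_eq_mul, Pi.zero_apply] at this
      exact (mul_eq_zero.1 this).resolve_right hi
    rw [ht0, zero_smul, add_zero] at h0
    funext k
    rw [← hwe k, h0]; rfl
  · push Not at hker
    obtain ⟨x, hx⟩ : ∃ x : Fin (2 * m + 1) → A, (2 : K) * qf b (φ ∘ x) ≠ 0 := by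
      by_contra h0
      push Not at h0
      have hdet : (b + bᵀ).det = 0 := by
        have he' : ∀ i, ⇑φ ∘ (Pi.single i 1 : Fin (2 * m + 1) → A) = Pi.single i 1 := fun i => by
          funext r; simp [Pi.single_apply, apply_ite φ]
        have hd : ∀ i, (2 : K) * qf b (Pi.single i 1) = 0 := fun i => by rw [← he']; exact h0 _
        by_cases h2 : (2 : K) = 0
        · refine Groth.Agent.QuadCentre.det_eq_zero_of_symm_zero_diag h2 ⟨m, rfl⟩ _ ?_ ?_
          · intro i j; simp [add_comm]
          · intro i; simp [← two_mul, h2]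
        · refine Matrix.det_eq_zero_of_row_eq_zero 0 fun j => ?_
          have hq : ∀ v : Fin (2 * m + 1) → A, qf b (φ ∘ v) = 0 := fun v =>
            (mul_eq_zero.1 (h0 v)).resolve_left h2
          have := hq (Pi.single 0 1 + Pi.single j 1)
          rw [show ⇑φ ∘ (Pi.single 0 1 + Pi.single j 1 : Fin (2 * m + 1) → A) =
            Pi.single 0 1 + Pi.single j 1 by rw [← he', ← he']; funext r; simp, qf_add,
            ← he', ← he', hq, hq, zero_add, zero_add, he', he'] at this
          simpa [bl] using this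
      obtain ⟨v, hv, hv'⟩ := Matrix.exists_mulVec_eq_zero_iff.2 hdet
      exact hv (by
        by_contra hv0
        obtain ⟨w, hw⟩ := hker v hv0
        exact hw (by rw [bl_comm, bl, hv', dotProduct_zero]))
    set y := ⇑φ ∘ x with hy
    obtain ⟨i, hi⟩ : ∃ i, y i ≠ 0 := by
      by_contra h0
      push Not at h0
      exact hx (by simp [show y = 0 from funext h0, qf])
    obtain ⟨e, -⟩ := he i
    refine ⟨Matrix.of fun r k => 2 * qf a x * (if r = (e k).1 then 1 else 0) -
      bl a x (Pi.single (e k).1 1) * x r, key _ fun z hz => ?_⟩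
    set h := (Matrix.of fun r k => 2 * qf a x * (if r = (e k).1 then 1 else 0) -
      bl a x (Pi.single (e k).1 1) * x r).map φ with hh
    have hqq : φ (qf a x) = qf b y := map_qf φ a x
    have hbb : ∀ k, φ (bl a x (Pi.single (e k).1 1)) = bl b y (Pi.single (e k).1 1) := fun k => by
      rw [map_bl]
      congr 1
      funext r; simp [Pi.single_apply, apply_ite φ]
    have hcol : ∀ k, h *ᵥ Pi.single k 1 =
        (2 * qf b y) • Pi.single (e k).1 1 - bl b y (Pi.single (e k).1 1) • y := fun k => by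
      funext r
      simp [hh, Pi.single_apply, apply_ite φ, hqq, hbb, hy, map_ofNat]
    have hyh : ∀ k, bl b y (h *ᵥ Pi.single k 1) = 0 := fun k => by
      rw [hcol, bl_sub_right, bl_smul_right, bl_smul_right, bl_self]; ring
    have hwy : bl b (h *ᵥ z) y = 0 := by
      rw [bl_comm, pi_eq_sum_univ' z, Matrix.mulVec_sum, bl, Matrix.mulVec_sum, dotProduct_sum]
      refine Finset.sum_eq_zero fun k _ => ?_
      rw [Matrix.mulVec_smul, Matrix.mulVec_smul, dotProduct_smul]
      show z k • bl b y (h *ᵥ Pi.single k 1) = 0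
      rw [hyh, smul_zero]
    have hPw : ∀ r, r ≠ i → bl b (h *ᵥ z) (Pi.single r 1) = 0 := fun r hr => by
      obtain ⟨k, hk⟩ := e.surjective ⟨r, hr⟩
      have := hz k
      rw [hcol, hk, bl_sub_right, bl_smul_right, bl_smul_right, hwy, mul_zero, sub_zero] at this
      exact (mul_eq_zero.1 this).resolve_left hx
    have hw0 : h *ᵥ z = 0 := by
      by_contra hw
      obtain ⟨u, hu⟩ := hker _ hw
      refine hu (forall_bl_eq_zero _ _ (fun r => ?_) u)
      rcases eq_or_ne r i with rfl | hr
      · have h1 : bl b (h *ᵥ z) y = ∑ r, y r * bl b (h *ᵥ z) (Pi.single r 1) := by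
          simp only [bl, Matrix.mulVec_single_one]
          rw [Matrix.dotProduct_mulVec]
          simp [dotProduct, mul_comm, Matrix.vecMul]
        rw [hwy, Finset.sum_eq_single r (fun s _ hs => by rw [hPw s hs, mul_zero])
          (fun h => absurd (Finset.mem_univ r) h)] at h1
        exact (mul_eq_zero.1 h1.symm).resolve_left hi
      · exact hPw r hr
    have hexp : ∀ r, (h *ᵥ z) r = (2 * qf b y) * (∑ k, if r = (e k).1 then z k else 0) -
        (∑ k, bl b y (Pi.single (e k).1 1) * z k) * y r := fun r => by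
      conv_lhs => rw [pi_eq_sum_univ' z, Matrix.mulVec_sum]
      simp only [Matrix.mulVec_smul, hcol, Finset.sum_apply, Pi.smul_apply, Pi.sub_apply, smul_eq_mul,
        Pi.single_apply, Finset.mul_sum, Finset.sum_mul, ← Finset.sum_sub_distrib]
      refine Finset.sum_congr rfl fun k _ => ?_
      split_ifs <;> ring
    have hS : (∑ k, bl b y (Pi.single (e k).1 1) * z k) = 0 := by
      have := hexp i
      rw [hw0, Finset.sum_eq_zero (fun k _ => if_neg (e k).2.symm)] at this
      simpa [hi] using this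
    funext k
    have := hexp (e k).1
    rw [hw0, hS, Finset.sum_eq_single k (fun l _ hl => if_neg fun h' => hl (e.injective (Subtype.ext h'.symm)))
      (fun h => absurd (Finset.mem_univ k) h), if_pos rfl] at this
    simpa [hx] using this

/-- A regular hyperplane and its orthogonal line, after a localisation. -/
theorem exists_reduce {m : ℕ} (φ : A →+* K) (a : Matrix (Fin (2 * m + 1)) (Fin (2 * m + 1)) A)
    (hg : Good φ a) :
    ∃ (s : A) (ψ : Localization.Away s →+* K) (v : Fin (2 * m + 1) → Localization.Away s)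
      (H : Matrix (Fin (2 * m + 1)) (I m) (Localization.Away s)),
      ψ.comp (algebraMap A (Localization.Away s)) = φ ∧
      IsUnit (Hᵀ * ((a.map (algebraMap A (Localization.Away s))) +
        (a.map (algebraMap A (Localization.Away s)))ᵀ) * H).det ∧
      Hᵀ *ᵥ (((a.map (algebraMap A (Localization.Away s))) +
        (a.map (algebraMap A (Localization.Away s)))ᵀ) *ᵥ v) = 0 ∧
      IsUnit (qf (a.map (algebraMap A (Localization.Away s))) v) ∧
      ∀ y, ∃ (c : Localization.Away s) (z : I m → Localization.Away s), c • v + H *ᵥ z = y := by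
  classical
  obtain ⟨h, hd⟩ := exists_hyperplane φ a hg
  set P := a + aᵀ with hP
  set d := (hᵀ * P * h).det with hdd
  set hK := h.map φ with hhK
  obtain ⟨i, hi⟩ : ∃ i, (Pi.single i 1 : Fin (2 * m + 1) → K) ∉ LinearMap.range hK.mulVecLin := by
    by_contra h0
    push Not at h0
    have htop : LinearMap.range hK.mulVecLin = ⊤ := by
      rw [eq_top_iff]
      intro x _
      rw [pi_eq_sum_univ' x]
      exact Submodule.sum_mem _ fun j _ => Submodule.smul_mem _ _ (h0 j)
    have := LinearMap.finrank_range_le hK.mulVecLin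
    rw [htop, finrank_top, Module.finrank_fintype_fun_eq_card, Module.finrank_fintype_fun_eq_card] at this
    simp at this
    omega
  let v₀ : Fin (2 * m + 1) → A :=
    d • Pi.single i 1 - h *ᵥ ((hᵀ * P * h).adjugate *ᵥ (hᵀ *ᵥ (P *ᵥ Pi.single i 1)))
  have horth : hᵀ *ᵥ (P *ᵥ v₀) = 0 := by
    simp only [v₀, Matrix.mulVec_sub, Matrix.mulVec_smul]
    rw [Matrix.mulVec_mulVec, Matrix.mulVec_mulVec, Matrix.mulVec_mulVec (M := hᵀ * P) (N := h), Matrix.mulVec_mulVec (M := hᵀ * P * h), Matrix.mul_adjugate, smul_mulVec, Matrix.one_mulVec, sub_self]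
  let e : Fin (2 * m + 1) ≃ Option (I m) := Fintype.equivOfCardEq (by simp; omega)
  let G : Matrix (Fin (2 * m + 1)) (Fin (2 * m + 1)) A :=
    Matrix.of fun r k => (e k).elim (v₀ r) (fun j => h r j)
  have hGx : ∀ (S : Type u) [CommRing S] (f : A →+* S) (x : Fin (2 * m + 1) → S),
      G.map f *ᵥ x = x (e.symm none) • (f ∘ v₀) + h.map f *ᵥ (fun j => x (e.symm (some j))) := by
    intro S _ f x
    funext r
    simp only [Matrix.mulVec, dotProduct, Matrix.map_apply, G, Matrix.of_apply, Pi.add_apply,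
      Pi.smul_apply, Function.comp_apply, smul_eq_mul]
    rw [← e.symm.sum_comp, Fintype.sum_option]
    simp [mul_comm]
  have hv0 : ∀ (t : K) (z : I m → K), t • (φ ∘ v₀) + hK *ᵥ z = 0 → t = 0 ∧ z = 0 := by
    intro t z h0
    have hP' : ((hᵀ * P * h).map φ) *ᵥ z = 0 := by
      have h1 := congrArg (fun w => hKᵀ *ᵥ (P.map φ *ᵥ w)) h0
      simp only [Matrix.mulVec_add, Matrix.mulVec_smul, Matrix.mulVec_zero] at h1
      have h2 : hKᵀ *ᵥ (P.map φ *ᵥ (φ ∘ v₀)) = 0 := by
        funext r
        rw [show P.map φ *ᵥ (φ ∘ v₀) = φ ∘ (P *ᵥ v₀) from funext fun r => (RingHom.map_mulVec φ _ _ r).symm,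
          hhK, ← Matrix.transpose_map, ← RingHom.map_mulVec, horth]
        simp
      rw [h2, smul_zero, zero_add, Matrix.mulVec_mulVec, Matrix.mulVec_mulVec] at h1
      rw [Matrix.map_mul, Matrix.map_mul, Matrix.transpose_map]
      exact h1
    have hz : z = 0 := by
      by_contra hz
      refine hd ?_
      rw [hdd, RingHom.map_det]
      exact Matrix.exists_mulVec_eq_zero_iff.1 ⟨z, hz, hP'⟩
    refine ⟨?_, hz⟩
    rw [hz, Matrix.mulVec_zero, add_zero, smul_eq_zero] at h0
    refine h0.resolve_right fun hv => hi ⟨?_, ?_⟩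
    · exact (φ d)⁻¹ • (φ ∘ ((hᵀ * P * h).adjugate *ᵥ (hᵀ *ᵥ (P *ᵥ Pi.single i 1))))
    · rw [LinearMap.map_smul, Matrix.mulVecLin_apply]
      have : hK *ᵥ (φ ∘ ((hᵀ * P * h).adjugate *ᵥ (hᵀ *ᵥ (P *ᵥ Pi.single i 1)))) = φ d • Pi.single i 1 := by
        funext r
        have := congrFun hv r
        simp only [v₀, Function.comp_apply, Pi.sub_apply, Pi.smul_apply, smul_eq_mul, map_sub, map_mul,
          Pi.zero_apply, sub_eq_zero] at this
        rw [hhK, ← RingHom.map_mulVec, ← this, Pi.smul_apply, smul_eq_mul]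
        simp [Pi.single_apply, apply_ite φ]
      rw [this, smul_smul, inv_mul_cancel₀ hd, one_smul]
  have hD : φ G.det ≠ 0 := by
    intro h0
    rw [RingHom.map_det] at h0
    obtain ⟨x, hx, hx'⟩ := Matrix.exists_mulVec_eq_zero_iff.2 h0
    rw [RingHom.mapMatrix_apply, hGx K φ] at hx'
    obtain ⟨h1, h2⟩ := hv0 _ _ hx'
    refine hx (funext fun k => ?_)
    obtain ⟨o, rfl⟩ := e.symm.surjective k
    cases o with
    | none => exact h1
    | some j => exact congrFun h2 j
  have hc : φ (qf a v₀) ≠ 0 := by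
    intro h0
    have hv : φ ∘ v₀ = 0 := by
      refine hg _ (fun w => ?_) (by rw [← map_qf, h0])
      obtain ⟨x, rfl⟩ := Matrix.mulVec_surjective_iff_isUnit.2
        ((Matrix.isUnit_iff_isUnit_det (G.map φ)).2 (by
          rw [← RingHom.mapMatrix_apply, ← RingHom.map_det]; exact isUnit_iff_ne_zero.2 hD)) w
      rw [hGx K φ, bl_add_right, bl_smul_right, bl_self, ← map_qf, h0, mul_zero, mul_zero, zero_add,
        bl_comm, bl, Matrix.transpose_map.symm, ← Matrix.map_add φ (map_add φ), ← Matrix.vecMul_transpose,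
        ← Matrix.dotProduct_mulVec]
      rw [show P.map φ *ᵥ (φ ∘ v₀) = φ ∘ (P *ᵥ v₀) from funext fun r => (RingHom.map_mulVec φ _ _ r).symm]
      rw [show (h.map φ)ᵀ *ᵥ (φ ∘ (P *ᵥ v₀)) = φ ∘ (hᵀ *ᵥ (P *ᵥ v₀)) from funext fun r => by
        rw [← Matrix.transpose_map]; exact (RingHom.map_mulVec φ _ _ r).symm, horth]
      simp [dotProduct]
    have := (hv0 1 0 (by rw [hv, smul_zero, Matrix.mulVec_zero, add_zero])).1
    exact one_ne_zero this
  let s := d * qf a v₀ * G.det
  have hs : IsUnit (φ s) := isUnit_iff_ne_zero.2 (by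
    rw [map_mul, map_mul]; exact mul_ne_zero (mul_ne_zero hd hc) hD)
  let al := algebraMap A (Localization.Away s)
  have hsu : IsUnit (al d * al (qf a v₀) * al G.det) := by
    rw [← map_mul, ← map_mul]; exact IsLocalization.Away.algebraMap_isUnit s
  obtain ⟨hdc, hDu⟩ := IsUnit.mul_iff.1 hsu
  obtain ⟨hdu, hcu⟩ := IsUnit.mul_iff.1 hdc
  refine ⟨s, IsLocalization.Away.lift s hs, al ∘ v₀, h.map al, IsLocalization.Away.lift_comp s hs,
    ?_, ?_, ?_, ?_⟩
  · rw [← Matrix.transpose_map, ← Matrix.transpose_map, ← Matrix.map_add al (map_add al), ← Matrix.map_mul,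
      ← Matrix.map_mul, ← RingHom.mapMatrix_apply, ← RingHom.map_det]
    exact hdu
  · rw [← Matrix.transpose_map, ← Matrix.transpose_map, ← Matrix.map_add al (map_add al),
      show P.map al *ᵥ (al ∘ v₀) = al ∘ (P *ᵥ v₀) from funext fun r => (RingHom.map_mulVec al _ _ r).symm]
    funext r
    rw [← RingHom.map_mulVec, horth]
    simp
  · rw [← map_qf]; exact hcu
  · intro y
    obtain ⟨x, hx⟩ := Matrix.mulVec_surjective_iff_isUnit.2
      ((Matrix.isUnit_iff_isUnit_det (G.map al)).2 (by
        rw [← RingHom.mapMatrix_apply, ← RingHom.map_det]; exact hDu)) y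
    exact ⟨_, _, (hGx _ al x).symm.trans hx⟩

/-- Flat-local splitting of an odd form through a good geometric point. -/
theorem split_odd {m : ℕ} (φ : A →+* K) (a : Matrix (Fin (2 * m + 1)) (Fin (2 * m + 1)) A)
    (hg : Good φ a) :
    ∃ (B : Type u) (_ : CommRing B) (_ : Algebra A B) (ψ : B →+* K) (v : Fin (2 * m + 1) → B)
      (H : Matrix (Fin (2 * m + 1)) (I m) B),
      Module.Flat A B ∧ Algebra.FinitePresentation A B ∧ ψ.comp (algebraMap A B) = φ ∧
      (∀ y, ∃ (c : B) (z : I m → B), c • v + H *ᵥ z = y) ∧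
      ∀ (c : B) (z : I m → B), qf (a.map (algebraMap A B)) (c • v + H *ᵥ z) = c ^ 2 + hyp z := by
  classical
  obtain ⟨s, ψ₁, v, H, hψ₁, hP', horth, hc, hsurj⟩ := exists_reduce φ a hg
  set a₁ := a.map (algebraMap A (Localization.Away s)) with ha₁
  set a' := Hᵀ * a₁ * H with ha'
  have ha'u : IsUnit (a' + a'ᵀ).det := by
    rw [ha', Matrix.transpose_mul, Matrix.transpose_mul, Matrix.transpose_transpose,
      show Hᵀ * a₁ * H + Hᵀ * (a₁ᵀ * H) = Hᵀ * (a₁ + a₁ᵀ) * H by
        rw [Matrix.mul_add, Matrix.add_mul, Matrix.mul_assoc Hᵀ a₁ᵀ H]]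
    exact hP'
  obtain ⟨B, _, _, ψ₂, g, het, hψ₂, hg', hform⟩ := split m a' ha'u ψ₁
  let be := algebraMap (Localization.Away s) B
  let c₀ : B := be (qf a₁ v)
  let p : Polynomial B := Polynomial.X ^ 2 - Polynomial.C c₀
  have hp : p.Monic := Polynomial.monic_X_pow_sub_C _ two_ne_zero
  let C := AdjoinRoot p
  let bc : B →+* C := algebraMap B C
  obtain ⟨t, ht⟩ := IsAlgClosed.exists_pow_nat_eq (ψ₂ c₀) (n := 2) two_pos
  let ψ₃ : C →+* K := AdjoinRoot.lift ψ₂ t (by simp [p, ht])
  haveI : IsScalarTower (Localization.Away s) B C := inferInstance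
  letI : Algebra A C := ((bc.comp be).comp (algebraMap A (Localization.Away s))).toAlgebra
  haveI : IsScalarTower A (Localization.Away s) C := IsScalarTower.of_algebraMap_eq' rfl
  haveI : Module.Free B C := Polynomial.Monic.free_adjoinRoot hp
  haveI : Module.Finite B C := Polynomial.Monic.finite_adjoinRoot hp
  haveI : Algebra.FinitePresentation B C := inferInstance
  haveI := het
  haveI : Module.Flat (Localization.Away s) C := Module.Flat.trans (Localization.Away s) B C
  haveI : Algebra.FinitePresentation (Localization.Away s) C :=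
    Algebra.FinitePresentation.trans (Localization.Away s) B C
  haveI : Algebra.Etale A (Localization.Away s) := Algebra.Etale.of_isLocalizationAway s
  let r : C := AdjoinRoot.root p
  have hr : r ^ 2 = bc c₀ := by
    have h := AdjoinRoot.eval₂_root p
    simp [p, sub_eq_zero] at h
    exact h
  have hru : IsUnit r := (isUnit_pow_iff two_ne_zero).1 (hr ▸ (hc.map be).map bc)
  let al := bc.comp be
  set a₂ := a.map (algebraMap A C) with ha₂
  have ha₁₂ : a₁.map al = a₂ := by rw [ha₁, Matrix.map_map]; rfl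
  let gC := g.map bc
  refine ⟨C, inferInstance, inferInstance, ψ₃, (↑hru.unit⁻¹ : C) • (al ∘ v), H.map al * gC,
    Module.Flat.trans A (Localization.Away s) C,
    Algebra.FinitePresentation.trans A (Localization.Away s) C, ?_, ?_, ?_⟩
  · show ψ₃.comp ((bc.comp be).comp (algebraMap A (Localization.Away s))) = φ
    rw [← RingHom.comp_assoc, ← RingHom.comp_assoc,
      show ψ₃.comp bc = ψ₂ from RingHom.ext fun x => AdjoinRoot.lift_of (f := p) (show Polynomial.eval₂ ψ₂ t p = 0 by simp [p, ht]), hψ₂, hψ₁]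
  · have hgC : Function.Surjective gC.mulVec := Matrix.mulVec_surjective_iff_isUnit.2
      ((Matrix.isUnit_iff_isUnit_det gC).2 (by
        show IsUnit (g.map bc).det
        rw [← RingHom.mapMatrix_apply, ← RingHom.map_det]; exact hg'.map bc))
    intro y
    have hy : y ∈ LinearMap.range (((LinearMap.id.smulRight (al ∘ v)).comp (LinearMap.fst C C (I m → C))) +
        (Matrix.mulVecLin (H.map al)).comp (LinearMap.snd C C (I m → C))) := by
      rw [pi_eq_sum_univ' y]
      refine Submodule.sum_mem _ fun i _ => Submodule.smul_mem _ _ ?_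
      obtain ⟨c, z, hcz⟩ := hsurj (Pi.single i 1)
      refine ⟨(al c, al ∘ z), ?_⟩
      funext k
      have h1 := congrArg al (congrFun hcz k)
      simp only [Pi.add_apply, Pi.smul_apply, smul_eq_mul, map_add, map_mul, RingHom.map_mulVec] at h1
      simp only [LinearMap.add_apply, LinearMap.comp_apply, LinearMap.fst_apply, LinearMap.snd_apply,
        LinearMap.smulRight_apply, LinearMap.id_apply, Matrix.mulVecLin_apply, Pi.add_apply,
        Pi.smul_apply, smul_eq_mul, Function.comp_apply]
      exact h1.trans (by simp [Pi.single_apply, apply_ite al])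
    obtain ⟨⟨c, z⟩, hcz⟩ := hy
    obtain ⟨w, rfl⟩ := hgC z
    refine ⟨c * r, w, ?_⟩
    rw [smul_smul, mul_assoc, hru.mul_val_inv, mul_one, ← Matrix.mulVec_mulVec]
    exact hcz
  · intro c z
    rw [← Matrix.mulVec_mulVec, smul_smul, qf_add, qf_smul, show a.map (algebraMap A C) = a₁.map al from ha₁₂.symm, ← map_qf, bl_smul_left]
    have horth' : bl (a₁.map al) (al ∘ v) (H.map al *ᵥ (gC *ᵥ z)) = 0 := by
      rw [bl_comm, bl, ← Matrix.vecMul_transpose, ← Matrix.dotProduct_mulVec,
        ← Matrix.transpose_map, ← Matrix.transpose_map, ← Matrix.map_add al (map_add al),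
        show (a₁ + a₁ᵀ).map al *ᵥ (al ∘ v) = al ∘ ((a₁ + a₁ᵀ) *ᵥ v) from
          funext fun r => (RingHom.map_mulVec al _ _ r).symm,
        show Hᵀ.map al *ᵥ (al ∘ ((a₁ + a₁ᵀ) *ᵥ v)) = al ∘ (Hᵀ *ᵥ ((a₁ + a₁ᵀ) *ᵥ v)) from
          funext fun r => (RingHom.map_mulVec al _ _ r).symm, horth]
      simp [dotProduct]
    have hrest : qf (a₁.map al) (H.map al *ᵥ (gC *ᵥ z)) = hyp z := by
      rw [qf_mulVec, ← Matrix.transpose_map, ← Matrix.map_mul, ← Matrix.map_mul, ← ha', qf_mulVec]
      have hq : ∀ x, qf (gᵀ * a'.map be * g) x = qf (Matrix.fromBlocks 0 1 0 0 : Matrix (I m) (I m) B) x := fun x => by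
        rw [← qf_mulVec, hform, qf, hyp]
        simp [dotProduct, Matrix.mulVec, Fintype.sum_sum_type, Matrix.one_apply]
      have hal : a'.map al = (a'.map be).map bc := by rw [Matrix.map_map]; rfl
      rw [hal, show gCᵀ = gᵀ.map bc from rfl, ← Matrix.map_mul, ← Matrix.map_mul, qf_congr_map bc _ _ hq z]
      simp [qf, hyp, dotProduct, Matrix.mulVec, Fintype.sum_sum_type, Matrix.one_apply, apply_ite bc]
    rw [horth', hrest]
    have hr' : (↑hru.unit⁻¹ : C) ^ 2 * al (qf a₁ v) = 1 := by
      rw [show al (qf a₁ v) = r ^ 2 from hr.symm, ← mul_pow, hru.val_inv_mul, one_pow]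
    linear_combination c ^ 2 * hr'

end QSplit86
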