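import Groth.Agent.QSplit86.Structure

/-!
# The Clifford algebra of the odd split form
-/

set_option autoImplicit false
set_option maxHeartbeats 800000
universe u v

open CliffordAlgebra

namespace QSplit86

variable {R : Type u} [CommRing R] {m : ℕ}

/-- The chirality element of a split form. -/
def chi (R : Type u) [CommRing R] : ∀ m, CliffordAlgebra (hypQ R m)
  | 0 => 1
  | m + 1 => th (chi R m) * sg

theorem sg_th (w : CliffordAlgebra (hypQ R m)) : sg * th w = th w * sg := by
  simpa using sg_th_mul w 1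

theorem chi_sq : chi R m * chi R m = 1 := by
  induction m with
  | zero => simp [chi]
  | succ m ih =>
    rw [chi, mul_assoc, ← mul_assoc sg, sg_th, mul_assoc (th (chi R m)) sg sg, sg_sq, mul_one, ← map_mul, ih, map_one]

theorem chi_anticomm (x : I m → R) : chi R m * ι (hypQ R m) x = -(ι (hypQ R m) x * chi R m) := by
  induction m with
  | zero => rw [Subsingleton.elim x 0, map_zero, mul_zero, zero_mul, neg_zero]
  | succ m ih =>
    have he : chi R (m + 1) * ee = -(ee * chi R (m + 1)) := by
      rw [chi, mul_assoc, sg_mul_ee, ← mul_assoc, (th_comm (chi R m)).1.eq, mul_assoc (th (chi R m)), ee_mul_sg, mul_neg, neg_neg]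
    have hf : chi R (m + 1) * ff = -(ff * chi R (m + 1)) := by
      rw [chi, mul_assoc, sg_mul_ff, ← mul_assoc, (th_comm (chi R m)).2.eq, mul_assoc (th (chi R m)), ff_mul_sg, mul_neg]
    have hz : ∀ z, chi R (m + 1) * (th (ι (hypQ R m) z) * sg) = -(th (ι (hypQ R m) z) * sg * chi R (m + 1)) := fun z => by
      rw [chi, mul_assoc, ← mul_assoc sg, sg_th, mul_assoc _ sg sg, sg_sq, mul_one, mul_assoc _ sg, ← mul_assoc sg,
        sg_th, mul_assoc _ sg sg, sg_sq, mul_one, ← map_mul, ih, map_neg, map_mul]
    rw [ι_decomp, mul_add, mul_add, add_mul, add_mul, mul_smul_comm, mul_smul_comm, hz, he, hf, smul_neg, smul_neg,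
      smul_mul_assoc, smul_mul_assoc]
    abel

theorem chi_mem_even : chi R m ∈ evenOdd (hypQ R m) 0 := by
  induction m with
  | zero => exact SetLike.one_mem_graded _
  | succ m ih =>
    have hsg : (sg : CliffordAlgebra (hypQ R (m + 1))) ∈ evenOdd (hypQ R (m + 1)) 0 :=
      Submodule.sub_mem _ (ι_mul_ι_mem_evenOdd_zero _ _ _) (ι_mul_ι_mem_evenOdd_zero _ _ _)
    have hth : ∀ x, x ∈ evenOdd (hypQ R m) 0 → th x ∈ evenOdd (hypQ R (m + 1)) 0 := by
      intro x hx
      induction x, hx using CliffordAlgebra.even_induction with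
      | algebraMap r => rw [AlgHom.commutes]; exact SetLike.algebraMap_mem_graded _ _
      | add x y hx hy ihx ihy => rw [map_add]; exact Submodule.add_mem _ ihx ihy
      | ι_mul_ι_mul v w x hx ih =>
        rw [map_mul, map_mul, th, lift_ι_apply, lift_ι_apply]
        refine zero_add (0 : ZMod 2) ▸ SetLike.mul_mem_graded ?_ ih
        show ι _ (glue 0 0 v) * sg * (ι _ (glue 0 0 w) * sg) ∈ _
        rw [mul_assoc, ← mul_assoc sg, ← sg_comm_z, mul_assoc _ sg sg, sg_sq, mul_one]
        exact ι_mul_ι_mem_evenOdd_zero _ _ _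
    exact zero_add (0 : ZMod 2) ▸ SetLike.mul_mem_graded (hth _ ih) hsg

theorem reverse_th (w : CliffordAlgebra (hypQ R m)) : reverse (th w) = th (reverse (involute w)) := by
  induction w using CliffordAlgebra.induction with
  | algebraMap r => simp [AlgHom.commutes]
  | ι z =>
    rw [involute_ι, map_neg, reverse_ι, map_neg, th, lift_ι_apply]
    show reverse (ι _ (glue 0 0 z) * sg) = -(ι _ (glue 0 0 z) * sg)
    have hrs : reverse (sg : CliffordAlgebra (hypQ R (m + 1))) = -sg := by
      simp [sg, ee, ff]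
    rw [reverse.map_mul, hrs, reverse_ι, neg_mul, sg_comm_z]
  | mul a b ha hb => rw [map_mul, reverse.map_mul, ha, hb, map_mul, reverse.map_mul, map_mul]
  | add a b ha hb => simp only [map_add, ha, hb]

theorem reverse_chi : reverse (chi R m) = (-1 : R) ^ m • chi R m := by
  induction m with
  | zero => simp [chi]
  | succ m ih =>
    have hrs : reverse (sg : CliffordAlgebra (hypQ R (m + 1))) = -sg := by
      simp [sg, ee, ff]
    rw [chi, reverse.map_mul, hrs, reverse_th, involute_eq_of_mem_even chi_mem_even, ih, map_smul, mul_smul_comm,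
      neg_mul, sg_th, pow_succ, mul_neg_one, neg_smul, smul_neg]

/-- The odd split form. -/
def oddQ (R : Type u) [CommRing R] (m : ℕ) : QuadraticForm R (Option (I m) → R) :=
  QuadraticMap.sq.comp (LinearMap.proj none) + (hypQ R m).comp (LinearMap.funLeft R R some)

theorem oddQ_apply (x : Option (I m) → R) : oddQ R m x = x none ^ 2 + hyp (fun j => x (some j)) := by
  simp [oddQ, sq, LinearMap.funLeft, Function.comp_def]

/-- A vector of the odd split space. -/
def mkv (c : R) (z : I m → R) : Option (I m) → R := fun o => o.elim c z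

theorem oddQ_mkv (c : R) (z : I m → R) : oddQ R m (mkv c z) = c ^ 2 + hypQ R m z := by
  rw [oddQ_apply, hypQ_apply]; rfl

theorem mkv_self (x : Option (I m) → R) : mkv (x none) (fun j => x (some j)) = x :=
  funext fun o => by cases o <;> rfl

/-- The coefficient ring. -/
abbrev Dq (R : Type u) [CommRing R] := QuadraticAlgebra R (1 : R) 0

/-- The real part of a matrix. -/
def reM {P : Type*} : Matrix P P (Dq R) →ₗ[R] Matrix P P R where
  toFun M := M.map QuadraticAlgebra.re
  map_add' _ _ := rfl
  map_smul' _ _ := rfl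

/-- The imaginary part of a matrix. -/
def imM {P : Type*} : Matrix P P (Dq R) →ₗ[R] Matrix P P R where
  toFun M := M.map QuadraticAlgebra.im
  map_add' _ _ := rfl
  map_smul' _ _ := rfl

/-- A matrix from its two parts. -/
def mk2 {P : Type*} (A B : Matrix P P R) : Matrix P P (Dq R) := Matrix.of fun s t => ⟨A s t, B s t⟩

theorem ext2 {P : Type*} {M N : Matrix P P (Dq R)} (h : reM M = reM N) (h' : imM M = imM N) : M = N :=
  Matrix.ext fun s t => QuadraticAlgebra.ext (congrFun (congrFun h s) t) (congrFun (congrFun h' s) t)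

@[simp] theorem reM_mk2 {P : Type*} (A B : Matrix P P R) : reM (mk2 A B) = A := rfl
@[simp] theorem imM_mk2 {P : Type*} (A B : Matrix P P R) : imM (mk2 A B) = B := rfl

theorem re_sum {ι' : Type*} (s : Finset ι') (f : ι' → Dq R) : (∑ i ∈ s, f i).re = ∑ i ∈ s, (f i).re :=
  map_sum ({ toFun := QuadraticAlgebra.re, map_zero' := rfl, map_add' := fun _ _ => rfl } : Dq R →+ R) f s

theorem im_sum {ι' : Type*} (s : Finset ι') (f : ι' → Dq R) : (∑ i ∈ s, f i).im = ∑ i ∈ s, (f i).im :=
  map_sum ({ toFun := QuadraticAlgebra.im, map_zero' := rfl, map_add' := fun _ _ => rfl } : Dq R →+ R) f s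

theorem reM_apply {P : Type*} (M : Matrix P P (Dq R)) (s t : P) : reM M s t = (M s t).re := rfl

theorem imM_apply {P : Type*} (M : Matrix P P (Dq R)) (s t : P) : imM M s t = (M s t).im := rfl

theorem reM_mul {P : Type*} [Fintype P] (M N : Matrix P P (Dq R)) :
    reM (M * N) = reM M * reM N + imM M * imM N := by
  ext s t
  simp [reM_apply, imM_apply, Matrix.mul_apply, re_sum, Finset.sum_add_distrib]

theorem imM_mul {P : Type*} [Fintype P] (M N : Matrix P P (Dq R)) :
    imM (M * N) = reM M * imM N + imM M * reM N := by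
  ext s t
  simp [reM_apply, imM_apply, Matrix.mul_apply, im_sum, Finset.sum_add_distrib, add_comm]

theorem reM_algebraMap {P : Type*} [Fintype P] [DecidableEq P] (r : R) :
    reM (algebraMap R (Matrix P P (Dq R)) r) = algebraMap R (Matrix P P R) r := by
  ext s t
  rw [reM_apply, Matrix.algebraMap_matrix_apply, Matrix.algebraMap_matrix_apply]
  split_ifs <;> simp [QuadraticAlgebra.algebraMap_eq]

theorem imM_algebraMap {P : Type*} [Fintype P] [DecidableEq P] (r : R) :
    imM (algebraMap R (Matrix P P (Dq R)) r) = 0 := by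
  ext s t
  rw [imM_apply, Matrix.algebraMap_matrix_apply, Matrix.zero_apply]
  split_ifs <;> simp [QuadraticAlgebra.algebraMap_eq]

variable (R m) in
/-- The chosen matrix description of the split Clifford algebra. -/
noncomputable def Phi : CliffordAlgebra (hypQ R m) ≃ₐ[R] Matrix (Fin m → Bool) (Fin m → Bool) R :=
  (exists_equiv_matrix R m).choose

theorem Phi_flip (x : I m → R) : Flip par (Phi R m (ι (hypQ R m) x)) :=
  (exists_equiv_matrix R m).choose_spec x

/-- The sign matrix. -/
def Jm (R : Type u) [CommRing R] (m : ℕ) : Matrix (Fin m → Bool) (Fin m → Bool) R :=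
  Matrix.diagonal fun s => if par s then -1 else 1

theorem Jm_sq : Jm R m * Jm R m = 1 := by
  rw [Jm, Matrix.diagonal_mul_diagonal, ← Matrix.diagonal_one]
  congr 1; funext s; split_ifs <;> simp

theorem Jm_flip {M : Matrix (Fin m → Bool) (Fin m → Bool) R} (h : Flip par M) :
    Jm R m * M = -(M * Jm R m) := by
  ext s t
  rw [Matrix.neg_apply, Jm, Matrix.diagonal_mul, Matrix.mul_diagonal]
  by_cases hst : par s = par t
  · simp [h s t hst]
  · revert hst; cases par s <;> cases par t <;> simp

theorem pres_Jm : Pres par (Jm R m) := fun s t h => by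
  rw [Jm, Matrix.diagonal_apply_ne _ fun h' => h (congrArg par h')]

theorem pres_Phi {x : CliffordAlgebra (hypQ R m)} (hx : x ∈ evenOdd (hypQ R m) 0) : Pres par (Phi R m x) := by
  induction x, hx using CliffordAlgebra.even_induction with
  | algebraMap r => rw [AlgEquiv.commutes]; exact pres_algebraMap _
  | add x y hx hy ihx ihy => rw [map_add]; exact pres_add ihx ihy
  | ι_mul_ι_mul v w x hx ih =>
    rw [map_mul, map_mul]
    exact pres_mul (flip_mul_flip (Phi_flip v) (Phi_flip w)) ih

theorem Phi_involute (A : CliffordAlgebra (hypQ R m)) :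
    Phi R m (involute A) = Jm R m * Phi R m A * Jm R m := by
  induction A using CliffordAlgebra.induction with
  | algebraMap r =>
    rw [AlgHom.commutes, AlgEquiv.commutes, ← Algebra.commutes, mul_assoc, Jm_sq, mul_one]
  | ι x => rw [involute_ι, map_neg, Jm_flip (Phi_flip x), neg_mul, mul_assoc, Jm_sq, mul_one]
  | mul a b ha hb =>
    rw [map_mul, map_mul, ha, hb, map_mul]
    simp only [mul_assoc]
    rw [← mul_assoc (Jm R m) (Jm R m), Jm_sq, one_mul]
  | add a b ha hb => simp only [map_add, ha, hb, mul_add, add_mul]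

/-- The chirality element is a scalar multiple of the sign matrix. -/
theorem exists_chi_eq (m : ℕ) : ∃ r : R, r * r = 1 ∧ Phi R m (chi R m) = r • Jm R m := by
  classical
  have hcomm : ∀ A, Commute (Phi R m (chi R m) * Jm R m) (Phi R m A) := by
    intro A
    induction A using CliffordAlgebra.induction with
    | algebraMap r => rw [AlgEquiv.commutes]; exact (Algebra.commutes r _).symm
    | ι x =>
      show _ * _ = _ * _
      rw [mul_assoc, Jm_flip (Phi_flip x), mul_neg, ← mul_assoc, ← map_mul, chi_anticomm, map_neg, map_mul,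
        neg_mul, neg_neg, mul_assoc]
    | mul a b ha hb => rw [map_mul]; exact ha.mul_right hb
    | add a b ha hb => rw [map_add]; exact ha.add_right hb
  obtain ⟨r, hr⟩ : Phi R m (chi R m) * Jm R m ∈ Set.range (Matrix.scalar (Fin m → Bool)) :=
    Matrix.mem_range_scalar_of_commute_single fun i j _ => by
      obtain ⟨A, hA⟩ := (Phi R m).surjective (Matrix.single i j 1)
      rw [← hA]; exact (hcomm A).symm
  have hchi : Phi R m (chi R m) = r • Jm R m := by
    calc Phi R m (chi R m) = Phi R m (chi R m) * Jm R m * Jm R m := by rw [mul_assoc, Jm_sq, mul_one]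
      _ = r • Jm R m := by rw [← hr, Matrix.scalar_apply, ← Matrix.smul_eq_diagonal_mul]
  refine ⟨r, ?_, hchi⟩
  have h1 : Phi R m (chi R m) * Phi R m (chi R m) = 1 := by rw [← map_mul, chi_sq, map_one]
  rw [hchi, smul_mul_smul_comm, Jm_sq] at h1
  obtain ⟨s⟩ : Nonempty (Fin m → Bool) := inferInstance
  simpa using congrFun (congrFun h1 s) s

/-- The matrix of a vector of the odd split space. -/
noncomputable def ogen (x : Option (I m) → R) : Matrix (Fin m → Bool) (Fin m → Bool) (Dq R) :=
  mk2 (Phi R m (ι (hypQ R m) (fun j => x (some j)))) (x none • Jm R m)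

theorem ogen_sq (x : Option (I m) → R) : ogen x * ogen x = algebraMap R _ (oddQ R m x) := by
  apply ext2
  · rw [reM_mul, reM_algebraMap, ogen, reM_mk2, imM_mk2, ← map_mul, ι_sq_scalar, AlgEquiv.commutes,
      smul_mul_smul_comm, Jm_sq, ← Algebra.algebraMap_eq_smul_one, ← map_add, oddQ_apply, hypQ_apply]
    congr 1; ring
  · rw [imM_mul, imM_algebraMap, ogen, reM_mk2, imM_mk2, mul_smul_comm, smul_mul_assoc, Jm_flip (Phi_flip _),
      smul_neg, add_neg_cancel]

/-- `ogen` as a linear map. -/
noncomputable def ogenL : (Option (I m) → R) →ₗ[R] Matrix (Fin m → Bool) (Fin m → Bool) (Dq R) where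
  toFun := ogen
  map_add' x y := by
    apply ext2 <;> simp only [map_add, ogen, reM_mk2, imM_mk2, Pi.add_apply, add_smul]
    rw [← map_add, ← map_add]; rfl
  map_smul' c x := by
    apply ext2 <;> simp only [map_smul, ogen, reM_mk2, imM_mk2, RingHom.id_apply, Pi.smul_apply, smul_eq_mul, mul_smul]
    rw [← map_smul, ← map_smul]; rfl

/-- The map to matrices over the coefficient ring. -/
noncomputable def Psi : CliffordAlgebra (oddQ R m) →ₐ[R] Matrix (Fin m → Bool) (Fin m → Bool) (Dq R) :=
  lift (oddQ R m) ⟨ogenL, ogen_sq⟩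

theorem Psi_ι (x : Option (I m) → R) : Psi (ι (oddQ R m) x) = ogen x := lift_ι_apply _ _ _

/-- The inclusion of the hyperbolic part. -/
noncomputable def jinc : CliffordAlgebra (hypQ R m) →ₐ[R] CliffordAlgebra (oddQ R m) :=
  lift (hypQ R m) ⟨(ι (oddQ R m)).comp
      ({ toFun := fun z => mkv 0 z
         map_add' := fun z z' => funext fun o => by cases o <;> simp [mkv]
         map_smul' := fun c z => funext fun o => by cases o <;> simp [mkv] } : (I m → R) →ₗ[R] (Option (I m) → R)),
    fun z => by
      show ι (oddQ R m) (mkv 0 z) * ι (oddQ R m) (mkv 0 z) = _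
      rw [ι_sq_scalar, oddQ_mkv]; simp⟩

theorem jinc_ι (z : I m → R) : jinc (ι (hypQ R m) z) = ι (oddQ R m) (mkv 0 z) := lift_ι_apply _ _ _

/-- The extra vector. -/
def eps : CliffordAlgebra (oddQ R m) := ι (oddQ R m) (mkv 1 0)

theorem eps_sq : (eps : CliffordAlgebra (oddQ R m)) * eps = 1 := by
  rw [eps, ι_sq_scalar, oddQ_mkv]; simp [hyp]

theorem eps_jinc (A : CliffordAlgebra (hypQ R m)) : eps * jinc A = jinc (involute A) * eps := by
  induction A using CliffordAlgebra.induction with
  | algebraMap r => rw [AlgHom.commutes, AlgHom.commutes, AlgHom.commutes]; exact (Algebra.commutes r _).symm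
  | ι z =>
    rw [involute_ι, map_neg, jinc_ι, neg_mul, eq_neg_iff_add_eq_zero, eps, ι_mul_ι_add_swap, QuadraticMap.polar,
      show mkv (1 : R) (0 : I m → R) + mkv 0 z = mkv 1 z from funext fun o => by cases o <;> simp [mkv],
      oddQ_mkv, oddQ_mkv, oddQ_mkv]
    simp [hyp]
  | mul a b ha hb => rw [map_mul, ← mul_assoc, ha, mul_assoc, hb, ← mul_assoc, map_mul, map_mul]
  | add a b ha hb => rw [map_add, mul_add, ha, hb, map_add, map_add, add_mul]

/-- The inverse of `Psi`. -/
noncomputable def ofMat2 (M : Matrix (Fin m → Bool) (Fin m → Bool) (Dq R)) : CliffordAlgebra (oddQ R m) :=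
  jinc ((Phi R m).symm (reM M)) + jinc ((Phi R m).symm (imM M * Jm R m)) * eps

theorem Psi_jinc (A : CliffordAlgebra (hypQ R m)) : Psi (jinc A) = mk2 (Phi R m A) 0 := by
  induction A using CliffordAlgebra.induction with
  | algebraMap r =>
    rw [AlgHom.commutes, AlgHom.commutes, AlgEquiv.commutes]
    exact ext2 (by rw [reM_algebraMap, reM_mk2]) (by rw [imM_algebraMap, imM_mk2])
  | ι z =>
    rw [jinc_ι, Psi_ι, ogen]
    simp [mkv]
  | mul a b ha hb =>
    rw [map_mul, map_mul, ha, hb, map_mul]
    apply ext2 <;> simp [reM_mul, imM_mul]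
  | add a b ha hb =>
    rw [map_add, map_add, ha, hb, map_add]
    apply ext2 <;> simp [map_add]

theorem Psi_eps : Psi (eps : CliffordAlgebra (oddQ R m)) = mk2 0 (Jm R m) := by
  rw [eps, Psi_ι, ogen, show (fun j => mkv (1 : R) (0 : I m → R) (some j)) = 0 from rfl]
  simp [mkv]

theorem Psi_ofMat2 (M : Matrix (Fin m → Bool) (Fin m → Bool) (Dq R)) : Psi (ofMat2 M) = M := by
  rw [ofMat2, map_add, map_mul, Psi_jinc, Psi_jinc, Psi_eps, AlgEquiv.apply_symm_apply, AlgEquiv.apply_symm_apply]
  apply ext2 <;> simp [map_add, reM_mul, imM_mul, mul_assoc, Jm_sq]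

theorem ofMat2_ogen_mul (x : Option (I m) → R) (M : Matrix (Fin m → Bool) (Fin m → Bool) (Dq R)) :
    ofMat2 (ogen x * M) = ι (oddQ R m) x * ofMat2 M := by
  set z : I m → R := fun j => x (some j)
  set c := x none
  have hx : ι (oddQ R m) x = jinc (ι (hypQ R m) z) + c • eps := by
    rw [jinc_ι, eps, ← map_smul, ← map_add]
    congr 1
    funext o; cases o <;> simp [mkv, z, c]
  have hinv : ∀ N, (Phi R m).symm (Jm R m * N * Jm R m) = involute ((Phi R m).symm N) := fun N => by
    rw [AlgEquiv.symm_apply_eq, Phi_involute, AlgEquiv.apply_symm_apply]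
  set A := (Phi R m).symm (reM M) with hA
  set B := (Phi R m).symm (imM M * Jm R m) with hB
  have hre : (Phi R m).symm (reM (ogen x * M)) = ι (hypQ R m) z * A + c • involute B := by
    rw [hA, hB, ← hinv, ← map_smul, AlgEquiv.symm_apply_eq, map_add, map_mul (Phi R m), AlgEquiv.apply_symm_apply,
      AlgEquiv.apply_symm_apply, reM_mul, ogen, reM_mk2, imM_mk2, smul_mul_assoc]
    congr 2
    rw [← mul_assoc, mul_assoc (Jm R m * imM M), Jm_sq, mul_one]
  have him : (Phi R m).symm (imM (ogen x * M) * Jm R m) = ι (hypQ R m) z * B + c • involute A := by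
    rw [hA, hB, ← hinv, ← map_smul, AlgEquiv.symm_apply_eq, map_add, map_mul (Phi R m), AlgEquiv.apply_symm_apply,
      AlgEquiv.apply_symm_apply, imM_mul, ogen, reM_mk2, imM_mk2, add_mul, smul_mul_assoc, smul_mul_assoc,
      mul_assoc]
  show jinc ((Phi R m).symm (reM (ogen x * M))) + jinc ((Phi R m).symm (imM (ogen x * M) * Jm R m)) * eps = _
  rw [hre, him, ofMat2, ← hA, ← hB, hx]
  simp only [map_add, map_mul, map_smul, add_mul, mul_add, smul_mul_assoc, mul_assoc]
  simp only [← mul_assoc eps, eps_jinc]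
  simp only [mul_assoc, eps_sq, mul_one]
  abel

theorem ofMat2_Psi (w : CliffordAlgebra (oddQ R m)) : ofMat2 (Psi w) = w := by
  induction w using CliffordAlgebra.left_induction with
  | algebraMap r =>
    rw [AlgHom.commutes, ofMat2, reM_algebraMap, imM_algebraMap, zero_mul, map_zero, map_zero, zero_mul, add_zero,
      AlgEquiv.commutes, AlgHom.commutes]
  | add a b ha hb =>
    conv_rhs => rw [← ha, ← hb]
    simp only [map_add, ofMat2, add_mul]
    abel
  | ι_mul a x ha => rw [map_mul, Psi_ι, ofMat2_ogen_mul, ha]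

/-- The Clifford algebra of the odd split form. -/
noncomputable def PsiEquiv : CliffordAlgebra (oddQ R m) ≃ₐ[R] Matrix (Fin m → Bool) (Fin m → Bool) (Dq R) :=
  AlgEquiv.ofBijective Psi
    ⟨Function.LeftInverse.injective ofMat2_Psi, Function.RightInverse.surjective Psi_ofMat2⟩

theorem Psi_even {x : CliffordAlgebra (oddQ R m)} (hx : x ∈ evenOdd (oddQ R m) 0) :
    Pres par (reM (Psi x)) ∧ Flip par (imM (Psi x)) := by
  induction x, hx using CliffordAlgebra.even_induction with
  | algebraMap r =>
    rw [AlgHom.commutes, reM_algebraMap, imM_algebraMap]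
    exact ⟨pres_algebraMap _, fun _ _ _ => rfl⟩
  | add x y hx hy ihx ihy =>
    rw [map_add, map_add, map_add]
    exact ⟨pres_add ihx.1 ihy.1, flip_add ihx.2 ihy.2⟩
  | ι_mul_ι_mul v w x hx ih =>
    rw [map_mul Psi, map_mul Psi, Psi_ι, Psi_ι]
    have hJ : ∀ c : R, Pres par (c • Jm R m) := fun c => pres_smul c pres_Jm
    have hp : Pres par (reM (ogen v * ogen w)) ∧ Flip par (imM (ogen v * ogen w)) := by
      rw [reM_mul, imM_mul]
      simp only [ogen, reM_mk2, imM_mk2]
      exact ⟨pres_add (flip_mul_flip (Phi_flip _) (Phi_flip _)) (pres_mul (hJ _) (hJ _)),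
        flip_add (flip_mul_pres (Phi_flip _) (hJ _)) (pres_mul_flip (hJ _) (Phi_flip _))⟩
    rw [reM_mul (ogen v * ogen w), imM_mul (ogen v * ogen w)]
    exact ⟨pres_add (pres_mul hp.1 ih.1) (flip_mul_flip hp.2 ih.2),
      flip_add (pres_mul_flip hp.1 ih.2) (flip_mul_pres hp.2 ih.1)⟩
where
  flip_mul_pres {M N : Matrix (Fin m → Bool) (Fin m → Bool) R} (hM : Flip par M) (hN : Pres par N) :
      Flip par (M * N) := fun s t h => Finset.sum_eq_zero fun r _ => by
    show M s r * N r t = 0
    by_cases hr : par s = par r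
    · rw [hM s r hr, zero_mul]
    · rw [hN r t (fun h' => hr (h.trans h'.symm)), mul_zero]

theorem Psi_odd {x : CliffordAlgebra (oddQ R m)} (hx : x ∈ evenOdd (oddQ R m) 1) :
    Flip par (reM (Psi x)) ∧ Pres par (imM (Psi x)) := by
  induction x, hx using CliffordAlgebra.odd_induction with
  | ι v =>
    rw [Psi_ι]
    exact ⟨by simpa [ogen] using Phi_flip _, by simpa [ogen] using pres_smul (v none) pres_Jm⟩
  | add x y hx hy ihx ihy =>
    rw [map_add, map_add, map_add]
    exact ⟨flip_add ihx.1 ihy.1, pres_add ihx.2 ihy.2⟩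
  | ι_mul_ι_mul v w x hx ih =>
    have hp := Psi_even (ι_mul_ι_mem_evenOdd_zero (oddQ R m) v w)
    rw [map_mul Psi, reM_mul, imM_mul]
    exact ⟨flip_add (pres_mul_flip hp.1 ih.1) (Psi_even.flip_mul_pres hp.2 ih.2),
      pres_add (pres_mul hp.1 ih.2) (flip_mul_flip hp.2 ih.1)⟩

/-- The central odd element. -/
noncomputable def z₀ : CliffordAlgebra (oddQ R m) :=
  (PsiEquiv (R := R) (m := m)).symm (mk2 0 1)

theorem Psi_z₀ : Psi (z₀ : CliffordAlgebra (oddQ R m)) = mk2 0 1 := (PsiEquiv (R := R) (m := m)).apply_symm_apply _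

theorem star_z₀ : star (z₀ : CliffordAlgebra (oddQ R m)) = (-1 : R) ^ (m + 1) • z₀ := by
  obtain ⟨r, hr, hchi⟩ := exists_chi_eq (R := R) m
  have hz : (z₀ : CliffordAlgebra (oddQ R m)) = r • (jinc (chi R m) * eps) := by
    apply (PsiEquiv (R := R) (m := m)).injective
    show Psi z₀ = Psi _
    rw [Psi_z₀, map_smul, map_mul, Psi_jinc, Psi_eps, hchi]
    apply ext2 <;> simp [reM_mul, imM_mul, Jm_sq, smul_smul, hr]
  have hj : ∀ A, star (jinc A : CliffordAlgebra (oddQ R m)) = jinc (star A) := fun A => by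
    induction A using CliffordAlgebra.induction with
    | algebraMap a => rw [AlgHom.commutes, star_algebraMap, star_algebraMap, AlgHom.commutes]
    | ι x => rw [star_ι, map_neg, jinc_ι, star_ι]
    | mul a b ha hb => rw [map_mul, star_mul, ha, hb, star_mul, map_mul]
    | add a b ha hb => rw [map_add, star_add, ha, hb, star_add, map_add]
  rw [hz, CliffordAlgebra.star_smul, star_mul, hj, star_def (chi R m), involute_eq_of_mem_even chi_mem_even, reverse_chi,
    show star (eps : CliffordAlgebra (oddQ R m)) = -eps from star_ι _, map_smul, mul_smul_comm, neg_mul,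
    eps_jinc, involute_eq_of_mem_even chi_mem_even, smul_neg, pow_succ, mul_neg_one, neg_smul, smul_neg,
    smul_comm]

end QSplit86
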