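import Groth.Agent.QSplit86.Odd

/-!
# The half-discriminant and `Good`; covering by flat-local splittings
-/

set_option autoImplicit false
universe u v

namespace QSplit86

open Matrix Groth.Agent.S17014 Groth.Agent.QuadCentre

variable {S : Type*} [CommRing S] {n : ℕ}

theorem two_mul_hd {m : ℕ} (c : Sym2 (Fin (2 * m + 1)) → S) : 2 * hd c = (polarMatAt c).det := by
  rw [← eval₂_discUniv _ (Int.castRingHom S) c, ← two_mul_halfDiscUniv ⟨m, rfl⟩,
    MvPolynomial.eval₂_mul, ← MvPolynomial.coe_eval₂Hom, map_ofNat]
  rfl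

theorem subst_diag (c : Sym2 (Fin n) → S) (G : Matrix (Fin n) (Fin n) S) (i : Fin n) :
    subst c G (Sym2.mk i i) = qf (upper c) (fun r => G r i) := by
  rw [subst_mk, if_pos rfl]
  simp only [qf, dotProduct, Matrix.mulVec, Finset.mul_sum]
  exact Finset.sum_congr rfl fun k _ => Finset.sum_congr rfl fun l _ => by ring

theorem subst_off (c : Sym2 (Fin n) → S) (G : Matrix (Fin n) (Fin n) S) {i j : Fin n} (h : i ≠ j) :
    subst c G (Sym2.mk i j) = bl (upper c) (fun r => G r i) (fun r => G r j) := by
  rw [subst_mk, if_neg h, bl_eq]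
  simp only [dotProduct, Matrix.mulVec, Finset.mul_sum, ← Finset.sum_add_distrib]
  exact Finset.sum_congr rfl fun k _ => Finset.sum_congr rfl fun l _ => by ring

theorem upper_map {T : Type*} [CommRing T] (f : S →+* T) (c : Sym2 (Fin n) → S) :
    (upper c).map f = upper (f ∘ c) := by
  ext i j
  simp only [upper, Matrix.map_apply, Matrix.of_apply, Function.comp_apply]
  split_ifs <;> simp

/-- A numbering of the index type of the split form. -/
noncomputable def oe (m : ℕ) : Fin (2 * m + 1) ≃ Option (I m) :=
  Fintype.equivOfCardEq (by simp; omega)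

/-- The partner of an index. -/
def flipI {m : ℕ} : Option (I m) → Option (I m) := Option.map Sum.swap

theorem flipI_flipI {m : ℕ} (o : Option (I m)) : flipI (flipI o) = o := by
  rcases o with _ | (i | i) <;> rfl

/-- The coefficients of the split form. -/
noncomputable def coefSplit (S : Type*) [CommRing S] (m : ℕ) : Sym2 (Fin (2 * m + 1)) → S :=
  Sym2.lift ⟨fun i j => if i = j then (if oe m i = none then 1 else 0)
      else if oe m j = flipI (oe m i) then 1 else 0, fun i j => by
    by_cases h : i = j
    · subst h; rfl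
    · dsimp only
      rw [if_neg h, if_neg (Ne.symm h)]
      by_cases h1 : oe m j = flipI (oe m i)
      · rw [if_pos h1, if_pos (by rw [h1, flipI_flipI])]
      · rw [if_neg h1, if_neg (fun h2 => h1 (by rw [h2, flipI_flipI]))]⟩

theorem coefSplit_mk (m : ℕ) (i j : Fin (2 * m + 1)) :
    coefSplit S m (Sym2.mk i j) = if i = j then (if oe m i = none then 1 else 0)
      else if oe m j = flipI (oe m i) then 1 else 0 := rfl

theorem map_coefSplit {T : Type*} [CommRing T] (f : S →+* T) (m : ℕ) :
    f ∘ coefSplit S m = coefSplit T m := by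
  funext s
  induction s using Sym2.ind with
  | _ i j => simp only [Function.comp_apply, coefSplit_mk]; split_ifs <;> simp

theorem isUnit_hd_coefSplit (S : Type*) [CommRing S] (m : ℕ) : IsUnit (hd (coefSplit S m)) := by
  suffices h : hd (coefSplit ℤ m) * hd (coefSplit ℤ m) = 1 by
    have := (IsUnit.of_mul_eq_one _ h).map (Int.castRingHom S)
    rwa [map_hd, map_coefSplit] at this
  have hP : polarMatAt (coefSplit ℤ m) * polarMatAt (coefSplit ℤ m) =
      Matrix.diagonal (fun i => if oe m i = none then (4 : ℤ) else 1) := by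
    have hval : ∀ i j, polarMatAt (coefSplit ℤ m) i j =
        if oe m i = none then (if i = j then 2 else 0) else (if oe m j = flipI (oe m i) then 1 else 0) := by
      intro i j
      simp only [polarMatAt, Matrix.of_apply, coefSplit_mk]
      by_cases hij : i = j
      · subst hij
        rcases h : oe m i with _ | (x | x) <;> simp [flipI]
      · simp only [if_neg hij]
        rcases h : oe m i with _ | (x | x)
        · simp only [flipI, Option.map_none, reduceIte]
          simp [show oe m j ≠ none from fun h' => hij ((oe m).injective (h.trans h'.symm))]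
        · simp
        · simp
    ext i j
    rw [Matrix.mul_apply]
    by_cases h : oe m i = none
    · rw [Finset.sum_eq_single i (fun k _ hk => by rw [hval, if_pos h, if_neg (Ne.symm hk), zero_mul])
        (fun h' => absurd (Finset.mem_univ i) h'), hval, hval, if_pos h, if_pos h, if_pos rfl,
        Matrix.diagonal_apply, if_pos h]
      split_ifs <;> norm_num
    · set k₀ := (oe m).symm (flipI (oe m i)) with hk₀
      have hk₀' : oe m k₀ = flipI (oe m i) := (oe m).apply_symm_apply _
      rw [Finset.sum_eq_single k₀ (fun k _ hk => by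
          rw [hval, if_neg h, if_neg (fun h' => hk ((oe m).injective (h'.trans hk₀'.symm))), zero_mul])
        (fun h' => absurd (Finset.mem_univ k₀) h'), hval, hval, if_neg h, if_pos hk₀', one_mul,
        if_neg (fun h' => h (by rw [← flipI_flipI (oe m i), ← hk₀', h']; rfl)), Matrix.diagonal_apply,
        if_neg h, hk₀', flipI_flipI]
      by_cases hij : i = j
      · rw [if_pos hij, if_pos (by rw [hij])]
      · rw [if_neg hij, if_neg fun h' => hij ((oe m).injective h'.symm)]
  have hd2 := congrArg Matrix.det hP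
  rw [Matrix.det_mul, ← two_mul_hd, Matrix.det_diagonal,
    Finset.prod_eq_single ((oe m).symm none) (fun i _ hi => if_neg fun h => hi (by rw [← h, Equiv.symm_apply_apply]))
      (fun h => absurd (Finset.mem_univ _) h), if_pos (Equiv.apply_symm_apply _ _)] at hd2
  linarith

/-- A non-good point has vanishing half-discriminant. -/
theorem hd_eq_zero {k : Type*} [Field k] {m : ℕ} (c : Sym2 (Fin (2 * m + 1)) → k) (v : Fin (2 * m + 1) → k)
    (hv : v ≠ 0) (hP : ∀ w, bl (upper c) v w = 0) (hq : qf (upper c) v = 0) : hd c = 0 := by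
  classical
  obtain ⟨i, hi⟩ := Function.ne_iff.1 hv
  let G : Matrix (Fin (2 * m + 1)) (Fin (2 * m + 1)) k := (1 : Matrix _ _ k).updateCol i v
  have hG : G.det = v i := by
    rw [← Matrix.cramer_apply, Matrix.cramer_one]
    rfl
  have hcol : (fun r => G r i) = v := funext fun r => Matrix.updateCol_self
  have h0 : ∀ j, subst c G (Sym2.mk i j) = 0 := fun j => by
    rcases eq_or_ne i j with rfl | hij
    · rw [subst_diag, hcol, hq]
    · rw [subst_off _ _ hij, hcol, hP]
  have hz : hd (subst c G) = 0 := by
    let T := MvPolynomial (Sym2 (Fin (2 * m + 1))) ℤ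
    let c₀ : Sym2 (Fin (2 * m + 1)) → T := fun s => if i ∈ s then 0 else MvPolynomial.X s
    have h2 : hd c₀ = 0 := by
      refine mul_left_cancel₀ (show (2 : T) ≠ 0 from fun h => by
        simpa [map_ofNat] using congrArg (MvPolynomial.eval (fun _ => (0 : ℤ))) h) ?_
      rw [mul_zero, two_mul_hd]
      refine Matrix.det_eq_zero_of_row_eq_zero i fun j => ?_
      simp [polarMatAt, c₀]
    let f : T →+* k := MvPolynomial.eval₂Hom (Int.castRingHom k) (subst c G)
    have hf : f ∘ c₀ = subst c G := by
      funext s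
      simp only [Function.comp_apply, c₀]
      by_cases hs : i ∈ s
      · obtain ⟨j, rfl⟩ := hs
        rw [if_pos (Sym2.mem_mk_left i j), map_zero, h0]
      · rw [if_neg hs]; exact MvPolynomial.eval₂Hom_X' _ _ _
    rw [← hf, ← map_hd, h2, map_zero]
  rw [hd_subst, hG] at hz
  exact (mul_eq_zero.1 hz).resolve_left (pow_ne_zero 2 hi)

theorem hyp_pair {m : ℕ} {B : Type*} [CommRing B] (o o' : Option (I m)) (h : o ≠ o') :
    (∑ t : Fin m, ((if some (Sum.inl t) = o then (1 : B) else 0) + if some (Sum.inl t) = o' then 1 else 0) *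
      ((if some (Sum.inr t) = o then (1 : B) else 0) + if some (Sum.inr t) = o' then 1 else 0)) =
      if o' = flipI o then 1 else 0 := by
  rcases o with _ | (x | x) <;> rcases o' with _ | (y | y)
  · exact absurd rfl h
  all_goals simp only [flipI, Option.map_some, Option.map_none, Sum.swap_inl, Sum.swap_inr, Option.some.injEq,
    Sum.inl.injEq, Sum.inr.injEq, reduceCtorEq, if_false, zero_add, add_zero, mul_zero, zero_mul,
    Finset.sum_const_zero, ite_mul, one_mul, mul_ite, mul_one]
  all_goals simp [Finset.sum_ite_eq', eq_comm]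

variable {A : Type u} [CommRing A] {K : Type u} [Field K] [IsAlgClosed K]

theorem good_of_hd_ne_zero {m : ℕ} (φ : A →+* K) (c : Sym2 (Fin (2 * m + 1)) → A) (h : φ (hd c) ≠ 0) :
    Good φ (upper c) := by
  intro v hP hq
  by_contra hv
  rw [map_hd] at h
  rw [upper_map] at hq
  exact h (hd_eq_zero _ v hv (fun w => by rw [← upper_map]; exact hP w) hq)

theorem hd_ne_zero_of_good {m : ℕ} (φ : A →+* K) (c : Sym2 (Fin (2 * m + 1)) → A) (h : Good φ (upper c)) :
    φ (hd c) ≠ 0 := by
  classical
  have h' : Good (RingHom.id K) (upper (φ ∘ c)) := by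
    intro v
    rw [show (upper (φ ∘ c)).map (RingHom.id K) = (upper c).map φ by rw [upper_map, upper_map]; rfl]
    exact h v
  obtain ⟨B, _, _, ψ, v, H, -, -, hψ, hsurj, hform⟩ := split_odd (RingHom.id K) (upper (φ ∘ c)) h'
  set aB := (upper (φ ∘ c)).map (algebraMap K B) with haB
  let G : Matrix (Fin (2 * m + 1)) (Fin (2 * m + 1)) B :=
    Matrix.of fun r k => (oe m k).elim (v r) (fun j => H r j)
  have hGx : ∀ x, G *ᵥ x = x ((oe m).symm none) • v + H *ᵥ (fun j => x ((oe m).symm (some j))) := by
    intro x
    funext r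
    simp only [Matrix.mulVec, dotProduct, G, Matrix.of_apply, Pi.add_apply, Pi.smul_apply, smul_eq_mul]
    rw [← (oe m).symm.sum_comp, Fintype.sum_option]
    simp [mul_comm]
  have hqG : ∀ x : Fin (2 * m + 1) → B, qf aB (G *ᵥ x) =
      x ((oe m).symm none) ^ 2 + hyp (fun j => x ((oe m).symm (some j))) := fun x => by
    rw [hGx, hform]
  have hcol : ∀ i, (fun r => G r i) = G *ᵥ Pi.single i 1 := fun i => by
    rw [Matrix.mulVec_single_one]; rfl
  have hs : ∀ (i : Fin (2 * m + 1)) (o : Option (I m)),
      (Pi.single i 1 : Fin (2 * m + 1) → B) ((oe m).symm o) = if o = oe m i then 1 else 0 := fun i o => by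
    rw [Pi.single_apply]; simp [Equiv.symm_apply_eq]
  have hyp_single : ∀ i, hyp (fun j => (Pi.single i 1 : Fin (2 * m + 1) → B) ((oe m).symm (some j))) = 0 := by
    intro i
    refine Finset.sum_eq_zero fun j _ => ?_
    simp only [hs]
    split_ifs with h1 h2
    · exact absurd (Option.some_injective _ (h1.trans h2.symm)) Sum.inl_ne_inr
    all_goals simp
  have hsub : subst ((algebraMap K B) ∘ φ ∘ c) G = coefSplit B m := by
    funext s
    induction s using Sym2.ind with
    | _ i j =>
      rw [coefSplit_mk]
      rcases eq_or_ne i j with rfl | hij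
      · rw [subst_diag, if_pos rfl, ← upper_map, hcol, ← haB, hqG, hyp_single, add_zero, hs]
        by_cases hi : oe m i = none
        · simp [hi]
        · simp [hi, Ne.symm hi]
      · rw [subst_off _ _ hij, if_neg hij, ← upper_map, hcol, hcol, ← haB]
        have := qf_add aB (G *ᵥ Pi.single i 1) (G *ᵥ Pi.single j 1)
        rw [← Matrix.mulVec_add, hqG, hqG, hqG, hyp_single, hyp_single, add_zero, add_zero] at this
        have hbl : bl aB (G *ᵥ Pi.single i 1) (G *ᵥ Pi.single j 1) =
            2 * ((Pi.single i 1 : Fin (2 * m + 1) → B) ((oe m).symm none) *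
              (Pi.single j 1 : Fin (2 * m + 1) → B) ((oe m).symm none)) +
            hyp (fun r => ((Pi.single i 1 + Pi.single j 1 : Fin (2 * m + 1) → B)) ((oe m).symm (some r))) := by
          simp only [Pi.add_apply] at this ⊢
          linear_combination -this
        rw [hbl, hs, hs]
        have hne : ¬ (none = oe m i ∧ none = oe m j) := fun h => hij ((oe m).injective (h.1.symm.trans h.2))
        rw [show (if none = oe m i then (1 : B) else 0) * (if none = oe m j then 1 else 0) = 0 by
          split_ifs with h1 h2 <;> simp_all, mul_zero, zero_add]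
        simp only [hyp, Pi.add_apply, hs]
        exact hyp_pair (oe m i) (oe m j) ((oe m).injective.ne hij)
  have hu : IsUnit (hd (subst ((algebraMap K B) ∘ φ ∘ c) G)) := by rw [hsub]; exact isUnit_hd_coefSplit B m
  rw [hd_subst] at hu
  have hu' := (IsUnit.mul_iff.1 hu).2
  rw [← map_hd, ← map_hd] at hu'
  intro h0
  rw [h0, map_zero] at hu'
  haveI : Nontrivial B := ψ.domain_nontrivial
  exact not_isUnit_zero hu'

/-- Flat covering by odd splittings. -/
theorem exists_split_odd_global {m : ℕ} (c : Sym2 (Fin (2 * m + 1)) → A) (h : IsUnit (hd c)) :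
    ∃ (B : Type u) (_ : CommRing B) (_ : Algebra A B), Module.FaithfullyFlat A B ∧
      Algebra.FinitePresentation A B ∧
      ∃ (v : Fin (2 * m + 1) → B) (H : Matrix (Fin (2 * m + 1)) (I m) B),
      (∀ y, ∃ (x : B) (z : I m → B), x • v + H *ᵥ z = y) ∧
      ∀ (x : B) (z : I m → B), qf ((upper c).map (algebraMap A B)) (x • v + H *ᵥ z) = x ^ 2 + hyp z := by
  classical
  choose B iR iA ψ v H hflat hfp hψ hsurj hform using fun p : PrimeSpectrum A =>
    split_odd ((algebraMap p.asIdeal.ResidueField
      (AlgebraicClosure p.asIdeal.ResidueField)).comp (algebraMap A p.asIdeal.ResidueField)) (upper c)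
      (good_of_hd_ne_zero _ c (h.map _).ne_zero)
  let U : PrimeSpectrum A → Set (PrimeSpectrum A) := fun p =>
    Set.range (PrimeSpectrum.comap (algebraMap A (B p)))
  have hopen : ∀ p, IsOpen (U p) := fun p => by
    letI := hflat p
    letI := hfp p
    exact PrimeSpectrum.isOpenMap_comap_of_hasGoingDown_of_finitePresentation.isOpen_range
  have hmem : ∀ p, p ∈ U p := fun p => by
    refine ⟨⟨RingHom.ker (ψ p), RingHom.ker_isPrime _⟩, PrimeSpectrum.ext ?_⟩
    show Ideal.comap _ (RingHom.ker (ψ p)) = p.asIdeal
    rw [RingHom.comap_ker, hψ p, ← RingHom.comap_ker,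
      (RingHom.injective_iff_ker_eq_bot _).1 (algebraMap p.asIdeal.ResidueField _).injective,
      ← RingHom.ker, Ideal.ker_algebraMap_residueField]
  obtain ⟨T, hT⟩ := isCompact_univ.elim_finite_subcover U hopen
    (fun p _ => Set.mem_iUnion.2 ⟨p, hmem p⟩)
  haveI : ∀ t : T, Module.Flat A (B t) := fun t => hflat _
  haveI : ∀ t : T, Algebra.FinitePresentation A (B t) := fun t => hfp _
  haveI : Module.Flat A (∀ t : T, B t) :=
    Module.Flat.of_linearEquiv (DFinsupp.linearEquivFunOnFintype (R := A) (M := fun t : T => B t)).symm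
  have hev : ∀ (t : T), (Pi.evalRingHom (fun t : T => B t) t).comp (algebraMap A _) = algebraMap A (B t) :=
    fun t => rfl
  refine ⟨∀ t : T, B t, inferInstance, inferInstance,
    Module.FaithfullyFlat.of_comap_surjective fun p => ?_, inferInstance,
    fun r (t : T) => v t.1 r, Matrix.of fun r i (t : T) => H t.1 r i, fun y => ?_, fun x z => ?_⟩
  · obtain ⟨p', hp', q, hq⟩ := Set.mem_iUnion₂.1 (hT (Set.mem_univ p))
    exact ⟨q.comap (Pi.evalRingHom (fun t : T => B t) ⟨p', hp'⟩), hq⟩
  · choose x z hxz using fun t : T => hsurj _ (fun r => y r t)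
    refine ⟨x, fun i t => z t i, funext fun r => funext fun t => ?_⟩
    have := congrFun (hxz t) r
    simpa [Matrix.mulVec, dotProduct, Finset.sum_apply] using this
  · funext t
    have he := map_qf (Pi.evalRingHom (fun t : T => B t) t) ((upper c).map (algebraMap A _))
      (x • (fun r (t : T) => v t.1 r) + (Matrix.of fun r i (t : T) => H t.1 r i) *ᵥ z)
    rw [Matrix.map_map, ← RingHom.coe_comp, hev] at he
    refine he.trans ?_
    rw [show Pi.evalRingHom (fun t : T => B t) t ∘ (x • (fun r (t : T) => v t.1 r) +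
        (Matrix.of fun r i (t : T) => H t.1 r i) *ᵥ z) = x t • v t.1 + H t.1 *ᵥ (fun i => z i t) from
      funext fun r => by simp [Matrix.mulVec, dotProduct, Finset.sum_apply], hform]
    simp [hyp, Finset.sum_apply]

/-- The matrix of a form in a basis. -/
theorem qf_upper_coeffs {R : Type u} [CommRing R] {M : Type v} [AddCommGroup M] [Module R M] {n : ℕ}
    (b : Module.Basis (Fin n) R M) (Q : QuadraticForm R M) (x : Fin n → R) :
    qf (upper (QuadGrp.coeffs b (LinearEquiv.refl R R) Q)) x = Q (∑ i, x i • b i) := by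
  have hu : ∀ k l, upper (QuadGrp.coeffs b (LinearEquiv.refl R R) Q) k l = Q.toBilin b (b k) (b l) := fun k l => by
    simp only [upper, Matrix.of_apply, QuadGrp.coeffs_mk, QuadraticMap.toBilin, Module.Basis.constr_basis,
      LinearEquiv.refl_apply]
    split_ifs <;> rfl
  have hQ : Q (∑ i, x i • b i) = Q.toBilin b (∑ i, x i • b i) (∑ i, x i • b i) :=
    (congrArg (fun q : QuadraticForm R M => q _) (QuadraticMap.toQuadraticMap_toBilin Q b)).symm
  rw [hQ]
  simp only [qf, dotProduct, Matrix.mulVec, map_sum, map_smul, LinearMap.sum_apply, LinearMap.smul_apply,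
    smul_eq_mul, Finset.mul_sum, hu]
  rw [Finset.sum_comm]
  exact Finset.sum_congr rfl fun k _ => Finset.sum_congr rfl fun l _ => by ring

theorem halfDisc_eq_hd {R : Type u} [CommRing R] {M : Type v} [AddCommGroup M] [Module R M] {n : ℕ}
    (b : Module.Basis (Fin n) R M) (Q : QuadraticForm R M) :
    QuadGrp.halfDisc b (LinearEquiv.refl R R) Q = hd (QuadGrp.coeffs b (LinearEquiv.refl R R) Q) := rfl

end QSplit86
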