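import Mathlib.RingTheory.Smooth.Locus
import Mathlib.RingTheory.Etale.Descent
import Mathlib.RingTheory.FinitePresentation

/-!
# Smoothness from lifting into local rings after a faithfully flat extension
-/

set_option autoImplicit false
set_option maxHeartbeats 400000
universe u
open TensorProduct

namespace QSplit86

variable {T S : Type u} [CommRing T] [CommRing S] [Algebra T S]

/-- Formal smoothness of a localisation from one lifting. -/
theorem formallySmooth_of_lift_localization {P₀ P Sp : Type u} [CommRing P₀] [Algebra T P₀]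
    [Algebra.FormallySmooth T P₀] [CommRing P] [Algebra T P] [Algebra P₀ P] [IsScalarTower T P₀ P]
    [CommRing Sp] [Algebra T Sp] [Algebra S Sp] [IsScalarTower T S Sp]
    (π₀ : P₀ →ₐ[T] S) (hπ₀ : Function.Surjective π₀) (p : Ideal S) [p.IsPrime] [IsLocalization.AtPrime Sp p]
    [IsLocalization.AtPrime P (p.comap π₀.toRingHom)] [IsLocalRing P] [Nontrivial Sp]
    (h : ∀ (A : Type u) [CommRing A] [Algebra T A] [IsLocalRing A] (π : A →ₐ[T] Sp), Function.Surjective π →
      RingHom.ker π.toRingHom ^ 2 = ⊥ → ∃ g : S →ₐ[T] A, π.comp g = IsScalarTower.toAlgHom T S Sp) :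
    Algebra.FormallySmooth T Sp := by
  set q := p.comap π₀.toRingHom with hqdef
  have hq : ∀ y : q.primeCompl, IsUnit (((IsScalarTower.toAlgHom T S Sp).comp π₀) y) := fun y =>
    IsLocalization.map_units Sp (⟨π₀ y, y.2⟩ : p.primeCompl)
  let f₁ : P →ₐ[T] Sp := IsLocalization.liftAlgHom hq
  have hf₁ : ∀ x, f₁ (algebraMap P₀ P x) = algebraMap S Sp (π₀ x) := fun x => IsLocalization.lift_eq _ x
  have hsurj : Function.Surjective f₁ := by
    intro z
    obtain ⟨a, ⟨s, hs⟩, rfl⟩ := IsLocalization.exists_mk'_eq p.primeCompl z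
    obtain ⟨x, rfl⟩ := hπ₀ a
    obtain ⟨t, rfl⟩ := hπ₀ s
    refine ⟨IsLocalization.mk' P x (⟨t, hs⟩ : q.primeCompl), ?_⟩
    rw [IsLocalization.eq_mk'_iff_mul_eq, ← hf₁, ← map_mul]
    show f₁ (_ * algebraMap P₀ P ((⟨t, hs⟩ : q.primeCompl) : P₀)) = _
    rw [IsLocalization.mk'_spec, hf₁]
  haveI : Algebra.FormallySmooth P₀ P := Algebra.FormallySmooth.of_isLocalization q.primeCompl
  haveI : Algebra.FormallySmooth T P := Algebra.FormallySmooth.comp T P₀ P
  rw [Algebra.FormallySmooth.iff_split_surjection f₁ hsurj]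
  have hπ : Function.Surjective f₁.kerSquareLift := fun z => by
    obtain ⟨x, rfl⟩ := hsurj z
    exact ⟨Ideal.Quotient.mk _ x, rfl⟩
  haveI : Nontrivial (P ⧸ RingHom.ker f₁.toRingHom ^ 2) := f₁.kerSquareLift.toRingHom.domain_nontrivial
  haveI : IsLocalRing (P ⧸ RingHom.ker f₁.toRingHom ^ 2) :=
    IsLocalRing.of_surjective' (Ideal.Quotient.mk _) Ideal.Quotient.mk_surjective
  have hker : RingHom.ker f₁.kerSquareLift.toRingHom ^ 2 = ⊥ := by
    have hle : RingHom.ker f₁.kerSquareLift.toRingHom ≤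
        (RingHom.ker f₁.toRingHom).map (Ideal.Quotient.mk (RingHom.ker f₁.toRingHom ^ 2)) := by
      intro a ha
      obtain ⟨x, rfl⟩ := Ideal.Quotient.mk_surjective a
      exact Ideal.mem_map_of_mem _ ha
    refine le_bot_iff.1 ((Ideal.pow_right_mono hle 2).trans ?_)
    rw [← Ideal.map_pow, Ideal.map_quotient_self]
  obtain ⟨g₁, hg₁⟩ := h _ f₁.kerSquareLift hπ hker
  have hunit : ∀ s : p.primeCompl, IsUnit (g₁ s) := fun s => by
    by_contra hn
    have hm := Ideal.mem_map_of_mem f₁.kerSquareLift.toRingHom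
      ((IsLocalRing.mem_maximalIdeal (g₁ s)).2 hn)
    have hu : IsUnit (f₁.kerSquareLift (g₁ s)) := by
      rw [show f₁.kerSquareLift (g₁ s) = algebraMap S Sp s from DFunLike.congr_fun hg₁ (s : S)]
      exact IsLocalization.map_units Sp s
    have hc := congrArg (Ideal.comap f₁.kerSquareLift.toRingHom) (Ideal.eq_top_of_isUnit_mem _ hm hu)
    rw [Ideal.comap_map_of_surjective f₁.kerSquareLift.toRingHom hπ, Ideal.comap_top] at hc
    refine (IsLocalRing.maximalIdeal.isMaximal _).ne_top (top_le_iff.1 (hc ▸ sup_le le_rfl ?_))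
    exact IsLocalRing.le_maximalIdeal (RingHom.ker_ne_top f₁.kerSquareLift.toRingHom)
  refine ⟨IsLocalization.liftAlgHom hunit, ?_⟩
  refine IsLocalization.algHom_ext p.primeCompl (AlgHom.ext fun s => ?_)
  show f₁.kerSquareLift (IsLocalization.liftAlgHom hunit (algebraMap S Sp s)) = algebraMap S Sp s
  rw [IsLocalization.liftAlgHom_apply, IsLocalization.lift_eq]
  exact DFunLike.congr_fun hg₁ s

/-- Smoothness from lifting into local rings. -/
theorem smooth_of_lift_local [Algebra.FinitePresentation T S]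
    (h : ∀ (A B : Type u) [CommRing A] [CommRing B] [Algebra T A] [Algebra T B] [IsLocalRing A]
      (π : A →ₐ[T] B), Function.Surjective π → RingHom.ker π.toRingHom ^ 2 = ⊥ →
      ∀ f : S →ₐ[T] B, ∃ g : S →ₐ[T] A, π.comp g = f) :
    Algebra.Smooth T S := by
  refine ⟨Algebra.smoothLocus_eq_univ_iff.1 (Set.eq_univ_iff_forall.2 fun p => ?_), inferInstance⟩
  obtain ⟨n, π₀, hπ₀⟩ := Algebra.FiniteType.iff_quotient_mvPolynomial''.1
    (inferInstance : Algebra.FiniteType T S)
  exact formallySmooth_of_lift_localization (P := Localization.AtPrime (p.asIdeal.comap π₀.toRingHom))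
    π₀ hπ₀ p.asIdeal fun A _ _ _ π hπ hker => h A _ π hπ hker _

variable {R : Type u} [CommRing R]

/-- Smoothness from lifting into local rings, after a faithfully flat extension. -/
theorem smooth_of_lift (A₀ : Type u) [CommRing A₀] [Algebra R A₀] [Algebra.FinitePresentation R A₀]
    (T : Type u) [CommRing T] [Algebra R T] [Module.FaithfullyFlat R T]
    (h : ∀ (A B : Type u) [CommRing A] [CommRing B] [Algebra R A] [Algebra R B] [Algebra T A]
      [IsScalarTower R T A] [IsLocalRing A] (π : A →ₐ[R] B), Function.Surjective π →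
      RingHom.ker π.toRingHom ^ 2 = ⊥ → ∀ f : A₀ →ₐ[R] B, ∃ g : A₀ →ₐ[R] A, π.comp g = f) :
    Algebra.Smooth R A₀ := by
  haveI : Algebra.Smooth T (T ⊗[R] A₀) := smooth_of_lift_local fun A B _ _ _ _ _ π hπ hker f => by
    letI : Algebra R A := ((algebraMap T A).comp (algebraMap R T)).toAlgebra
    letI : Algebra R B := ((algebraMap T B).comp (algebraMap R T)).toAlgebra
    haveI : IsScalarTower R T A := IsScalarTower.of_algebraMap_eq' rfl
    haveI : IsScalarTower R T B := IsScalarTower.of_algebraMap_eq' rfl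
    obtain ⟨g₀, hg₀⟩ := h A B (π.restrictScalars R) hπ hker
      ((f.restrictScalars R).comp Algebra.TensorProduct.includeRight)
    refine ⟨Algebra.TensorProduct.lift (Algebra.ofId T A) g₀ fun _ _ => Commute.all _ _,
      Algebra.TensorProduct.ext ?_ ?_⟩
    · ext
    · refine AlgHom.ext fun x => ?_
      show π (algebraMap T A 1 * g₀ x) = f ((1 : T) ⊗ₜ[R] x)
      rw [map_one, one_mul]
      exact DFunLike.congr_fun hg₀ x
  exact Algebra.Smooth.of_smooth_tensorProduct_of_faithfullyFlat T

end QSplit86
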