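import Groth.Agent.QSplit86.OddHd

/-!
# Linear substitutions in quadratic forms and their infinitesimal deformations
-/

set_option autoImplicit false
set_option maxHeartbeats 800000
universe u

namespace QSplit86

open Matrix Groth.Agent.S17014 Groth.Agent.QuadCentre

variable {S : Type*} [CommRing S] {n : ℕ}

theorem qf_single (c : Sym2 (Fin n) → S) (i : Fin n) :
    qf (upper c) (Pi.single i 1) = c (Sym2.mk i i) := by
  simp [qf, upper]

theorem bl_single_left (c : Sym2 (Fin n) → S) (i : Fin n) (w : Fin n → S) :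
    bl (upper c) (Pi.single i 1) w = (polarMatAt c *ᵥ w) i := by
  rw [polarMatAt_eq_upper, bl, single_dotProduct, one_mul]

theorem bl_single_single (c : Sym2 (Fin n) → S) {i j : Fin n} (h : i ≠ j) :
    bl (upper c) (Pi.single i 1) (Pi.single j 1) = c (Sym2.mk i j) := by
  rw [bl_single_left, Matrix.mulVec_single_one]
  simp [polarMatAt, h]

theorem coeff_ext {c c' : Sym2 (Fin n) → S} (h : ∀ x, qf (upper c) x = qf (upper c') x) : c = c' := by
  funext s
  induction s using Sym2.ind with
  | _ i j =>
    rcases eq_or_ne i j with rfl | hij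
    · rw [← qf_single c, h, qf_single]
    · have h3 := h (Pi.single i 1 + Pi.single j 1)
      rw [qf_add, qf_add, h, h, add_right_inj, bl_single_single _ hij, bl_single_single _ hij] at h3
      exact h3

theorem qf_eq_of_diag {ι : Type*} [Fintype ι] (a b : Matrix ι ι S) (hd : ∀ i, a i i = b i i)
    (ho : ∀ i j, a i j + a j i = b i j + b j i) (y : ι → S) : qf a y = qf b y := by
  classical
  rw [← sub_eq_zero]
  simp only [qf, dotProduct, Matrix.mulVec, Finset.mul_sum, ← Finset.sum_sub_distrib]
  rw [← Fintype.sum_prod_type']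
  refine Finset.sum_involution (fun p _ => p.swap) ?_ ?_ (fun p _ => Finset.mem_univ _)
    (fun p _ => p.swap_swap)
  · rintro ⟨i, j⟩ _
    simp only [Prod.swap_prod_mk]
    linear_combination (y i * y j) * ho i j
  · rintro ⟨i, j⟩ _ hne he
    obtain rfl : j = i := congrArg Prod.fst he
    exact absurd (by rw [hd]; ring) hne

theorem qf_upper_subst (c : Sym2 (Fin n) → S) (G : Matrix (Fin n) (Fin n) S) (x : Fin n → S) :
    qf (upper (subst c G)) x = qf (upper c) (G *ᵥ x) := by
  rw [qf_mulVec]
  refine qf_eq_of_diag _ _ (fun i => ?_) (fun i j => ?_) x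
  · rw [show upper (subst c G) i i = subst c G (Sym2.mk i i) by simp [upper], subst_mk, if_pos rfl]
    simp only [Matrix.mul_apply, Matrix.transpose_apply, Finset.sum_mul]
    rw [Finset.sum_comm]
    exact Finset.sum_congr rfl fun k _ => Finset.sum_congr rfl fun l _ => by ring
  · have h := congrFun (congrFun (polarMatAt_eq_upper (subst c G)) i) j
    rw [polarMatAt_subst, polarMatAt_eq_upper, Matrix.add_apply, Matrix.transpose_apply] at h
    rw [← h, Matrix.mul_add, Matrix.add_mul, Matrix.add_apply]
    congr 1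
    rw [show (Gᵀ * upper c * G) j i = (Gᵀ * upper c * G)ᵀ i j from rfl, Matrix.transpose_mul, Matrix.transpose_mul,
      Matrix.transpose_transpose, Matrix.mul_assoc]

theorem subst_subst (c : Sym2 (Fin n) → S) (G H : Matrix (Fin n) (Fin n) S) :
    subst (subst c G) H = subst c (G * H) :=
  coeff_ext fun x => by rw [qf_upper_subst, qf_upper_subst, qf_upper_subst, Matrix.mulVec_mulVec]

theorem subst_one (c : Sym2 (Fin n) → S) : subst c 1 = c :=
  coeff_ext fun x => by rw [qf_upper_subst, Matrix.one_mulVec]

theorem subst_smul_one (c : Sym2 (Fin n) → S) (r : S) (s : Sym2 (Fin n)) :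
    subst c (r • (1 : Matrix (Fin n) (Fin n) S)) s = r ^ 2 * c s := by
  induction s using Sym2.ind with
  | _ i j =>
    have hcol : ∀ k, (fun l => (r • (1 : Matrix (Fin n) (Fin n) S)) l k) = r • Pi.single k (1 : S) := fun k => by
      funext l; simp [Matrix.one_apply, Pi.single_apply]
    rcases eq_or_ne i j with rfl | h
    · rw [subst_diag, hcol, qf_smul, qf_single]
    · rw [subst_off _ _ h, hcol, hcol, bl_smul_left, bl_smul_right, bl_single_single _ h]; ring

theorem subst_eq_iff (c : Sym2 (Fin n) → S) (G : Matrix (Fin n) (Fin n) S) :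
    subst c G = c ↔ ∀ x, qf (upper c) (G *ᵥ x) = qf (upper c) x :=
  ⟨fun h x => by rw [← qf_upper_subst, h], fun h => coeff_ext fun x => by rw [qf_upper_subst, h]⟩

theorem det_sq_of_subst {c : Sym2 (Fin n) → S} (hc : IsUnit (polarMatAt c).det) {G : Matrix (Fin n) (Fin n) S}
    (h : subst c G = c) : G.det ^ 2 = 1 := by
  have e := congrArg Matrix.det (polarMatAt_subst c G)
  rw [h, Matrix.det_mul, Matrix.det_mul, Matrix.det_transpose] at e
  refine hc.mul_right_cancel ?_
  linear_combination -e

theorem det_sq_of_subst_odd {m : ℕ} {c : Sym2 (Fin (2 * m + 1)) → S} (hc : IsUnit (hd c))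
    {G : Matrix (Fin (2 * m + 1)) (Fin (2 * m + 1)) S} (h : subst c G = c) : G.det ^ 2 = 1 := by
  have e := hd_subst c G
  rw [h] at e
  exact hc.mul_right_cancel (by rw [one_mul]; exact e.symm)

/-- The first order effect of a substitution near the identity. -/
theorem subst_one_add (I : Ideal S) (hI : ∀ a ∈ I, ∀ b ∈ I, a * b = 0) (c e : Sym2 (Fin n) → S)
    (he : ∀ s, e s ∈ I) (η : Matrix (Fin n) (Fin n) S) (hη : ∀ k l, η k l ∈ I) (i j : Fin n) :
    subst (c + e) (1 + η) (Sym2.mk i j) = c (Sym2.mk i j) + e (Sym2.mk i j) +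
      if i = j then (polarMatAt c * η) i i else (polarMatAt c * η) i j + (polarMatAt c * η) j i := by
  have hcol : ∀ k, (fun r => (1 + η) r k) = Pi.single k 1 + fun r => η r k := fun k => by
    funext r; simp [Matrix.one_apply, Pi.single_apply]
  have hPe : ∀ k l, ((polarMatAt (c + e)) * η) k l = (polarMatAt c * η) k l := fun k l => by
    simp only [Matrix.mul_apply]
    refine Finset.sum_congr rfl fun r _ => ?_
    simp only [polarMatAt, Matrix.of_apply, Pi.add_apply]
    split_ifs
    · linear_combination 2 * hI _ (he _) _ (hη r l)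
    · linear_combination hI _ (he _) _ (hη r l)
  have hqq : ∀ k l, (fun r => η r k) ⬝ᵥ (upper (c + e)) *ᵥ (fun r => η r l) = 0 := fun k l =>
    Finset.sum_eq_zero fun r _ => by
      simp only [Matrix.mulVec, dotProduct, Finset.mul_sum]
      refine Finset.sum_eq_zero fun t _ => ?_
      rw [mul_left_comm]
      rw [hI _ (hη r k) _ (hη t l), mul_zero]
  have hb : ∀ k l, bl (upper (c + e)) (Pi.single k 1) (fun r => η r l) = (polarMatAt c * η) k l := fun k l => by
    rw [bl_single_left, ← hPe]; rfl
  rcases eq_or_ne i j with rfl | h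
  · rw [subst_diag, hcol, qf_add, qf_single, hb, if_pos rfl,
      show qf (upper (c + e)) (fun r => η r i) = 0 from hqq i i]
    simp
  · rw [subst_off _ _ h, hcol, hcol, bl_add_left, bl_add_right, bl_add_right, bl_single_single _ h, hb, if_neg h,
      bl_comm _ (fun r => η r i) (Pi.single j 1), hb,
      show bl (upper (c + e)) (fun r => η r i) (fun r => η r j) = 0 by rw [bl_eq, hqq, hqq, add_zero]]
    simp only [Pi.add_apply, add_zero]
    abel

/-- The index of the square in the split form. -/
noncomputable def oz (m : ℕ) : Fin (2 * m + 1) := (oe m).symm none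

/-- The partner of an index. -/
noncomputable def fl (m : ℕ) (k : Fin (2 * m + 1)) : Fin (2 * m + 1) := (oe m).symm (flipI (oe m k))

theorem fl_fl (m : ℕ) (k : Fin (2 * m + 1)) : fl m (fl m k) = k := by simp [fl, flipI_flipI]

theorem fl_oz (m : ℕ) : fl m (oz m) = oz m := by simp [fl, oz, flipI]

theorem oe_eq_none_iff {m : ℕ} (k : Fin (2 * m + 1)) : oe m k = none ↔ k = oz m := by
  rw [oz, Equiv.eq_symm_apply]

theorem fl_ne_oz {m : ℕ} {k : Fin (2 * m + 1)} (h : k ≠ oz m) : fl m k ≠ oz m := fun e => h (by
  rw [← fl_fl m k, e, fl_oz])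

theorem fl_ne_self {m : ℕ} {k : Fin (2 * m + 1)} (h : k ≠ oz m) : fl m k ≠ k := fun e => by
  have e' := congrArg (oe m) e
  rw [fl, Equiv.apply_symm_apply] at e'
  rcases hk : oe m k with _ | (x | x)
  · exact h ((oe_eq_none_iff k).1 hk)
  all_goals simp [hk, flipI] at e'

theorem oe_eq_flipI_iff {m : ℕ} (i k : Fin (2 * m + 1)) : oe m k = flipI (oe m i) ↔ k = fl m i := by
  rw [fl, Equiv.eq_symm_apply]

theorem polarMatAt_coefSplit {m : ℕ} (i k : Fin (2 * m + 1)) :
    polarMatAt (coefSplit S m) i k =
      if i = oz m then (if k = oz m then 2 else 0) else (if k = fl m i then 1 else 0) := by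
  simp only [polarMatAt, Matrix.of_apply, coefSplit_mk, oe_eq_none_iff, oe_eq_flipI_iff]
  rcases eq_or_ne i k with rfl | hik
  · by_cases hi : i = oz m
    · simp [hi]
    · simp [hi, Ne.symm (fl_ne_self hi)]
  · simp only [if_neg hik]
    by_cases hi : i = oz m
    · subst hi; rw [fl_oz, if_pos rfl, if_neg (Ne.symm hik), if_neg (Ne.symm hik)]
    · rw [if_neg hi]

theorem polarMatAt_coefSplit_mul {m : ℕ} (η : Matrix (Fin (2 * m + 1)) (Fin (2 * m + 1)) S)
    (i j : Fin (2 * m + 1)) :
    (polarMatAt (coefSplit S m) * η) i j = if i = oz m then 2 * η (oz m) j else η (fl m i) j := by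
  simp only [Matrix.mul_apply, polarMatAt_coefSplit]
  split_ifs with hi <;> simp

/-- The split form with a variable coefficient of the square. -/
noncomputable def coefT {m : ℕ} (t : S) : Sym2 (Fin (2 * m + 1)) → S :=
  Function.update (coefSplit S m) (Sym2.mk (oz m) (oz m)) t

theorem coefSplit_oz {m : ℕ} : coefSplit S m (Sym2.mk (oz m) (oz m)) = 1 := by
  simp [coefSplit_mk, oz]

theorem map_coefT {T : Type*} [CommRing T] (f : S →+* T) {m : ℕ} (t : S) :
    f ∘ coefT (m := m) t = coefT (f t) := by
  funext s
  simp only [Function.comp_apply, coefT, Function.update_apply, apply_ite f, ← congrFun (map_coefSplit f m) s]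

theorem hd_coefT {m : ℕ} (t : S) : hd (coefT (m := m) t) = t * hd (coefSplit S m) := by
  classical
  have key : hd (coefT (m := m) (MvPolynomial.X () : (MvPolynomial Unit ℤ))) = MvPolynomial.X () * hd (coefSplit (MvPolynomial Unit ℤ) m) := by
    refine mul_left_cancel₀ (show (2 : (MvPolynomial Unit ℤ)) ≠ 0 from fun h => by
      simpa [map_ofNat] using congrArg (MvPolynomial.eval (fun _ => (0 : ℤ))) h) ?_
    rw [two_mul_hd, mul_left_comm, two_mul_hd]
    have hP : polarMatAt (coefT (m := m) (MvPolynomial.X () : (MvPolynomial Unit ℤ))) =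
        Matrix.diagonal (fun k => if k = oz m then (MvPolynomial.X () : (MvPolynomial Unit ℤ)) else 1) * polarMatAt (coefSplit (MvPolynomial Unit ℤ) m) := by
      ext i j
      rw [Matrix.diagonal_mul]
      by_cases hi : i = oz m
      · subst hi
        rw [if_pos rfl, polarMatAt_coefSplit, if_pos rfl]
        by_cases hj : j = oz m
        · subst hj
          simp [polarMatAt, coefT, mul_comm]
        · rw [if_neg hj, mul_zero]
          have := polarMatAt_coefSplit (S := (MvPolynomial Unit ℤ)) (oz m) j
          simp only [polarMatAt, Matrix.of_apply, if_neg (Ne.symm hj), if_pos rfl, if_neg hj] at this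
          simp [polarMatAt, coefT, Ne.symm hj, Function.update_apply, Sym2.eq_iff, hj, this]
      · rw [if_neg hi, one_mul]
        simp [polarMatAt, coefT, Function.update_apply, Sym2.eq_iff, hi]
    rw [hP, Matrix.det_mul, Matrix.det_diagonal, Finset.prod_ite_eq' Finset.univ (oz m)]
    simp
  have h := congrArg (MvPolynomial.eval₂Hom (Int.castRingHom S) (fun _ => t)) key
  rwa [map_hd, map_mul, map_hd, map_coefT, map_coefSplit, MvPolynomial.eval₂Hom_X'] at h

section Lift

variable {A B : Type*} [CommRing A] [CommRing B] (π : A →+* B) (hπ : Function.Surjective π)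
  (hker : RingHom.ker π ^ 2 = ⊥)

include hker in
theorem ker_mul_eq_zero {a b : A} (ha : a ∈ RingHom.ker π) (hb : b ∈ RingHom.ker π) : a * b = 0 := by
  have := Ideal.mul_mem_mul ha hb
  rwa [← sq, hker, Ideal.mem_bot] at this

include hπ hker in
/-- Lifting isometries when the polar form is perfect. -/
theorem exists_lift_of_isUnit (c : Sym2 (Fin n) → A) (hc : IsUnit (polarMatAt c).det)
    (G : Matrix (Fin n) (Fin n) B) (hG : subst (π ∘ c) G = π ∘ c) :
    ∃ G' : Matrix (Fin n) (Fin n) A, G'.map π = G ∧ subst c G' = c := by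
  classical
  choose G₁ hG₁ using fun k l => hπ (G k l)
  have hmap : (Matrix.of G₁).map π = G := Matrix.ext hG₁
  set e := subst c (Matrix.of G₁) - c with he
  have hmem : ∀ s, e s ∈ RingHom.ker π := fun s => by
    have h := congrFun ((map_subst π c (Matrix.of G₁)).trans (by rw [hmap, hG])) s
    rw [RingHom.mem_ker, he, Pi.sub_apply, map_sub, sub_eq_zero]
    exact h
  let Z : Matrix (Fin n) (Fin n) A := Matrix.of fun i j => if i ≤ j then -e (Sym2.mk i j) else 0
  let η := (polarMatAt c)⁻¹ * Z
  have hη : ∀ k l, η k l ∈ RingHom.ker π := fun k l => by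
    rw [show η k l = ∑ r, (polarMatAt c)⁻¹ k r * Z r l from rfl]
    refine Ideal.sum_mem _ fun r _ => Ideal.mul_mem_left _ _ ?_
    simp only [Z, Matrix.of_apply]
    split_ifs
    · exact neg_mem (hmem _)
    · exact Ideal.zero_mem _
  have hPη : polarMatAt c * η = Z := by rw [← Matrix.mul_assoc, Matrix.mul_nonsing_inv _ hc, Matrix.one_mul]
  refine ⟨Matrix.of G₁ * (1 + η), ?_, ?_⟩
  · rw [Matrix.map_mul, hmap, show (1 + η).map π = 1 by
      ext k l; simp [Matrix.one_apply, apply_ite π, RingHom.mem_ker.1 (hη k l)], Matrix.mul_one]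
  · rw [← subst_subst, show subst c (Matrix.of G₁) = c + e by rw [he]; abel]
    funext s
    induction s using Sym2.ind with
    | _ i j =>
      rw [subst_one_add (RingHom.ker π) (fun a ha b hb => ker_mul_eq_zero π hker ha hb) c e hmem η hη, hPη]
      rcases lt_trichotomy i j with h | h | h
      · simp [Z, h.ne, h.le, h.not_ge]
      · subst h; simp [Z]
      · simp [Z, h.ne', h.le, h.not_ge, Sym2.eq_swap]

include hπ hker in
/-- Lifting isometries of determinant one of the split odd form. -/
theorem exists_lift_split {m : ℕ} (G : Matrix (Fin (2 * m + 1)) (Fin (2 * m + 1)) B)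
    (hG : subst (coefSplit B m) G = coefSplit B m) (hdet : G.det = 1) :
    ∃ G' : Matrix (Fin (2 * m + 1)) (Fin (2 * m + 1)) A,
      G'.map π = G ∧ subst (coefSplit A m) G' = coefSplit A m ∧ G'.det = 1 := by
  classical
  have hI : ∀ a ∈ RingHom.ker π, ∀ b ∈ RingHom.ker π, a * b = 0 :=
    fun a ha b hb => ker_mul_eq_zero π hker ha hb
  choose G₁ hG₁ using fun k l => hπ (G k l)
  have hmap : (Matrix.of G₁).map π = G := Matrix.ext hG₁
  set c := coefSplit A m with hc
  set e := subst c (Matrix.of G₁) - c with he
  have hmem : ∀ s, e s ∈ RingHom.ker π := fun s => by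
    have h := congrFun ((map_subst π c (Matrix.of G₁)).trans (by rw [hmap, hc, map_coefSplit, hG])) s
    rw [RingHom.mem_ker, he, Pi.sub_apply, map_sub, sub_eq_zero]
    exact h.trans (congrFun (map_coefSplit π m) s).symm
  let W : Fin (2 * m + 1) → Fin (2 * m + 1) → A := fun i j =>
    if j = oz m then -e (Sym2.mk i j) else if i ≤ j then -e (Sym2.mk i j) else 0
  let η : Matrix (Fin (2 * m + 1)) (Fin (2 * m + 1)) A :=
    Matrix.of fun k j => if k = oz m then 0 else W (fl m k) j
  have hη : ∀ k l, η k l ∈ RingHom.ker π := fun k l => by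
    simp only [η, W, Matrix.of_apply]
    split_ifs <;> first | exact Ideal.zero_mem _ | exact neg_mem (hmem _)
  have hPη : ∀ i j, (polarMatAt c * η) i j = if i = oz m then 0 else W i j := fun i j => by
    rw [hc, polarMatAt_coefSplit_mul]
    split_ifs with hi
    · simp [η]
    · simp [η, fl_ne_oz hi, fl_fl]
  set ε := e (Sym2.mk (oz m) (oz m))
  have hc'' : subst c (Matrix.of G₁ * (1 + η)) = coefT (1 + ε) := by
    rw [← subst_subst, show subst c (Matrix.of G₁) = c + e by rw [he]; abel]
    funext s
    induction s using Sym2.ind with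
    | _ i j =>
      rw [subst_one_add _ hI c e hmem η hη, hPη, hPη, hPη]
      rcases eq_or_ne i j with rfl | hij
      · rcases eq_or_ne i (oz m) with rfl | hi
        · simp [coefT, hc, coefSplit_oz, ε]
        · simp [coefT, hi, W, ← hc, Function.update_apply]
      · rw [if_neg hij]
        have hne : Sym2.mk i j ≠ Sym2.mk (oz m) (oz m) := fun h => by
          rcases Sym2.eq_iff.1 h with ⟨a, b⟩ | ⟨a, b⟩ <;> exact hij (a.trans b.symm)
        rw [show coefT (1 + ε) (Sym2.mk i j) = c (Sym2.mk i j) by simp [coefT, hne, ← hc]]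
        rcases eq_or_ne i (oz m) with hi | hi
        · subst hi
          simp [W, Ne.symm hij, Sym2.eq_swap]
        · rcases eq_or_ne j (oz m) with hj | hj
          · subst hj
            simp [W, hi]
          · rw [if_neg hi, if_neg hj]
            rcases lt_trichotomy i j with h | h | h
            · simp [W, h.le, h.not_ge, hi, hj]
            · exact absurd h hij
            · simp [W, h.le, h.not_ge, hi, hj, Sym2.eq_swap]
  have hmap' : (Matrix.of G₁ * (1 + η)).map π = G := by
    rw [Matrix.map_mul, hmap, show (1 + η).map π = 1 by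
      ext k l; simp [Matrix.one_apply, apply_ite π, RingHom.mem_ker.1 (hη k l)], Matrix.mul_one]
  set δ := (Matrix.of G₁ * (1 + η)).det - 1 with hδ
  have hδmem : δ ∈ RingHom.ker π := by
    rw [RingHom.mem_ker, hδ, map_sub, map_one, RingHom.map_det, RingHom.mapMatrix_apply, hmap', hdet, sub_self]
  have hεδ : ε = 2 * δ := by
    have h := hd_subst c (Matrix.of G₁ * (1 + η))
    rw [hc'', hd_coefT, ← hc] at h
    have h' := (isUnit_hd_coefSplit A m).mul_right_cancel h
    rw [show (Matrix.of G₁ * (1 + η)).det = 1 + δ by rw [hδ]; ring] at h'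
    linear_combination h' + hI δ hδmem δ hδmem
  let η₂ : Matrix (Fin (2 * m + 1)) (Fin (2 * m + 1)) A := Matrix.single (oz m) (oz m) (-δ)
  have hη₂ : ∀ k l, η₂ k l ∈ RingHom.ker π := fun k l => by
    simp only [η₂, Matrix.single_apply]
    split_ifs
    · exact neg_mem hδmem
    · exact Ideal.zero_mem _
  refine ⟨Matrix.of G₁ * (1 + η) * (1 + η₂), ?_, ?_, ?_⟩
  · rw [Matrix.map_mul, hmap', show (1 + η₂).map π = 1 by
      ext k l; simp [Matrix.one_apply, apply_ite π, RingHom.mem_ker.1 (hη₂ k l)], Matrix.mul_one]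
  · rw [← subst_subst, hc'']
    let e' : Sym2 (Fin (2 * m + 1)) → A := Function.update 0 (Sym2.mk (oz m) (oz m)) ε
    have he' : coefT (1 + ε) = c + e' := by
      funext s
      simp only [coefT, e', Pi.add_apply, Function.update_apply, Pi.zero_apply, ← hc]
      split_ifs with h
      · rw [h, hc, coefSplit_oz]
      · rw [add_zero]
    rw [he']
    funext s
    induction s using Sym2.ind with
    | _ i j =>
      rw [subst_one_add _ hI c e' (fun s => by
        simp only [e', Function.update_apply, Pi.zero_apply]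
        split_ifs
        · exact hmem _
        · exact Ideal.zero_mem _) η₂ hη₂]
      have hP2 : ∀ k l, (polarMatAt c * η₂) k l = if k = oz m ∧ l = oz m then -(2 * δ) else 0 := fun k l => by
        rw [hc, polarMatAt_coefSplit_mul]
        by_cases hk : k = oz m
        · by_cases hl : l = oz m
          · simp [η₂, hk, hl]
          · simp [η₂, hk, hl, Matrix.single_apply, Ne.symm hl]
        · simp [η₂, hk, Matrix.single_apply, Ne.symm (fl_ne_oz hk)]
      rw [hP2, hP2, hP2]
      rcases eq_or_ne i j with rfl | hij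
      · rcases eq_or_ne i (oz m) with rfl | hi
        · simp [e', hεδ]
        · simp [e', hi, Function.update_apply]
      · have hne : Sym2.mk i j ≠ Sym2.mk (oz m) (oz m) := fun h => by
          rcases Sym2.eq_iff.1 h with ⟨a, b⟩ | ⟨a, b⟩ <;> exact hij (a.trans b.symm)
        have h1 : ¬ (i = oz m ∧ j = oz m) := fun h => hij (h.1.trans h.2.symm)
        have h2 : ¬ (j = oz m ∧ i = oz m) := fun h => h1 ⟨h.2, h.1⟩
        simp [e', hne, hij, h1, h2]
  · rw [Matrix.det_mul, show (Matrix.of G₁ * (1 + η)).det = 1 + δ by rw [hδ]; ring,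
      show (1 + η₂) = Matrix.diagonal (fun k => if k = oz m then 1 - δ else 1) by
        ext k l
        simp only [η₂, Matrix.add_apply, Matrix.one_apply, Matrix.single_apply, Matrix.diagonal_apply]
        by_cases hkl : k = l
        · subst hkl
          by_cases hk : k = oz m <;> simp [hk, eq_comm, sub_eq_add_neg]
        · have : ¬ (oz m = k ∧ oz m = l) := fun h => hkl (h.1.symm.trans h.2)
          simp [hkl, this],
      Matrix.det_diagonal, Finset.prod_ite_eq' Finset.univ (oz m)]
    simp only [Finset.mem_univ, if_true]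
    linear_combination -hI δ hδmem δ hδmem

end Lift

end QSplit86
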