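import Groth.Agent.QSplit86.GrpRep
import Groth.Agent.QSplit86.SmoothLift
import Groth.Agent.QSplit86.Subst
import Groth.Agent.QSplit86.BaseChange

/-!
# The orthogonal groups as affine group schemes
-/

set_option autoImplicit false
set_option maxHeartbeats 800000
set_option synthInstance.maxHeartbeats 100000
universe u

open CategoryTheory AlgebraicGeometry TensorProduct Matrix Groth.Agent.S17014 Groth.Agent.QuadCentre
open scoped MonObj

namespace QSplit86

variable {R : Type u} [CommRing R] {n : ℕ}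

/-- The coefficients of a form on the standard module. -/
noncomputable def stdCoeffs (Q : QuadraticForm R (Fin n → R)) : Sym2 (Fin n) → R :=
  QuadGrp.coeffs (Pi.basisFun R (Fin n)) (LinearEquiv.refl R R) Q

/-- The base changed coefficients. -/
noncomputable def cA (A : Type*) [CommRing A] [Algebra R A] (c : Sym2 (Fin n) → R) : Sym2 (Fin n) → A :=
  algebraMap R A ∘ c

theorem map_cA {A B : Type*} [CommRing A] [Algebra R A] [CommRing B] [Algebra R B] (φ : A →ₐ[R] B)
    (c : Sym2 (Fin n) → R) : φ.toRingHom ∘ cA A c = cA B c := funext fun s => φ.commutes (c s)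

theorem polarMatAt_map {S T : Type*} [CommRing S] [CommRing T] (f : S →+* T) (c : Sym2 (Fin n) → S) :
    (polarMatAt c).map f = polarMatAt (f ∘ c) := by
  ext i j
  simp only [polarMatAt, Matrix.map_apply, Matrix.of_apply, Function.comp_apply]
  split_ifs <;> simp [map_ofNat]

theorem isUnit_det_cA (A : Type*) [CommRing A] [Algebra R A] {c : Sym2 (Fin n) → R}
    (h : IsUnit (polarMatAt c).det) : IsUnit (polarMatAt (cA A c)).det := by
  rw [cA, ← polarMatAt_map, ← RingHom.mapMatrix_apply, ← RingHom.map_det]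
  exact h.map _

theorem isUnit_det_polar_of_regular (Q : QuadraticForm R (Fin n → R)) (hQ : QuadGrp.IsRegular Q) :
    IsUnit (polarMatAt (stdCoeffs Q)).det := by
  classical
  rw [← Matrix.isUnit_iff_isUnit_det, ← Matrix.mulVec_surjective_iff_isUnit]
  intro y
  let b := Pi.basisFun R (Fin n)
  obtain ⟨w, hw⟩ := hQ.2 (b.constr R y)
  refine ⟨w, funext fun i => ?_⟩
  have h := LinearMap.congr_fun hw (b i)
  rw [Module.Basis.constr_basis, QuadraticMap.polarBilin_apply_apply, QuadraticMap.polar_comm] at h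
  have hq : ∀ x, Q x = qf (upper (stdCoeffs Q)) x := fun x => by
    rw [stdCoeffs, qf_upper_coeffs]
    congr 1
    conv_lhs => rw [← (Pi.basisFun R (Fin n)).sum_repr x]
    simp
  rw [← bl_single_left, ← h, QuadraticMap.polar, hq, hq, hq, qf_add, Pi.basisFun_apply]
  ring

section Points

variable (Q : QuadraticForm R (Fin n → R)) (A : Type u) [CommRing A] [Algebra R A]

/-- The standard basis after base change. -/
noncomputable def stdBasis : Module.Basis (Fin n) A (A ⊗[R] (Fin n → R)) :=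
  Algebra.TensorProduct.basis A (Pi.basisFun R (Fin n))

theorem baseChangeForm_eq_qf (z : A ⊗[R] (Fin n → R)) :
    QuadGrp.baseChangeForm A Q z = qf (upper (cA A (stdCoeffs Q))) ((stdBasis A).equivFun z) := by
  rw [baseChangeForm_basis A (Pi.basisFun R (Fin n)) Q (upper (stdCoeffs Q)) (qf_upper_coeffs _ Q),
    upper_map]
  rfl

theorem mem_orth_iff (g : (A ⊗[R] (Fin n → R)) ≃ₗ[A] (A ⊗[R] (Fin n → R))) :
    g ∈ QuadGrp.orth Q A ↔
      subst (cA A (stdCoeffs Q)) (LinearMap.toMatrix (stdBasis A) (stdBasis A) g.toLinearMap) =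
        cA A (stdCoeffs Q) := by
  classical
  have hg : ∀ z, (stdBasis (R := R) A).equivFun (g z) =
      LinearMap.toMatrix (stdBasis A) (stdBasis A) g.toLinearMap *ᵥ (stdBasis A).equivFun z := fun z =>
    (LinearMap.toMatrix_mulVec_repr (stdBasis A) (stdBasis A) g.toLinearMap z).symm
  rw [subst_eq_iff]
  constructor
  · intro h x
    obtain ⟨z, rfl⟩ := (stdBasis (R := R) A).equivFun.surjective x
    rw [← hg, ← baseChangeForm_eq_qf, ← baseChangeForm_eq_qf]
    exact congrArg (AlgebraTensorModule.rid R A A) (h z)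
  · intro h z
    apply (AlgebraTensorModule.rid R A A).injective
    show QuadGrp.baseChangeForm A Q (g z) = QuadGrp.baseChangeForm A Q z
    rw [baseChangeForm_eq_qf, baseChangeForm_eq_qf, hg, h]

theorem det_eq_det_toMatrix (g : (A ⊗[R] (Fin n → R)) ≃ₗ[A] (A ⊗[R] (Fin n → R))) :
    (LinearMap.toMatrix (stdBasis A) (stdBasis A) g.toLinearMap).det = (LinearEquiv.det g : A) := by
  rw [LinearMap.det_toMatrix, LinearEquiv.coe_det]

theorem repr_rTensor {B : Type u} [CommRing B] [Algebra R B] (φ : A →ₐ[R] B) (z : A ⊗[R] (Fin n → R)) (i : Fin n) :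
    (stdBasis B).repr (LinearMap.rTensor (Fin n → R) φ.toLinearMap z) i = φ ((stdBasis A).repr z i) := by
  induction z with
  | zero => simp
  | add x y hx hy => simp [map_add, hx, hy]
  | tmul a v => simp [stdBasis, Algebra.TensorProduct.basis_repr_tmul, map_mul, AlgHom.commutes]

/-- The linear automorphism of an invertible matrix. -/
noncomputable def ofMatrix (G : Matrix (Fin n) (Fin n) A) (hG : IsUnit G.det) :
    (A ⊗[R] (Fin n → R)) ≃ₗ[A] (A ⊗[R] (Fin n → R)) :=
  Matrix.toLinearEquiv (stdBasis A) G hG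

theorem toMatrix_ofMatrix (G : Matrix (Fin n) (Fin n) A) (hG : IsUnit G.det) :
    LinearMap.toMatrix (stdBasis A) (stdBasis A) (ofMatrix (R := R) A G hG).toLinearMap = G :=
  LinearMap.toMatrix_toLin (stdBasis A) (stdBasis A) G

theorem ofMatrix_toMatrix (g : (A ⊗[R] (Fin n → R)) ≃ₗ[A] (A ⊗[R] (Fin n → R)))
    (h : IsUnit (LinearMap.toMatrix (stdBasis A) (stdBasis A) g.toLinearMap).det) :
    ofMatrix A _ h = g := by
  apply LinearEquiv.toLinearMap_injective
  exact Matrix.toLin_toMatrix (stdBasis A) (stdBasis A) g.toLinearMap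

end Points

section Eqs

variable (c : Sym2 (Fin n) → R)

/-- The universal matrix. -/
noncomputable def univG : Matrix (Fin n) (Fin n) (MvPolynomial (Fin n × Fin n) R) :=
  Matrix.of fun i j => MvPolynomial.X (i, j)

/-- The equations of the orthogonal group. -/
noncomputable def eqO (s : Sym2 (Fin n)) : MvPolynomial (Fin n × Fin n) R :=
  subst (MvPolynomial.C ∘ c) univG s - MvPolynomial.C (c s)

/-- The equations of the naive special orthogonal group. -/
noncomputable def eqSO : Option (Sym2 (Fin n)) → MvPolynomial (Fin n × Fin n) R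
  | some s => eqO c s
  | none => univG.det - 1

variable (A : Type u) [CommRing A] [Algebra R A]

/-- The matrix of a tuple. -/
def toG (x : Fin n × Fin n → A) : Matrix (Fin n) (Fin n) A := Matrix.of fun i j => x (i, j)

theorem map_univG (x : Fin n × Fin n → A) :
    (univG (R := R)).map (MvPolynomial.aeval x).toRingHom = toG A x := by
  ext i j
  simp [univG, toG]

theorem eqO_zero_iff (x : Fin n × Fin n → A) :
    (∀ s, MvPolynomial.aeval x (eqO c s) = 0) ↔ subst (cA A c) (toG A x) = cA A c := by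
  have h : ∀ s, MvPolynomial.aeval x (subst (MvPolynomial.C ∘ c) univG s) = subst (cA A c) (toG A x) s := by
    intro s
    have := congrFun (map_subst (MvPolynomial.aeval x).toRingHom (MvPolynomial.C ∘ c) univG) s
    rw [map_univG, show (MvPolynomial.aeval x).toRingHom ∘ (MvPolynomial.C ∘ c) = cA A c from
      funext fun s => MvPolynomial.aeval_C x (c s)] at this
    exact this
  simp only [eqO, map_sub, h, MvPolynomial.aeval_C, sub_eq_zero, funext_iff]
  exact Iff.rfl

theorem eqSO_zero_iff (x : Fin n × Fin n → A) :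
    (∀ s, MvPolynomial.aeval x (eqSO c s) = 0) ↔
      subst (cA A c) (toG A x) = cA A c ∧ (toG A x).det = 1 := by
  rw [Option.forall, and_comm]
  refine and_congr (eqO_zero_iff c A x) ?_
  show (MvPolynomial.aeval x).toRingHom (univG.det - 1) = 0 ↔ _
  rw [map_sub, map_one, sub_eq_zero, RingHom.map_det, RingHom.mapMatrix_apply, map_univG]

theorem toG_comp {B : Type u} [CommRing B] [Algebra R B] (φ : A →ₐ[R] B) (x : Fin n × Fin n → A) :
    toG B (φ ∘ x) = (toG A x).map φ.toRingHom := rfl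

end Eqs

section Iso

variable (Q : QuadraticForm R (Fin n → R))
  (hdet : ∀ (A : Type u) [CommRing A] [Algebra R A] (G : Matrix (Fin n) (Fin n) A),
    subst (cA A (stdCoeffs Q)) G = cA A (stdCoeffs Q) → IsUnit G.det)

/-- Points of the orthogonal group as solutions. -/
noncomputable def orthPts (A : Type u) [CommRing A] [Algebra R A] :
    ↥(QuadGrp.orth Q A) ≃ {x : Fin n × Fin n → A // ∀ s, MvPolynomial.aeval x (eqO (stdCoeffs Q) s) = 0} where
  toFun g := ⟨fun p => LinearMap.toMatrix (stdBasis A) (stdBasis A) g.1.toLinearMap p.1 p.2,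
    (eqO_zero_iff _ A _).2 ((mem_orth_iff Q A g.1).1 g.2)⟩
  invFun x := ⟨ofMatrix A (toG A x.1) (hdet A _ ((eqO_zero_iff _ A _).1 x.2)),
    (mem_orth_iff Q A _).2 (by rw [toMatrix_ofMatrix]; exact (eqO_zero_iff _ A _).1 x.2)⟩
  left_inv g := Subtype.ext (ofMatrix_toMatrix A g.1 (hdet A _ ((mem_orth_iff Q A g.1).1 g.2)))
  right_inv x := Subtype.ext (funext fun p => by
    show LinearMap.toMatrix (stdBasis A) (stdBasis A)
      (ofMatrix A (toG A x.1) (hdet A _ ((eqO_zero_iff _ A _).1 x.2))).toLinearMap p.1 p.2 = _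
    rw [toMatrix_ofMatrix]; rfl)

/-- Points of the naive special orthogonal group as solutions. -/
noncomputable def sorthPts (A : Type u) [CommRing A] [Algebra R A] :
    ↥(QuadGrp.sorth' Q A) ≃ {x : Fin n × Fin n → A // ∀ s, MvPolynomial.aeval x (eqSO (stdCoeffs Q) s) = 0} where
  toFun g := ⟨fun p => LinearMap.toMatrix (stdBasis A) (stdBasis A) g.1.toLinearMap p.1 p.2,
    (eqSO_zero_iff _ A _).2 ⟨(mem_orth_iff Q A g.1).1 g.2.1, (det_eq_det_toMatrix A g.1).trans (by
      rw [show LinearEquiv.det g.1 = 1 from g.2.2, Units.val_one])⟩⟩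
  invFun x := ⟨ofMatrix A (toG A x.1) (hdet A _ ((eqSO_zero_iff _ A _).1 x.2).1),
    (mem_orth_iff Q A _).2 (by rw [toMatrix_ofMatrix]; exact ((eqSO_zero_iff _ A _).1 x.2).1),
    Units.ext (by rw [← det_eq_det_toMatrix, toMatrix_ofMatrix, Units.val_one]; exact ((eqSO_zero_iff _ A _).1 x.2).2)⟩
  left_inv g := Subtype.ext (ofMatrix_toMatrix A g.1 (hdet A _ ((mem_orth_iff Q A g.1).1 g.2.1)))
  right_inv x := Subtype.ext (funext fun p => by
    show LinearMap.toMatrix (stdBasis A) (stdBasis A)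
      (ofMatrix A (toG A x.1) (hdet A _ ((eqSO_zero_iff _ A _).1 x.2).1)).toLinearMap p.1 p.2 = _
    rw [toMatrix_ofMatrix]; rfl)

include hdet in
theorem exists_iso_orth (G : Over (Spec (CommRingCat.of R))) [GrpObj G] (D : QuadGrp.OrthRep Q G) :
    Nonempty (QuadGrp.specOver R (EqRing (eqO (stdCoeffs Q))) ≅ G) := by
  refine exists_iso_spec G _
    (fun A _ _ => ((D.pts A).toEquiv.trans (orthPts Q hdet A)).trans (eqRingPts _ A).symm) fun A B _ _ _ _ φ y => ?_
  apply (eqRingPts _ B).injective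
  refine Subtype.ext ?_
  simp only [Equiv.trans_apply, Equiv.apply_symm_apply, eqRingPts_comp]
  funext p
  show LinearMap.toMatrix (stdBasis B) (stdBasis B) _ p.1 p.2 = φ (LinearMap.toMatrix (stdBasis A) (stdBasis A) _ p.1 p.2)
  rw [LinearMap.toMatrix_apply, LinearMap.toMatrix_apply]
  have hb : ∀ (C : Type u) [CommRing C] [Algebra R C] (j : Fin n),
      stdBasis (R := R) C j = (1 : C) ⊗ₜ[R] Pi.basisFun R (Fin n) j := fun C _ _ j =>
    Algebra.TensorProduct.basis_apply _ j
  rw [hb, hb, ← repr_rTensor]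
  exact congrArg (fun z => (stdBasis B).repr z p.1) (D.natural A B φ y (Pi.basisFun R (Fin n) p.2))

include hdet in
theorem exists_iso_sorth (G : Over (Spec (CommRingCat.of R))) [GrpObj G] (D : QuadGrp.SOrth'Rep Q G) :
    Nonempty (QuadGrp.specOver R (EqRing (eqSO (stdCoeffs Q))) ≅ G) := by
  refine exists_iso_spec G _
    (fun A _ _ => ((D.pts A).toEquiv.trans (sorthPts Q hdet A)).trans (eqRingPts _ A).symm) fun A B _ _ _ _ φ y => ?_
  apply (eqRingPts _ B).injective
  refine Subtype.ext ?_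
  simp only [Equiv.trans_apply, Equiv.apply_symm_apply, eqRingPts_comp]
  funext p
  show LinearMap.toMatrix (stdBasis B) (stdBasis B) _ p.1 p.2 = φ (LinearMap.toMatrix (stdBasis A) (stdBasis A) _ p.1 p.2)
  rw [LinearMap.toMatrix_apply, LinearMap.toMatrix_apply]
  have hb : ∀ (C : Type u) [CommRing C] [Algebra R C] (j : Fin n),
      stdBasis (R := R) C j = (1 : C) ⊗ₜ[R] Pi.basisFun R (Fin n) j := fun C _ _ j =>
    Algebra.TensorProduct.basis_apply _ j
  rw [hb, hb, ← repr_rTensor]
  exact congrArg (fun z => (stdBasis B).repr z p.1) (D.natural A B φ y (Pi.basisFun R (Fin n) p.2))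

end Iso

theorem smooth_eqO {c : Sym2 (Fin n) → R} (hc : IsUnit (polarMatAt c).det) :
    Algebra.Smooth R (EqRing (eqO c)) := by
  haveI := finitePresentation_eqRing (eqO c)
  refine smooth_of_lift_local fun A B _ _ _ _ _ π hπ hker f => ?_
  set x := eqRingPts (eqO c) B f
  have hx := (eqO_zero_iff c B x.1).1 x.2
  rw [← map_cA π c] at hx
  obtain ⟨G', hG', hs⟩ := exists_lift_of_isUnit π.toRingHom hπ hker (cA A c) (isUnit_det_cA A hc) _ hx
  let g : EqRing (eqO c) →ₐ[R] A := (eqRingPts (eqO c) A).symm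
    ⟨fun p => G' p.1 p.2, (eqO_zero_iff c A _).2 hs⟩
  refine ⟨g, (eqRingPts (eqO c) B).injective (Subtype.ext ?_)⟩
  rw [eqRingPts_comp, Equiv.apply_symm_apply]
  funext p
  exact congrFun (congrFun hG' p.1) p.2

theorem smooth_eqSO_of_two {c : Sym2 (Fin n) → R} (hc : IsUnit (polarMatAt c).det) (h2 : IsUnit (2 : R)) :
    Algebra.Smooth R (EqRing (eqSO c)) := by
  haveI := finitePresentation_eqRing (eqSO c)
  refine smooth_of_lift_local fun A B _ _ _ _ _ π hπ hker f => ?_
  set x := eqRingPts (eqSO c) B f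
  obtain ⟨hx, hd⟩ := (eqSO_zero_iff c B x.1).1 x.2
  rw [← map_cA π c] at hx
  obtain ⟨G', hG', hs⟩ := exists_lift_of_isUnit π.toRingHom hπ hker (cA A c) (isUnit_det_cA A hc) _ hx
  have hd' : G'.det = 1 := by
    set δ := G'.det - 1 with hδ
    have hδm : δ ∈ RingHom.ker π.toRingHom := by
      rw [RingHom.mem_ker, hδ, map_sub, map_one, RingHom.map_det, RingHom.mapMatrix_apply, hG', hd, sub_self]
    have h1 := det_sq_of_subst (isUnit_det_cA A hc) hs
    have h0 := ker_mul_eq_zero π.toRingHom hker hδm hδm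
    rw [show G'.det = 1 + δ by rw [hδ]; ring] at h1 ⊢
    have h20 : (2 : A) * δ = 0 := by linear_combination h1 - h0
    have h2A : IsUnit (2 : A) := by simpa [map_ofNat] using h2.map (algebraMap R A)
    rw [h2A.mul_right_eq_zero.1 h20, add_zero]
  let g : EqRing (eqSO c) →ₐ[R] A := (eqRingPts (eqSO c) A).symm
    ⟨fun p => G' p.1 p.2, (eqSO_zero_iff c A _).2 ⟨hs, hd'⟩⟩
  refine ⟨g, (eqRingPts (eqSO c) B).injective (Subtype.ext ?_)⟩
  rw [eqRingPts_comp, Equiv.apply_symm_apply]
  funext p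
  exact congrFun (congrFun hG' p.1) p.2

/-- A flat splitting in coefficients. -/
theorem exists_split_coeffs {m : ℕ} (c : Sym2 (Fin (2 * m + 1)) → R) (hc : IsUnit (hd c)) :
    ∃ (T : Type u) (_ : CommRing T) (_ : Algebra R T), Module.FaithfullyFlat R T ∧
      ∃ K : Matrix (Fin (2 * m + 1)) (Fin (2 * m + 1)) T, IsUnit K.det ∧ cA T c = subst (coefSplit T m) K := by
  classical
  obtain ⟨T, _, _, hff, -, v, H, hsurj, hform⟩ := exists_split_odd_global c hc
  set aT := (upper c).map (algebraMap R T) with haT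
  let G : Matrix (Fin (2 * m + 1)) (Fin (2 * m + 1)) T :=
    Matrix.of fun r k => (oe m k).elim (v r) (fun j => H r j)
  have hGx : ∀ x, G *ᵥ x = x ((oe m).symm none) • v + H *ᵥ (fun j => x ((oe m).symm (some j))) := by
    intro x
    funext r
    simp only [Matrix.mulVec, dotProduct, G, Matrix.of_apply, Pi.add_apply, Pi.smul_apply, smul_eq_mul]
    rw [← (oe m).symm.sum_comp, Fintype.sum_option]
    simp [mul_comm]
  have hG : IsUnit G.det := by
    rw [← Matrix.isUnit_iff_isUnit_det, ← Matrix.mulVec_surjective_iff_isUnit]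
    intro y
    obtain ⟨x, z, hxz⟩ := hsurj y
    refine ⟨fun k => (oe m k).elim x z, ?_⟩
    rw [hGx]
    simp [← hxz]
  have hqs : ∀ x : Fin (2 * m + 1) → T, qf (upper (coefSplit T m)) x =
      x ((oe m).symm none) ^ 2 + hyp (fun j => x ((oe m).symm (some j))) := by
    intro x
    let a : Matrix (Fin (2 * m + 1)) (Fin (2 * m + 1)) T := Matrix.of fun r s => match oe m r, oe m s with
      | none, none => 1
      | some (.inl i), some (.inr j) => if i = j then 1 else 0
      | _, _ => 0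
    rw [qf_eq_of_diag (upper (coefSplit T m)) a (fun r => ?_) (fun r s => ?_) x]
    · simp only [qf, dotProduct, Matrix.mulVec, a, Matrix.of_apply, hyp]
      rw [← (oe m).symm.sum_comp]
      conv_lhs => enter [2, o]; rw [← (oe m).symm.sum_comp]
      simp only [Fintype.sum_option, Fintype.sum_sum_type, Equiv.apply_symm_apply]
      simp [sq, ite_mul, mul_ite]
    · simp only [upper, Matrix.of_apply, if_true, coefSplit_mk, a]
      rcases hr : oe m r with _ | (i | i) <;> simp
    · have h := congrFun (congrFun (polarMatAt_eq_upper (coefSplit T m)) r) s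
      rw [Matrix.add_apply, Matrix.transpose_apply, polarMatAt_coefSplit] at h
      rw [← h]
      simp only [a, Matrix.of_apply, ← oe_eq_none_iff, ← oe_eq_flipI_iff]
      rcases hr : oe m r with _ | (i | i) <;> rcases hs : oe m s with _ | (j | j) <;>
        simp [flipI, eq_comm, one_add_one_eq_two]
  have hsub : subst (cA T c) G = coefSplit T m := coeff_ext fun x => by
    rw [qf_upper_subst, cA, ← upper_map, ← haT, hGx, hform, hqs]
  refine ⟨T, inferInstance, inferInstance, hff, G⁻¹, Matrix.isUnit_nonsing_inv_det _ hG, ?_⟩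
  rw [← hsub, subst_subst, Matrix.mul_nonsing_inv _ hG, subst_one]

/-- Lifting isometries of determinant one for a form split by a change of coordinates. -/
theorem exists_lift_of_split {A B : Type*} [CommRing A] [CommRing B] (π : A →+* B) (hπ : Function.Surjective π)
    (hker : RingHom.ker π ^ 2 = ⊥) {m : ℕ} (c : Sym2 (Fin (2 * m + 1)) → A)
    (K : Matrix (Fin (2 * m + 1)) (Fin (2 * m + 1)) A) (hK : IsUnit K.det) (hc : c = subst (coefSplit A m) K)
    (G : Matrix (Fin (2 * m + 1)) (Fin (2 * m + 1)) B) (hG : subst (π ∘ c) G = π ∘ c) (hdet : G.det = 1) :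
    ∃ G' : Matrix (Fin (2 * m + 1)) (Fin (2 * m + 1)) A, G'.map π = G ∧ subst c G' = c ∧ G'.det = 1 := by
  set Kb := K.map π with hKb
  set Ki := (K⁻¹).map π with hKi
  have h1 : Kb * Ki = 1 := by
    rw [hKb, hKi, ← Matrix.map_mul, Matrix.mul_nonsing_inv _ hK, Matrix.map_one π (map_zero π) (map_one π)]
  have h2 : Ki * Kb = 1 := by
    rw [hKb, hKi, ← Matrix.map_mul, Matrix.nonsing_inv_mul _ hK, Matrix.map_one π (map_zero π) (map_one π)]
  have hcb : π ∘ c = subst (coefSplit B m) Kb := by rw [hc, map_subst, map_coefSplit]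
  obtain ⟨G₀, hm₀, hs₀, hd₀⟩ := exists_lift_split π hπ hker (Kb * G * Ki)
    (by rw [← subst_subst, ← subst_subst, ← hcb, hG, hcb, subst_subst, h1, subst_one])
    (by rw [Matrix.det_mul, Matrix.det_mul, hdet, mul_one, ← Matrix.det_mul, h1, Matrix.det_one])
  refine ⟨K⁻¹ * G₀ * K, ?_, ?_, ?_⟩
  · rw [Matrix.map_mul, Matrix.map_mul, hm₀, ← hKb, ← hKi, Matrix.mul_assoc Kb G Ki, ← Matrix.mul_assoc Ki Kb,
      h2, Matrix.one_mul, Matrix.mul_assoc, h2, Matrix.mul_one]
  · rw [hc, subst_subst, ← Matrix.mul_assoc, ← Matrix.mul_assoc, Matrix.mul_nonsing_inv _ hK, Matrix.one_mul,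
      ← subst_subst, hs₀]
  · rw [Matrix.det_mul, Matrix.det_mul, hd₀, mul_one, ← Matrix.det_mul, Matrix.nonsing_inv_mul _ hK, Matrix.det_one]

theorem smooth_eqSO_odd {m : ℕ} {c : Sym2 (Fin (2 * m + 1)) → R} (hc : IsUnit (hd c)) :
    Algebra.Smooth R (EqRing (eqSO c)) := by
  haveI := finitePresentation_eqRing (eqSO c)
  obtain ⟨T, _, _, _, K, hK, hcK⟩ := exists_split_coeffs c hc
  refine smooth_of_lift _ T fun A B _ _ _ _ _ _ _ π hπ hker f => ?_
  have hA : cA A c = subst (coefSplit A m) (K.map (algebraMap T A)) := by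
    rw [← map_coefSplit (algebraMap T A), ← map_subst, ← hcK]
    funext s
    exact IsScalarTower.algebraMap_apply R T A (c s)
  have hKA : IsUnit (K.map (algebraMap T A)).det := by
    rw [← RingHom.mapMatrix_apply, ← RingHom.map_det]; exact hK.map _
  set x := eqRingPts (eqSO c) B f
  obtain ⟨hx, hd'⟩ := (eqSO_zero_iff c B x.1).1 x.2
  rw [← map_cA π c] at hx
  obtain ⟨G', hG', hs, hdG⟩ := exists_lift_of_split π.toRingHom hπ hker _ _ hKA hA _ hx hd'
  let g : EqRing (eqSO c) →ₐ[R] A := (eqRingPts (eqSO c) A).symm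
    ⟨fun p => G' p.1 p.2, (eqSO_zero_iff c A _).2 ⟨hs, hdG⟩⟩
  refine ⟨g, (eqRingPts (eqSO c) B).injective (Subtype.ext ?_)⟩
  rw [eqRingPts_comp, Equiv.apply_symm_apply]
  funext p
  exact congrFun (congrFun hG' p.1) p.2

open Polynomial in
theorem not_smooth_eqO_of_field {m : ℕ} {c : Sym2 (Fin (2 * m + 1)) → R} (hc : IsUnit (hd c))
    (k : Type u) [Field k] [Algebra R k] (h2 : (2 : k) = 0) :
    ¬ Algebra.Smooth R (EqRing (eqO c)) := by
  intro hsm
  have h2k : (2 : k[X]) = 0 := by
    rw [show (2 : k[X]) = Polynomial.C (2 : k) from (map_ofNat Polynomial.C 2).symm, h2, map_zero]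
  let I3 : Ideal k[X] := Ideal.span {X ^ 3}
  let I2 : Ideal k[X] := Ideal.span {X ^ 2}
  have hle : I3 ≤ I2 := Ideal.span_singleton_le_span_singleton.2 ⟨X, by ring⟩
  let π : (k[X] ⧸ I3) →ₐ[R] (k[X] ⧸ I2) := Ideal.Quotient.factorₐ R hle
  have hπ : Function.Surjective π := Ideal.Quotient.factor_surjective hle
  have hsq : IsNilpotent (RingHom.ker (π : (k[X] ⧸ I3) →+* (k[X] ⧸ I2))) := ⟨2, by
    have hk : RingHom.ker (π : (k[X] ⧸ I3) →+* (k[X] ⧸ I2)) ≤ I2.map (Ideal.Quotient.mk I3) := fun a ha => by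
      obtain ⟨p, rfl⟩ := Ideal.Quotient.mk_surjective a
      exact Ideal.mem_map_of_mem _ (Ideal.Quotient.eq_zero_iff_mem.1 ha)
    refine le_bot_iff.1 ((Ideal.pow_right_mono hk 2).trans ?_)
    rw [← Ideal.map_pow (Ideal.Quotient.mk I3), Ideal.span_singleton_pow, Ideal.map_span, Set.image_singleton]
    rw [show Ideal.Quotient.mk I3 ((X ^ 2) ^ 2) = 0 from
      Ideal.Quotient.eq_zero_iff_mem.2 (Ideal.mem_span_singleton.2 ⟨X, by ring⟩)]
    simp⟩
  let s : k[X] ⧸ I2 := Ideal.Quotient.mk I2 (1 + X)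
  have hs : s ^ 2 = 1 := by
    rw [← map_pow, ← map_one (Ideal.Quotient.mk I2), Ideal.Quotient.eq]
    exact Ideal.mem_span_singleton.2 ⟨1, by linear_combination (X : k[X]) * h2k⟩
  let x : Fin (2 * m + 1) × Fin (2 * m + 1) → k[X] ⧸ I2 := fun p => if p.1 = p.2 then s else 0
  have hxG : toG _ x = s • (1 : Matrix (Fin (2 * m + 1)) (Fin (2 * m + 1)) (k[X] ⧸ I2)) := by
    ext i j; by_cases h : i = j <;> simp [toG, x, h, Matrix.smul_apply, smul_eq_mul]
  let f : EqRing (eqO c) →ₐ[R] k[X] ⧸ I2 := (eqRingPts (eqO c) _).symm ⟨x, (eqO_zero_iff c _ x).2 (by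
    funext t; rw [hxG, subst_smul_one, hs]; exact one_mul _)⟩
  let g : EqRing (eqO c) →ₐ[R] k[X] ⧸ I3 := Algebra.FormallySmooth.liftOfSurjective f π hπ hsq
  have hg : π.comp g = f := Algebra.FormallySmooth.comp_liftOfSurjective f π hπ hsq
  set y := eqRingPts (eqO c) _ g with hy
  have hyx : π ∘ y.1 = x := by
    rw [hy, ← eqRingPts_comp, hg]
    exact congrArg Subtype.val ((eqRingPts (eqO c) _).apply_symm_apply _)
  have hsub := (eqO_zero_iff c _ y.1).1 y.2
  have hd1 : (toG _ y.1).det ^ 2 = 1 :=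
    det_sq_of_subst_odd (by rw [cA, ← map_hd]; exact hc.map _) hsub
  obtain ⟨p, hp⟩ := Ideal.Quotient.mk_surjective (toG _ y.1).det
  have hp' : Ideal.Quotient.mk I2 p = s ^ (2 * m + 1) := by
    have : π (toG _ y.1).det = (toG _ x).det := by
      rw [← hyx, toG_comp, ← AlgHom.coe_toRingHom, RingHom.map_det, RingHom.mapMatrix_apply]; rfl
    rw [← hp, hxG, Matrix.det_smul, Matrix.det_one, mul_one, Fintype.card_fin] at this
    exact this
  rw [pow_succ, pow_mul, hs, one_pow, one_mul, Ideal.Quotient.eq, Ideal.mem_span_singleton] at hp'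
  obtain ⟨q, hq⟩ := hp'
  rw [← hp, ← map_pow, ← map_one (Ideal.Quotient.mk I3), Ideal.Quotient.eq, Ideal.mem_span_singleton] at hd1
  obtain ⟨r, hr⟩ := hd1
  have hz : (X : k[X]) ^ 2 = X ^ 3 * (r - X * q ^ 2) := by
    linear_combination hr - (p + 1 + X + X ^ 2 * q) * hq - (X + X ^ 2 * q + X ^ 3 * q) * h2k
  have hc2 := congrArg (fun t => Polynomial.coeff t 2) hz
  simp [Polynomial.coeff_X_pow_mul'] at hc2

theorem not_smooth_eqO {m : ℕ} {c : Sym2 (Fin (2 * m + 1)) → R} (hc : IsUnit (hd c)) (h2 : ¬ IsUnit (2 : R)) :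
    ¬ Algebra.Smooth R (EqRing (eqO c)) := by
  obtain ⟨J, hJ, hJ2⟩ := exists_max_ideal_of_mem_nonunits h2
  haveI : J.IsMaximal := hJ
  refine not_smooth_eqO_of_field hc J.ResidueField ?_
  rw [← map_ofNat (algebraMap R J.ResidueField) 2, Ideal.algebraMap_residueField_eq_zero]
  exact hJ2

end QSplit86
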