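import Mathlib.LinearAlgebra.QuadraticForm.Basic
import Mathlib.LinearAlgebra.Reflection
import Mathlib.FieldTheory.IsAlgClosed.Basic

/-!
# Generation of orthogonal groups by reflections over algebraically closed fields
-/

set_option autoImplicit false
universe u v

namespace QSplit86.Reflect

open QuadraticMap Module

variable {K : Type u} [Field K] {V : Type v} [AddCommGroup V] [Module K V] (Q : QuadraticForm K V)

/-- The coroot of a vector. -/
noncomputable def coroot (v : V) : Module.Dual K V := (Q v)⁻¹ • polarBilin Q v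

theorem coroot_apply (v w : V) : coroot Q v w = (Q v)⁻¹ * polar Q v w := rfl

theorem polar_self' (v : V) : polar Q v v = 2 * Q v := by
  rw [polar_self, nsmul_eq_mul, Nat.cast_ofNat]

theorem coroot_self {v : V} (hv : Q v ≠ 0) : coroot Q v v = 2 := by
  rw [coroot_apply, polar_self', mul_comm (2 : K), ← mul_assoc, inv_mul_cancel₀ hv, one_mul]

/-- The reflection along a vector of nonzero value. -/
noncomputable def refl (v : V) (hv : Q v ≠ 0) : V ≃ₗ[K] V := Module.reflection (coroot_self Q hv)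

theorem refl_apply (v : V) (hv : Q v ≠ 0) (w : V) : refl Q v hv w = w - ((Q v)⁻¹ * polar Q v w) • v :=
  Module.reflection_apply _ _

theorem refl_mul_self (v : V) (hv : Q v ≠ 0) : refl Q v hv * refl Q v hv = 1 :=
  LinearEquiv.ext (Module.involutive_reflection (coroot_self Q hv))

theorem map_sub_smul (v w : V) (c : K) : Q (w - c • v) = Q w + c * c * Q v - c * polar Q v w := by
  rw [sub_eq_add_neg, ← neg_smul, QuadraticMap.map_add Q, QuadraticMap.map_smul, polar_smul_right, polar_comm Q w v]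
  simp [smul_eq_mul]
  ring

theorem map_refl (v : V) (hv : Q v ≠ 0) (w : V) : Q (refl Q v hv w) = Q w := by
  rw [refl_apply, map_sub_smul]
  field_simp
  ring

theorem refl_apply_ortho {v : V} (hv : Q v ≠ 0) {w : V} (h : polar Q v w = 0) : refl Q v hv w = w := by
  rw [refl_apply, h, mul_zero, zero_smul, sub_zero]

theorem refl_sub_apply {a b : V} (hab : Q a = Q b) (h : Q (a - b) ≠ 0) : refl Q (a - b) h b = a := by
  have hp : polar Q (a - b) b = -Q (a - b) := by
    rw [polar, sub_add_cancel, hab]; ring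
  rw [refl_apply, hp, mul_neg, inv_mul_cancel₀ h, neg_smul, one_smul, sub_neg_eq_add, add_sub_cancel]

theorem map_sub_of_isotropic {a b : V} (ha : Q a = 0) (hb : Q b = 0) : Q (a - b) = -polar Q a b := by
  rw [show a - b = a + (-1 : K) • b by rw [neg_one_smul, sub_eq_add_neg], QuadraticMap.map_add Q,
    QuadraticMap.map_smul, polar_smul_right, ha, hb]
  simp

/-- The monoid generated by reflections along vectors of a subspace. -/
def gen (W : Submodule K V) : Submonoid (V ≃ₗ[K] V) :=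
  Submonoid.closure {g | ∃ v, ∃ hv : Q v ≠ 0, v ∈ W ∧ g = refl Q v hv}

theorem gen_mono {W W' : Submodule K V} (h : W ≤ W') : gen Q W ≤ gen Q W' :=
  Submonoid.closure_mono fun _ ⟨v, hv, hW, hg⟩ => ⟨v, hv, h hW, hg⟩

theorem refl_mem_gen {W : Submodule K V} {v : V} (hv : Q v ≠ 0) (hW : v ∈ W) : refl Q v hv ∈ gen Q W :=
  Submonoid.subset_closure ⟨v, hv, hW, rfl⟩

theorem gen_spec {W : Submodule K V} {g : V ≃ₗ[K] V} (hg : g ∈ gen Q W) :
    (∀ x, Q (g x) = Q x) ∧ (∀ x ∈ W, g x ∈ W) ∧ (∀ x, (∀ w ∈ W, polar Q w x = 0) → g x = x) ∧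
      ∃ g' ∈ gen Q W, g' * g = 1 := by
  refine Submonoid.closure_induction ?_ ?_ ?_ hg
  · rintro _ ⟨v, hv, hW, rfl⟩
    refine ⟨map_refl Q v hv, fun x hx => ?_, fun x hx => refl_apply_ortho Q hv (hx v hW),
      ⟨_, refl_mem_gen Q hv hW, refl_mul_self Q v hv⟩⟩
    rw [refl_apply]; exact W.sub_mem hx (W.smul_mem _ hW)
  · exact ⟨fun x => rfl, fun x hx => hx, fun x _ => rfl, ⟨1, one_mem _, one_mul _⟩⟩
  · rintro a b - - ⟨a1, a2, a3, a', ha', a4⟩ ⟨b1, b2, b3, b', hb', b4⟩
    refine ⟨fun x => (a1 _).trans (b1 x), fun x hx => a2 _ (b2 x hx), fun x hx => ?_, ⟨b' * a', mul_mem hb' ha', ?_⟩⟩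
    · rw [LinearEquiv.mul_apply, b3 x hx, a3 x hx]
    · rw [mul_assoc, ← mul_assoc a', a4, one_mul, b4]

theorem polar_map {g : V ≃ₗ[K] V} (hg : ∀ x, Q (g x) = Q x) (x y : V) : polar Q (g x) (g y) = polar Q x y := by
  rw [polar, polar, ← map_add, hg, hg, hg]

/-- The condition that the radical of the polar form of a subspace contains no isotropic vector. -/
def ND (W : Submodule K V) : Prop := ∀ x ∈ W, Q x = 0 → x ≠ 0 → ∃ y ∈ W, polar Q x y ≠ 0

variable {Q}

theorem exists_partner {W : Submodule K V} (hW : ND Q W) {x : V} (hx : x ∈ W) (hQ : Q x = 0) (hne : x ≠ 0) :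
    ∃ y ∈ W, polar Q x y = 1 ∧ Q y = 0 := by
  obtain ⟨y, hy, hp⟩ := hW x hx hQ hne
  set z := (polar Q x y)⁻¹ • y with hz
  have hz1 : polar Q x z = 1 := by rw [hz, polar_smul_right, smul_eq_mul, inv_mul_cancel₀ hp]
  refine ⟨z - Q z • x, W.sub_mem (W.smul_mem _ hy) (W.smul_mem _ hx), ?_, ?_⟩
  · rw [polar_sub_right, hz1, polar_smul_right, polar_self', hQ]; simp
  · rw [map_sub_smul, hQ, hz1]; ring

/-- The orthogonal of a pair inside a subspace. -/
def perp (Q : QuadraticForm K V) (W : Submodule K V) (e f : V) : Submodule K V :=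
  W ⊓ LinearMap.ker (polarBilin Q e) ⊓ LinearMap.ker (polarBilin Q f)

theorem mem_perp {W : Submodule K V} {e f w : V} :
    w ∈ perp Q W e f ↔ w ∈ W ∧ polar Q e w = 0 ∧ polar Q f w = 0 := by
  simp [perp, Submodule.mem_inf, LinearMap.mem_ker, and_assoc]

section Pair

variable {W : Submodule K V} {e f : V} (he : e ∈ W) (hf : f ∈ W) (he0 : Q e = 0) (hf0 : Q f = 0)
  (hef : polar Q e f = 1)

include he hf he0 hf0 hef

theorem rest_mem {x : V} (hx : x ∈ W) : x - polar Q f x • e - polar Q e x • f ∈ perp Q W e f := by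
  have hfe : polar Q f e = 1 := by rw [polar_comm, hef]
  refine mem_perp.2 ⟨W.sub_mem (W.sub_mem hx (W.smul_mem _ he)) (W.smul_mem _ hf), ?_, ?_⟩ <;>
    simp [polar_sub_right, polar_smul_right, polar_self', he0, hf0, hef, hfe]

theorem nd_perp (hW : ND Q W) : ND Q (perp Q W e f) := fun x hx hQ hne => by
  obtain ⟨hxW, hxe, hxf⟩ := mem_perp.1 hx
  obtain ⟨y, hy, hp⟩ := hW x hxW hQ hne
  refine ⟨_, rest_mem he hf he0 hf0 hef hy, ?_⟩
  rw [polar_sub_right, polar_sub_right, polar_smul_right, polar_smul_right, polar_comm Q x e, polar_comm Q x f,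
    hxe, hxf]
  simpa using hp

/-- Moving an isotropic vector to another. -/
theorem exists_map_eq_left (hW : ND Q W) {e' : V} (he' : e' ∈ W) (he'0 : Q e' = 0) (hne : e' ≠ 0) :
    ∃ s ∈ gen Q W, s e' = e := by
  have key : ∀ a b, a ∈ W → b ∈ W → Q a = 0 → Q b = 0 → polar Q a b ≠ 0 → ∃ s ∈ gen Q W, s b = a := by
    intro a b ha hb ha0 hb0 hp
    have h : Q (a - b) ≠ 0 := by rw [map_sub_of_isotropic Q ha0 hb0]; simpa using hp
    exact ⟨_, refl_mem_gen Q h (W.sub_mem ha hb), refl_sub_apply Q (ha0.trans hb0.symm) h⟩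
  by_cases hp : polar Q e e' = 0
  · obtain ⟨e'', h2, h20, hp1, hp2⟩ : ∃ e'' ∈ W, Q e'' = 0 ∧ polar Q e e'' ≠ 0 ∧ polar Q e'' e' ≠ 0 := by
      by_cases hq : polar Q f e' = 0
      · have hmem : e' ∈ perp Q W e f := mem_perp.2 ⟨he', hp, hq⟩
        obtain ⟨w, hw, hpw⟩ := nd_perp he hf he0 hf0 hef hW e' hmem he'0 hne
        obtain ⟨hwW, hwe, hwf⟩ := mem_perp.1 hw
        refine ⟨f + w - Q w • e, W.sub_mem (W.add_mem hf hwW) (W.smul_mem _ he), ?_, ?_, ?_⟩
        · rw [map_sub_smul, QuadraticMap.map_add Q, he0, hf0, polar_add_right, hef, hwe, hwf]; ring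
        · simp [polar_sub_right, polar_add_right, polar_smul_right, polar_self', he0, hef, hwe]
        · rw [polar_sub_left, polar_add_left, polar_smul_left, hp, hq, polar_comm Q w e']
          simpa using hpw
      · exact ⟨f, hf, hf0, by rw [hef]; exact one_ne_zero, hq⟩
    obtain ⟨s, hs, hse⟩ := key e'' e' h2 he' h20 he'0 hp2
    obtain ⟨t, ht, hte⟩ := key e e'' he h2 he0 h20 hp1
    exact ⟨t * s, mul_mem ht hs, by rw [LinearEquiv.mul_apply, hse, hte]⟩
  · exact key e e' he he' he0 he'0 hp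

/-- Moving the partner of an isotropic vector, fixing the vector. -/
theorem exists_map_eq_right [Infinite K] (hW : ND Q W) {f' : V} (hf' : f' ∈ W) (hf'0 : Q f' = 0)
    (hef' : polar Q e f' = 1) : ∃ s ∈ gen Q W, s e = e ∧ s f' = f := by
  classical
  have key : ∀ a b, a ∈ W → b ∈ W → Q a = 0 → Q b = 0 → polar Q e a = 1 → polar Q e b = 1 → polar Q a b ≠ 0 →
      ∃ s ∈ gen Q W, s e = e ∧ s b = a := by
    intro a b ha hb ha0 hb0 hea heb hp
    have h : Q (a - b) ≠ 0 := by rw [map_sub_of_isotropic Q ha0 hb0]; simpa using hp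
    refine ⟨_, refl_mem_gen Q h (W.sub_mem ha hb), refl_apply_ortho Q h ?_, refl_sub_apply Q (ha0.trans hb0.symm) h⟩
    rw [polar_sub_left, polar_comm Q a e, polar_comm Q b e, hea, heb, sub_self]
  by_cases hp : polar Q f f' = 0
  · set w' := f' - polar Q f f' • e - polar Q e f' • f with hw'def
    have hw' : w' ∈ perp Q W e f := rest_mem he hf he0 hf0 hef hf'
    have hf'eq : f' = f + w' := by rw [hw'def, hp, hef', zero_smul, one_smul, sub_zero, add_sub_cancel]
    obtain ⟨-, hwe, hwf⟩ := mem_perp.1 hw'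
    have hQw' : Q w' = 0 := by
      rw [hf'eq, QuadraticMap.map_add Q, hf0, hwf] at hf'0; simpa using hf'0
    by_cases hne : w' = 0
    · exact ⟨1, one_mem _, rfl, by rw [hf'eq, hne, add_zero]; rfl⟩
    obtain ⟨y, hy, hwy, hy0⟩ := exists_partner (nd_perp he hf he0 hf0 hef hW) hw' hQw' hne
    obtain ⟨t, ht⟩ := Infinite.exists_notMem_finset ({0, 1} : Finset K)
    simp only [Finset.mem_insert, Finset.mem_singleton, not_or] at ht
    obtain ⟨w, hw⟩ : ∃ w, w = y + t • w' := ⟨_, rfl⟩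
    have hwm : w ∈ perp Q W e f := hw ▸ Submodule.add_mem _ hy (Submodule.smul_mem _ _ hw')
    obtain ⟨hwW, hwe', hwf'⟩ := mem_perp.1 hwm
    have hQw : Q w = t := by
      rw [hw, QuadraticMap.map_add Q, QuadraticMap.map_smul, polar_smul_right, hy0, hQw', polar_comm Q y w', hwy]
      simp
    have hww : polar Q w' w = 1 := by
      rw [hw, polar_add_right, polar_smul_right, hwy, polar_self', hQw']; simp
    set f'' := f + w - t • e with hf''
    have hfe : polar Q f e = 1 := by rw [polar_comm, hef]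
    have h1 : Q f'' = 0 := by
      rw [hf'', map_sub_smul, QuadraticMap.map_add Q, he0, hf0, polar_add_right, hef, hwe', hwf', hQw]; ring
    have h2 : polar Q e f'' = 1 := by
      simp [hf'', polar_sub_right, polar_add_right, polar_smul_right, polar_self', he0, hef, hwe']
    have h3 : polar Q f f'' = -t := by
      simp [hf'', polar_sub_right, polar_add_right, polar_smul_right, polar_self', hf0, hfe, hwf']
    have h4 : polar Q f'' f' = 1 - t := by
      rw [hf'eq, hf'', polar_sub_left, polar_smul_left, polar_add_left, polar_add_right, polar_add_right,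
        polar_add_right, polar_self', hf0, hef, hwe, hwf, polar_comm Q w f, hwf', polar_comm Q w w', hww]
      simp
    obtain ⟨hmem'', -⟩ : f'' ∈ W ∧ True := ⟨W.sub_mem (W.add_mem hf hwW) (W.smul_mem _ he), trivial⟩
    obtain ⟨s, hs, hse, hsf⟩ := key f'' f' hmem'' hf' h1 hf'0 h2 hef' (by rw [h4, sub_ne_zero]; exact Ne.symm ht.2)
    obtain ⟨r, hr, hre, hrf⟩ := key f f'' hf hmem'' hf0 h1 hef h2 (by rw [h3, neg_ne_zero]; exact ht.1)
    exact ⟨r * s, mul_mem hr hs, by rw [LinearEquiv.mul_apply, hse, hre],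
      by rw [LinearEquiv.mul_apply, hsf, hrf]⟩
  · exact key f f' hf hf' hf0 hf'0 hef hef' hp

end Pair

theorem exists_isotropic [IsAlgClosed K] {W : Submodule K V} [FiniteDimensional K W]
    (h : 2 ≤ Module.finrank K W) : ∃ e ∈ W, Q e = 0 ∧ e ≠ 0 := by
  let b := Module.finBasis K W
  set i : Fin (Module.finrank K W) := ⟨0, by omega⟩
  set j : Fin (Module.finrank K W) := ⟨1, by omega⟩
  by_cases ha : Q (b i : V) = 0
  · exact ⟨_, (b i).2, ha, fun h0 => b.ne_zero i (Subtype.ext h0)⟩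
  obtain ⟨t, ht⟩ := IsAlgClosed.exists_root
    (Polynomial.C (Q (b i : V)) * Polynomial.X ^ 2 + Polynomial.C (polar Q (b i : V) (b j : V)) * Polynomial.X +
      Polynomial.C (Q (b j : V))) (by rw [Polynomial.degree_quadratic ha]; exact two_ne_zero)
  refine ⟨(b j : V) + t • (b i : V), W.add_mem (b j).2 (W.smul_mem _ (b i).2), ?_, fun h0 => ?_⟩
  · simp only [Polynomial.IsRoot.def, Polynomial.eval_add, Polynomial.eval_mul, Polynomial.eval_C, Polynomial.eval_pow,
      Polynomial.eval_X] at ht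
    rw [QuadraticMap.map_add Q, QuadraticMap.map_smul, polar_smul_right, polar_comm Q (b j : V) (b i : V), smul_eq_mul,
      smul_eq_mul]
    linear_combination ht
  · have h1 : b j + t • b i = 0 := Subtype.ext h0
    have h2 := congrArg (fun w => b.repr w j) h1
    simp [i, j, Finsupp.single_apply] at h2

/-- Every isometry is a product of reflections, over an algebraically closed field. -/
theorem mem_gen_aux [IsAlgClosed K] [FiniteDimensional K V] (k : ℕ) :
    ∀ (W : Submodule K V), Module.finrank K W = k → ND Q W → ∀ D : Submodule K V, D ⊔ W = ⊤ →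
      (∀ d ∈ D, ∀ w ∈ W, polar Q w d = 0) →
      ∀ g : V ≃ₗ[K] V, (∀ x, Q (g x) = Q x) → (∀ w ∈ W, g w ∈ W) → (∀ d ∈ D, g d = d) → g ∈ gen Q W := by
  induction k using Nat.strong_induction_on with
  | _ k ih =>
  intro W hk hW D hsup horth g hg hgW hgD
  have hext : ∀ a b : V ≃ₗ[K] V, (∀ d ∈ D, a d = b d) → (∀ w ∈ W, a w = b w) → a = b := by
    intro a b h1 h2
    refine LinearEquiv.ext fun x => ?_
    obtain ⟨d, hd, w, hw, rfl⟩ := Submodule.mem_sup.1 (hsup ▸ Submodule.mem_top (x := x))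
    rw [map_add, map_add, h1 d hd, h2 w hw]
  rcases le_or_gt 2 k with h2 | h2
  · obtain ⟨e, he, he0, hene⟩ := exists_isotropic (Q := Q) (W := W) (hk.symm ▸ h2)
    obtain ⟨f, hf, hef, hf0⟩ := exists_partner hW he he0 hene
    obtain ⟨s, hs, hse⟩ := exists_map_eq_left he hf he0 hf0 hef hW (hgW e he) ((hg e).trans he0)
      (fun h => hene (g.map_eq_zero_iff.1 h))
    obtain ⟨sQ, sW, sD, s', hs', hss⟩ := gen_spec Q hs
    have hg1 : ∀ x, Q ((s * g) x) = Q x := fun x => (sQ _).trans (hg x)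
    obtain ⟨r, hr, hre, hrf⟩ := exists_map_eq_right he hf he0 hf0 hef hW (f' := (s * g) f) (sW _ (hgW f hf))
      ((hg1 f).trans hf0) (by rw [show e = (s * g) e from hse.symm]; exact (polar_map Q hg1 e f).trans hef)
    obtain ⟨rQ, rW, rD, r', hr', hrr⟩ := gen_spec Q hr
    set g' := r * (s * g) with hg'
    have g'e : g' e = e := by
      rw [hg', LinearEquiv.mul_apply, LinearEquiv.mul_apply, hse, hre]
    have g'f : g' f = f := hrf
    have g'Q : ∀ x, Q (g' x) = Q x := fun x => (rQ _).trans (hg1 x)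
    have g'W : ∀ w ∈ W, g' w ∈ W := fun w hw => rW _ (sW _ (hgW w hw))
    have g'D : ∀ d ∈ D, g' d = d := fun d hd => by
      rw [hg', LinearEquiv.mul_apply, LinearEquiv.mul_apply, hgD d hd, sD d fun w hw => horth d hd w hw,
        rD d fun w hw => horth d hd w hw]
    have hperp : ∀ w ∈ perp Q W e f, g' w ∈ perp Q W e f := fun w hw => by
      obtain ⟨hwW, hwe, hwf⟩ := mem_perp.1 hw
      refine mem_perp.2 ⟨g'W w hwW, ?_, ?_⟩
      · rw [← g'e, polar_map Q g'Q, hwe]
      · rw [← g'f, polar_map Q g'Q, hwf]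
    have hlt : Module.finrank K (perp Q W e f) < k := by
      rw [← hk]
      refine Submodule.finrank_lt_finrank_of_lt (lt_of_le_of_ne (fun w hw => (mem_perp.1 hw).1) fun h => ?_)
      exact one_ne_zero (hef.symm.trans (mem_perp.1 (h.symm ▸ hf : f ∈ perp Q W e f)).2.1)
    have hmem := ih _ hlt (perp Q W e f) rfl (nd_perp he hf he0 hf0 hef hW) (D ⊔ Submodule.span K {e, f}) (by
        rw [eq_top_iff, ← hsup]
        refine sup_le (le_sup_left.trans le_sup_left) fun w hw => ?_
        have : w = (polar Q f w • e + polar Q e w • f) + (w - polar Q f w • e - polar Q e w • f) := by abel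
        rw [this]
        refine Submodule.add_mem_sup (Submodule.mem_sup_right ?_) (rest_mem he hf he0 hf0 hef hw)
        exact Submodule.add_mem _ (Submodule.smul_mem _ _ (Submodule.subset_span (Set.mem_insert _ _)))
          (Submodule.smul_mem _ _ (Submodule.subset_span (Set.mem_insert_of_mem _ rfl))))
      (fun d hd w hw => by
        obtain ⟨hwW, hwe, hwf⟩ := mem_perp.1 hw
        obtain ⟨d1, hd1, d2, hd2, rfl⟩ := Submodule.mem_sup.1 hd
        obtain ⟨a, b, rfl⟩ := Submodule.mem_span_pair.1 hd2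
        rw [polar_add_right, horth d1 hd1 w hwW, polar_add_right, polar_smul_right, polar_smul_right,
          polar_comm Q w e, polar_comm Q w f, hwe, hwf]
        simp)
      g' g'Q hperp (fun d hd => by
        obtain ⟨d1, hd1, d2, hd2, rfl⟩ := Submodule.mem_sup.1 hd
        obtain ⟨a, b, rfl⟩ := Submodule.mem_span_pair.1 hd2
        simp only [map_add, map_smul, g'D d1 hd1, g'e, g'f])
    have : g = s' * (r' * g') := by
      rw [hg', ← mul_assoc r', hrr, one_mul, ← mul_assoc, hss, one_mul]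
    rw [this]
    exact mul_mem hs' (mul_mem hr' (gen_mono Q (fun w hw => (mem_perp.1 hw).1) hmem))
  · interval_cases k
    · rw [hext g 1 hgD fun w hw => ?_]
      · exact one_mem _
      · rw [(Submodule.eq_bot_iff W).1 (Submodule.finrank_eq_zero.1 hk) w hw]; simp
    · obtain ⟨⟨w₀, hw₀⟩, hne, hspan⟩ := finrank_eq_one_iff'.1 hk
      have hne' : w₀ ≠ 0 := fun h => hne (Subtype.ext h)
      have hall : ∀ w ∈ W, ∃ c : K, c • w₀ = w := fun w hw => by
        obtain ⟨c, hc⟩ := hspan ⟨w, hw⟩; exact ⟨c, congrArg Subtype.val hc⟩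
      have hQ0 : Q w₀ ≠ 0 := fun h0 => by
        obtain ⟨y, hy, hp⟩ := hW w₀ hw₀ h0 hne'
        obtain ⟨c, rfl⟩ := hall y hy
        exact hp (by rw [polar_smul_right, polar_self', h0]; simp)
      obtain ⟨c, hc⟩ := hall _ (hgW w₀ hw₀)
      have hc2 : c * c = 1 := by
        have := hg w₀
        rw [← hc, QuadraticMap.map_smul, smul_eq_mul] at this
        exact (mul_eq_right₀ hQ0).1 this
      rcases mul_self_eq_one_iff.1 hc2 with rfl | rfl
      · rw [hext g 1 hgD fun w hw => ?_]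
        · exact one_mem _
        · obtain ⟨a, rfl⟩ := hall w hw
          rw [map_smul, ← hc, one_smul]; rfl
      · rw [hext g (refl Q w₀ hQ0) (fun d hd => ?_) fun w hw => ?_]
        · exact refl_mem_gen Q hQ0 hw₀
        · rw [hgD d hd, refl_apply_ortho Q hQ0 (horth d hd w₀ hw₀)]
        · obtain ⟨a, rfl⟩ := hall w hw
          rw [map_smul, map_smul, ← hc, refl_apply, polar_self', ← mul_assoc, mul_comm (Q w₀)⁻¹ 2, mul_assoc,
            inv_mul_cancel₀ hQ0, mul_one]
          module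

variable (Q) in
theorem mem_gen [IsAlgClosed K] [FiniteDimensional K V] (hQ : ∀ x, Q x = 0 → x ≠ 0 → ∃ y, polar Q x y ≠ 0)
    (g : V ≃ₗ[K] V) (hg : ∀ x, Q (g x) = Q x) : g ∈ gen Q ⊤ :=
  mem_gen_aux _ ⊤ rfl (fun x _ h0 hne => (hQ x h0 hne).imp fun y hy => ⟨trivial, hy⟩) ⊥ (bot_sup_eq _)
    (fun d hd w _ => by rw [(Submodule.mem_bot K).1 hd, polar_zero_right]) g hg (fun _ _ => trivial)
    (fun d hd => by rw [(Submodule.mem_bot K).1 hd, map_zero])

variable (Q) in
/-- The monoid generated by pairs of reflections. -/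
noncomputable def gen2 : Submonoid (V ≃ₗ[K] V) :=
  Submonoid.closure {g | ∃ v w, ∃ hv : Q v ≠ 0, ∃ hw : Q w ≠ 0, g = refl Q v hv * refl Q w hw}

theorem mem_gen2_or {v₀ : V} (hv₀ : Q v₀ ≠ 0) {g : V ≃ₗ[K] V} (hg : g ∈ gen Q (⊤ : Submodule K V)) :
    g ∈ gen2 Q ∨ refl Q v₀ hv₀ * g ∈ gen2 Q := by
  refine Submonoid.closure_induction_left (motive := fun g _ => g ∈ gen2 Q ∨ refl Q v₀ hv₀ * g ∈ gen2 Q)
    (Or.inl (one_mem _)) ?_ hg
  rintro _ ⟨v, hv, -, rfl⟩ g - (h | h)
  · refine Or.inr ?_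
    rw [← mul_assoc]
    exact mul_mem (Submonoid.subset_closure ⟨v₀, v, hv₀, hv, rfl⟩) h
  · refine Or.inl ?_
    rw [← one_mul g, ← refl_mul_self Q v₀ hv₀, mul_assoc (refl Q v₀ hv₀), ← mul_assoc]
    exact mul_mem (Submonoid.subset_closure ⟨v, v₀, hv, hv₀, rfl⟩) h

end QSplit86.Reflect
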