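import Groth.Agent.QSplit86.CliffSmooth

/-!
# The Dickson condition as an equation on the orthogonal group
-/

set_option autoImplicit false
set_option maxRecDepth 4000
set_option maxHeartbeats 800000
set_option synthInstance.maxHeartbeats 200000
universe u v

open TensorProduct CliffordAlgebra Matrix Groth.Agent.S17014 Groth.Agent.QuadCentre

namespace QSplit86

section Abstract

variable {R : Type u} [CommRing R] {M : Type v} [AddCommGroup M] [Module R M] {Q : QuadraticForm R M}

/-- The pairing of two central elements of the even part relative to a pair of vectors. -/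
noncomputable def pp (c v : M) (x y : CliffordAlgebra Q) : CliffordAlgebra Q :=
  (ι Q c * x - x * ι Q c) * (ι Q v * y - y * ι Q v) + (ι Q v * x - x * ι Q v) * (ι Q c * y - y * ι Q c)

/-- An element of the even part which is central there. -/
def EC (x : CliffordAlgebra Q) : Prop :=
  x ∈ evenOdd Q 0 ∧ ∀ y ∈ evenOdd Q 0, y * x = x * y

theorem ec_coe (z : Subalgebra.center R (CliffordAlgebra.even Q)) : EC ((z : CliffordAlgebra.even Q) : CliffordAlgebra Q) :=
  ⟨z.1.2, fun y hy => congrArg Subtype.val (Subalgebra.mem_center_iff.1 z.2 ⟨y, hy⟩)⟩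

theorem EC.exists_coe {x : CliffordAlgebra Q} (hx : EC x) :
    ∃ z : Subalgebra.center R (CliffordAlgebra.even Q), ((z : CliffordAlgebra.even Q) : CliffordAlgebra Q) = x :=
  ⟨⟨⟨x, hx.1⟩, Subalgebra.mem_center_iff.2 fun y => Subtype.ext (hx.2 y.1 y.2)⟩, rfl⟩

namespace Splitting

variable {m : ℕ} (S : Splitting Q m)

theorem H_coe (hm : 1 ≤ m) {x : CliffordAlgebra Q} (hx : EC x) : ∃ a b, S.H x = S.dg a b := by
  obtain ⟨z, rfl⟩ := hx.exists_coe
  exact ⟨_, _, by rw [← S.Zm_eq hm, Zm_tmul, one_smul]⟩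

theorem H_pp {c v : M} (hcv : QuadraticMap.polar Q c v = 1) {x y : CliffordAlgebra Q} {a b a' b' : S.B}
    (hx : S.H x = S.dg a b) (hy : S.H y = S.dg a' b') :
    S.H (pp c v x y) = (-((a - b) * (a' - b'))) • (1 : Matrix (Fin m → Bool) (Fin m → Bool) S.B) := by
  have hK : ∀ (w : M) (a b : S.B) (x : CliffordAlgebra Q), S.H x = S.dg a b →
      S.H (ι Q w * x - x * ι Q w) = S.H (ι Q w) * S.dg (a - b) (b - a) := by
    intro w a b x hx
    rw [map_sub, map_mul, map_mul, hx, S.dg_mul_flip (S.H_flip w), ← mul_sub, dg_sub]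
  have hprod : ∀ w w' : M, S.H (ι Q w) * S.dg (a - b) (b - a) * (S.H (ι Q w') * S.dg (a' - b') (b' - a')) =
      (-((a - b) * (a' - b'))) • (S.H (ι Q w) * S.H (ι Q w')) := by
    intro w w'
    rw [mul_assoc, ← mul_assoc (S.dg _ _), S.dg_mul_flip (S.H_flip w'), mul_assoc (S.H (ι Q w')), dg_mul,
      ← mul_assoc, show S.dg ((b - a) * (a' - b')) ((a - b) * (b' - a')) =
        (-((a - b) * (a' - b'))) • (1 : Matrix (Fin m → Bool) (Fin m → Bool) S.B) by
          rw [← dg_one, dg_smul]; congr 1 <;> ring,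
      mul_smul_comm, mul_one]
  rw [pp, map_add, map_mul, map_mul, hK c a b x hx, hK v a' b' y hy, hK v a b x hx, hK c a' b' y hy, hprod, hprod,
    ← smul_add, ← map_mul S.H, ← map_mul S.H, ← map_add, ι_mul_ι_add_swap, hcv, map_one, map_one]

variable [Module.Free R M] [Module.Finite R M]

include S in
theorem one_mem_span_pp (hm : 1 ≤ m) {c v : M} (hcv : QuadraticMap.polar Q c v = 1) :
    (1 : CliffordAlgebra Q) ∈ Submodule.span R
      {p | ∃ x y : CliffordAlgebra Q, EC x ∧ EC y ∧ p = pp c v x y} := by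
  classical
  haveI := S.ffl
  set f := algebraMap R S.B
  set P := {p | ∃ x y : CliffordAlgebra Q, EC x ∧ EC y ∧ p = pp c v x y}
  let I : Ideal R := (Submodule.span R P).comap (Algebra.linearMap R (CliffordAlgebra Q))
  let δ : S.B ⊗[R] Subalgebra.center R (CliffordAlgebra.even Q) → S.B := fun w =>
    (S.cen hm w).1 - (S.cen hm w).2
  have hδadd : ∀ w w', δ (w + w') = δ w + δ w' := fun w w' => by
    simp only [δ, map_add, Prod.fst_add, Prod.snd_add]; ring
  have hlin : ∀ (r : S.B) z, δ (r ⊗ₜ z) = r * δ (1 ⊗ₜ z) := fun r z => by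
    have : r ⊗ₜ[R] z = r • ((1 : S.B) ⊗ₜ[R] z) := by rw [TensorProduct.smul_tmul', smul_eq_mul, mul_one]
    simp only [δ, this, map_smul, Prod.smul_fst, Prod.smul_snd, smul_eq_mul]; ring
  have hall : ∀ w w', δ w * δ w' ∈ I.map f := by
    intro w w'
    induction w with
    | zero => simp [δ]
    | add x y hx hy => rw [hδadd, add_mul]; exact Ideal.add_mem _ hx hy
    | tmul r z =>
      induction w' with
      | zero => simp [δ]
      | add x y hx hy => rw [hδadd, mul_add]; exact Ideal.add_mem _ hx hy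
      | tmul r' z' =>
        have hH : ∀ z : Subalgebra.center R (CliffordAlgebra.even Q),
            S.H ((z : CliffordAlgebra.even Q) : CliffordAlgebra Q) =
              S.dg (S.cen hm (1 ⊗ₜ z)).1 (S.cen hm (1 ⊗ₜ z)).2 := fun z => by
          rw [← S.Zm_eq hm, Zm_tmul, one_smul]
        have hp := S.H_pp hcv (hH z) (hH z')
        obtain ⟨r₀, hr₀⟩ := exists_algebraMap_of_tmul (B := S.B) (r := -(δ (1 ⊗ₜ z) * δ (1 ⊗ₜ z')))
          (x := pp c v ((z : CliffordAlgebra.even Q) : CliffordAlgebra Q) ((z' : CliffordAlgebra.even Q) : CliffordAlgebra Q))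
          (S.T.injective (by rw [← H_apply, hp, T_tmul, map_one]))
        have hf : f r₀ = -(δ (1 ⊗ₜ z) * δ (1 ⊗ₜ z')) := by
          rw [← hr₀, AlgHom.commutes, IsScalarTower.algebraMap_apply R S.B, Algebra.algebraMap_eq_smul_one,
            ← dg_one, dg_smul, dg_smul, mul_one, mul_one] at hp
          exact (S.dg_injective hm hp).1
        have hmem : r₀ ∈ I := by
          show algebraMap R _ r₀ ∈ Submodule.span R P
          rw [hr₀]
          exact Submodule.subset_span ⟨_, _, ec_coe z, ec_coe z', rfl⟩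
        rw [hlin, hlin r' z', show r * δ (1 ⊗ₜ z) * (r' * δ (1 ⊗ₜ z')) = -(r * r') * f r₀ by rw [hf]; ring]
        exact Ideal.mul_mem_left _ _ (Ideal.mem_map_of_mem f hmem)
  have h1 := hall ((S.cen hm).symm (1, 0)) ((S.cen hm).symm (1, 0))
  simp only [δ, AlgEquiv.apply_symm_apply, sub_zero, mul_one] at h1
  have htop : I = ⊤ := by
    rw [← Ideal.comap_map_eq_self_of_faithfullyFlat (B := S.B) I, (Ideal.eq_top_iff_one _).2 h1, Ideal.comap_top]
  have h : (1 : R) ∈ I := htop ▸ Submodule.mem_top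
  simpa [I] using h

end Splitting

variable [Module.Free R M] [Module.Finite R M] [Nontrivial R]

theorem exists_idem_diff {m : ℕ} (hm : 1 ≤ m) (hM : Module.finrank R M = 2 * m) (hQ : QuadGrp.IsRegular Q)
    {g : M ≃ₗ[R] M} (hg : g ∈ QuadGrp.O Q) {c v : M} (hcv : QuadraticMap.polar Q c v = 1) :
    ∃ e : R, IsIdempotentElem e ∧ (∀ x, EC x → e • (mapEquiv g hg x - x) = 0) ∧
      ∀ x y, EC x → EC y → (mapEquiv g hg x - x) * (mapEquiv g hg y - y) = (-(1 - e)) • pp c v x y := by
  obtain ⟨S⟩ := exists_splitting Q hM hQ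
  haveI := S.ffl
  obtain ⟨a, ha, hG, -⟩ := S.exists_gAut_P0 hm hg ⟨c, v, hcv⟩
  obtain ⟨e, he, hea⟩ := S.exists_idempotent hm hg ha hG
  have hdiff : ∀ x p q, S.H x = S.dg p q →
      S.H (mapEquiv g hg x - x) = S.dg (-((1 - a) * (p - q))) ((1 - a) * (p - q)) := by
    intro x p q hx
    rw [map_sub, ← S.gAut_H, hx,
      show S.dg p q = p • S.dg 1 0 + q • (1 - S.dg 1 0) by
        rw [← S.dg_one, S.dg_sub, S.dg_smul, S.dg_smul, S.dg_add]; simp,
      map_add, map_smul, map_smul, map_sub, map_one, hG, ← S.dg_one, S.dg_sub, S.dg_smul, S.dg_smul, S.dg_add,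
      S.dg_sub, S.dg_smul, S.dg_smul, S.dg_add, S.dg_sub]
    congr 1 <;> ring
  refine ⟨e, he, fun x hx => ?_, fun x y hx hy => ?_⟩
  · obtain ⟨p, q, hpq⟩ := S.H_coe hm hx
    apply S.H_injective
    rw [map_zero, map_smul, hdiff x p q hpq, ← algebraMap_smul S.B e, hea, S.dg_smul]
    have h1 : a * ((1 - a) * (p - q)) = 0 := by linear_combination (-(p - q)) * ha
    rw [mul_neg, h1, neg_zero]
    simp [Splitting.dg]
  · obtain ⟨p, q, hpq⟩ := S.H_coe hm hx
    obtain ⟨p', q', hpq'⟩ := S.H_coe hm hy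
    apply S.H_injective
    rw [map_mul, hdiff x p q hpq, hdiff y p' q' hpq', map_smul, S.H_pp hcv hpq hpq', ← algebraMap_smul S.B (-(1 - e)),
      map_neg, map_sub, map_one, hea, smul_smul, S.dg_mul, ← S.dg_one, S.dg_smul]
    congr 1 <;> linear_combination ((p - q) * (p' - q')) * ha

theorem isDicksonTrivial_of_fixed {m : ℕ} (hm : 1 ≤ m) (hM : Module.finrank R M = 2 * m) (hQ : QuadGrp.IsRegular Q)
    {g : M ≃ₗ[R] M} (hg : g ∈ QuadGrp.O Q) {c v : M} (hcv : QuadraticMap.polar Q c v = 1)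
    (h1 : (1 : CliffordAlgebra Q) ∈ Submodule.span R
      {p | ∃ x y : CliffordAlgebra Q, EC x ∧ EC y ∧ mapEquiv g hg x = x ∧ p = pp c v x y}) :
    QuadGrp.IsDicksonTrivial Q g hg := by
  obtain ⟨S⟩ := exists_splitting Q hM hQ
  haveI := S.ffl
  obtain ⟨a, ha, hG, hfix⟩ := S.exists_gAut_P0 hm hg ⟨c, v, hcv⟩
  have hkey : (1 - a) • S.H 1 = 0 := by
    refine Submodule.span_induction (p := fun p _ => (1 - a) • S.H p = 0) ?_ (by simp)
      (fun p q _ _ hp hq => by rw [map_add, smul_add, hp, hq, add_zero])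
      (fun r p _ hp => by rw [map_smul, smul_comm, hp, smul_zero]) h1
    rintro _ ⟨x, y, hx, hy, hfx, rfl⟩
    obtain ⟨p, q, hpq⟩ := S.H_coe hm hx
    obtain ⟨p', q', hpq'⟩ := S.H_coe hm hy
    have h := congrArg S.H hfx
    rw [← S.gAut_H, hpq, show S.dg p q = p • S.dg 1 0 + q • (1 - S.dg 1 0) by
        rw [← S.dg_one, S.dg_sub, S.dg_smul, S.dg_smul, S.dg_add]; simp,
      map_add, map_smul, map_smul, map_sub, map_one, hG, ← S.dg_one, S.dg_sub, S.dg_sub, S.dg_smul, S.dg_smul,
      S.dg_smul, S.dg_smul, S.dg_add, S.dg_add] at h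
    have h1 := (S.dg_injective hm h).1
    have h0 : (1 - a) * (p - q) = 0 := by linear_combination -h1
    rw [S.H_pp hcv hpq hpq', smul_smul, show (1 - a) * -((p - q) * (p' - q')) = 0 by linear_combination (-(p' - q')) * h0,
      zero_smul]
  rw [map_one, ← S.dg_one, S.dg_smul] at hkey
  have : 1 - a = 0 := by
    have h := (S.dg_injective hm (hkey.trans (by simp [Splitting.dg] : (0 : Matrix _ _ S.B) = S.dg 0 0))).1
    simpa using h
  intro z hz
  rw [map_eq_mapEquiv]
  apply S.H_injective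
  have := hfix ((1 : S.B) ⊗ₜ[R] ⟨z, hz⟩) (by rw [hG, this, ← sub_eq_zero.1 this])
  rw [Splitting.Zm_tmul, one_smul, S.gAut_H] at this
  exact this

end Abstract

section Poly

variable {R : Type u} [CommRing R] {m : ℕ} (Q : QuadraticForm R (Fin (2 * m) → R))

theorem EC.map {A B : Type u} [CommRing A] [Algebra R A] [CommRing B] [Algebra R B] (φ : A →ₐ[R] B)
    {x : CliffordAlgebra (QA Q A)} (hx : EC x) : EC (Fm Q φ x) := by
  refine ⟨Fm_mem_evenOdd Q φ hx.1, fun y hy => ?_⟩
  have h2 : ∀ v w : B ⊗[R] (Fin (2 * m) → R),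
      Commute (ι (QA Q B) v * ι (QA Q B) w) (Fm Q φ x) := by
    intro v w
    induction v with
    | zero => simp [Commute.zero_left]
    | add a b ha hb => rw [map_add, add_mul]; exact ha.add_left hb
    | tmul r a =>
      induction w with
      | zero => simp [Commute.zero_left]
      | add w w' hw hw' => rw [map_add, mul_add]; exact hw.add_left hw'
      | tmul s b =>
        rw [show r ⊗ₜ[R] a = r • LinearMap.rTensor (Fin (2 * m) → R) φ.toLinearMap (1 ⊗ₜ a) by
            simp [TensorProduct.smul_tmul'],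
          show s ⊗ₜ[R] b = s • LinearMap.rTensor (Fin (2 * m) → R) φ.toLinearMap (1 ⊗ₜ b) by
            simp [TensorProduct.smul_tmul'],
          map_smul, map_smul, smul_mul_assoc, mul_smul_comm, ← Fm_ι, ← Fm_ι, ← map_mul]
        exact ((Commute.map (hx.2 _ (ι_mul_ι_mem_evenOdd_zero _ _ _)) (Fm Q φ)).smul_left s).smul_left r
  induction y, hy using CliffordAlgebra.even_induction with
  | algebraMap r => exact Algebra.commutes r _
  | add a b ha hb iha ihb => rw [add_mul, mul_add, iha, ihb]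
  | ι_mul_ι_mul v w y hy ih => exact ((h2 v w).mul_left ih).eq

theorem Fm_mapEquiv {A B : Type u} [CommRing A] [Algebra R A] [CommRing B] [Algebra R B] (φ : A →ₐ[R] B)
    {g : (A ⊗[R] (Fin (2 * m) → R)) ≃ₗ[A] (A ⊗[R] (Fin (2 * m) → R))}
    {gb : (B ⊗[R] (Fin (2 * m) → R)) ≃ₗ[B] (B ⊗[R] (Fin (2 * m) → R))}
    (h : (LinearMap.toMatrix (stdBasis A) (stdBasis A) g.toLinearMap).map φ.toRingHom =
      LinearMap.toMatrix (stdBasis B) (stdBasis B) gb.toLinearMap)
    (hg : g ∈ QuadGrp.O (QA Q A)) (hgb : gb ∈ QuadGrp.O (QA Q B)) (x : CliffordAlgebra (QA Q A)) :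
    Fm Q φ (mapEquiv g hg x) = mapEquiv gb hgb (Fm Q φ x) := by
  induction x using CliffordAlgebra.induction with
  | algebraMap r => rw [AlgEquiv.commutes, Fm_algebraMap, AlgEquiv.commutes]
  | ι v => rw [mapEquiv_ι, Fm_ι, Fm_ι, mapEquiv_ι, rTensor_g φ h]
  | mul a b ha hb => rw [map_mul, map_mul, map_mul, map_mul, ha, hb]
  | add a b ha hb => rw [map_add, map_add, map_add, map_add, ha, hb]

/-- The Dickson condition is given by an equation on the orthogonal group. -/
theorem exists_dickson_poly (hm : 1 ≤ m) (hQ : IsUnit (polarMatAt (stdCoeffs Q)).det) :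
    ∃ P : MvPolynomial (Fin (2 * m) × Fin (2 * m)) R, ∀ (A : Type u) [CommRing A] [Algebra R A]
      (g : (A ⊗[R] (Fin (2 * m) → R)) ≃ₗ[A] (A ⊗[R] (Fin (2 * m) → R))) (hg : g ∈ QuadGrp.O (QA Q A)),
      IsIdempotentElem (MvPolynomial.aeval
          (fun p => LinearMap.toMatrix (stdBasis A) (stdBasis A) g.toLinearMap p.1 p.2) P) ∧
        (QuadGrp.IsDicksonTrivial (QA Q A) g hg ↔
          MvPolynomial.aeval (fun p => LinearMap.toMatrix (stdBasis A) (stdBasis A) g.toLinearMap p.1 p.2) P = 1) := by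
  classical
  rcases subsingleton_or_nontrivial R with hR | hR
  · refine ⟨1, fun A _ _ g hg => ?_⟩
    haveI : Subsingleton A := subsingleton_of_zero_eq_one (by
      rw [← map_zero (algebraMap R A), ← map_one (algebraMap R A), Subsingleton.elim (0 : R) 1])
    haveI : Subsingleton (CliffordAlgebra (QA Q A)) := Module.subsingleton A _
    exact ⟨Subsingleton.elim _ _, iff_of_true (fun z _ => Subsingleton.elim _ _) (Subsingleton.elim _ _)⟩
  set c := stdCoeffs Q
  set U := EqRing (eqO c)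
  set pu := eqRingPts (eqO c) U (AlgHom.id R U)
  have hs := (eqO_zero_iff c U pu.1).1 pu.2
  have hdet : IsUnit (toG U pu.1).det := (isUnit_pow_iff two_ne_zero).1 (by
    rw [det_sq_of_subst (isUnit_det_cA U hQ) hs]; exact isUnit_one)
  let gU := ofMatrix (R := R) U (toG U pu.1) hdet
  have hgU : gU ∈ QuadGrp.O (QA Q U) := (mem_O_iff_subst Q U gU).2 (by rw [toMatrix_ofMatrix]; exact hs)
  let f₀ : U →ₐ[R] R := (eqRingPts (eqO c) R).symm
    ⟨fun p => (1 : Matrix (Fin (2 * m)) (Fin (2 * m)) R) p.1 p.2, (eqO_zero_iff c R _).2 (subst_one _)⟩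
  haveI : Nontrivial U := f₀.toRingHom.domain_nontrivial
  haveI : Module.Free U (U ⊗[R] (Fin (2 * m) → R)) := Module.Free.of_basis (stdBasis (R := R) U)
  haveI : Module.Finite U (U ⊗[R] (Fin (2 * m) → R)) := Module.Finite.of_basis (stdBasis (R := R) U)
  obtain ⟨d, hd⟩ := exists_dual (QA Q U) (isRegular_QA Q U hQ) (stdBasis (R := R) U)
  set i₀ : Fin (2 * m) := ⟨0, by omega⟩
  have hcv : QuadraticMap.polar (QA Q U) (d i₀) (stdBasis (R := R) U i₀) = 1 := by rw [hd, if_pos rfl]
  obtain ⟨e, he, hd0, hdd⟩ := exists_idem_diff hm (finrank_QA U) (isRegular_QA Q U hQ) hgU hcv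
  obtain ⟨SU⟩ := exists_splitting (QA Q U) (finrank_QA U) (isRegular_QA Q U hQ)
  have hspan := SU.one_mem_span_pp hm hcv
  obtain ⟨P, hP⟩ := Ideal.Quotient.mk_surjective e
  refine ⟨P, fun A _ _ g hg => ?_⟩
  set x : Fin (2 * m) × Fin (2 * m) → A :=
    fun p => LinearMap.toMatrix (stdBasis A) (stdBasis A) g.toLinearMap p.1 p.2
  have hxs := (mem_O_iff_subst Q A g).1 hg
  let φ : U →ₐ[R] A := (eqRingPts (eqO c) A).symm ⟨x, (eqO_zero_iff c A x).2 hxs⟩
  have hφx : φ ∘ pu.1 = x := by
    rw [← eqRingPts_comp, AlgHom.comp_id]; simp [φ]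
  have hPe : MvPolynomial.aeval x P = φ e := by
    rw [← hP, ← hφx]
    have : (φ.comp (Ideal.Quotient.mkₐ R _)) = MvPolynomial.aeval (φ ∘ pu.1) :=
      MvPolynomial.algHom_ext fun i => by
        rw [MvPolynomial.aeval_X]; rfl
    exact (AlgHom.congr_fun this P).symm
  rw [hPe]
  refine ⟨he.map φ, ?_⟩
  rcases subsingleton_or_nontrivial A with hA | hA
  · haveI : Subsingleton (CliffordAlgebra (QA Q A)) := Module.subsingleton A _
    exact iff_of_true (fun z _ => Subsingleton.elim _ _) (Subsingleton.elim _ _)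
  haveI : Module.Free A (A ⊗[R] (Fin (2 * m) → R)) := Module.Free.of_basis (stdBasis (R := R) A)
  haveI : Module.Finite A (A ⊗[R] (Fin (2 * m) → R)) := Module.Finite.of_basis (stdBasis (R := R) A)
  have hmap : (LinearMap.toMatrix (stdBasis U) (stdBasis U) gU.toLinearMap).map φ.toRingHom =
      LinearMap.toMatrix (stdBasis A) (stdBasis A) g.toLinearMap := by
    rw [toMatrix_ofMatrix]
    ext i j
    exact congrFun hφx (i, j)
  have hD : ∀ y, (Fm Q φ) (mapEquiv gU hgU y - y) = mapEquiv g hg ((Fm Q φ) y) - (Fm Q φ) y := fun y => by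
    exact (map_sub (Fm Q φ) _ _).trans (congrArg (· - (Fm Q φ) y) (Fm_mapEquiv Q φ hmap hgU hg y))
  have hFs : ∀ (a : U) y, (Fm Q φ) (a • y) = φ a • (Fm Q φ) y := fun a y => by
    rw [show a • y = algebraMap U _ a * y from Algebra.smul_def a y, map_mul, Fm_algebraMap, Algebra.smul_def]
  constructor
  · intro htriv
    have h0 : φ (1 - e) • (Fm Q φ) 1 = 0 := by
      refine Submodule.span_induction (p := fun p _ => φ (1 - e) • (Fm Q φ) p = 0) ?_ (by simp)
        (fun p q _ _ hp hq => by rw [map_add, smul_add, hp, hq, add_zero])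
        (fun r p _ hp => by rw [hFs, smul_comm, hp, smul_zero]) hspan
      rintro _ ⟨y, y', hy, hy', rfl⟩
      obtain ⟨z, hz⟩ := (EC.map Q φ hy).exists_coe
      have h1 : (Fm Q φ) (mapEquiv gU hgU y - y) = 0 := by
        rw [hD, sub_eq_zero, ← hz, ← map_eq_mapEquiv]
        exact htriv z.1 z.2
      have h2 := congrArg (Fm Q φ) (hdd y y' hy hy')
      rw [map_mul, h1, zero_mul, hFs, map_neg, neg_smul] at h2
      exact neg_eq_zero.1 h2.symm
    rw [map_one, Algebra.smul_def, mul_one, ← map_zero (algebraMap A (CliffordAlgebra (QA Q A))), map_sub, map_one] at h0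
    exact (sub_eq_zero.1 (algebraMap_clifford_injective _ h0)).symm
  · intro he1
    refine isDicksonTrivial_of_fixed hm (finrank_QA A) (isRegular_QA Q A hQ) hg
      (c := LinearMap.rTensor (Fin (2 * m) → R) φ.toLinearMap (d i₀))
      (v := LinearMap.rTensor (Fin (2 * m) → R) φ.toLinearMap (stdBasis (R := R) U i₀)) ?_ ?_
    · have h := congrArg (Fm Q φ) (ι_mul_ι_add_swap (Q := QA Q U) (d i₀) (stdBasis (R := R) U i₀))
      rw [hcv, map_one, map_one, map_add, map_mul, map_mul, Fm_ι, Fm_ι, ι_mul_ι_add_swap,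
        ← map_one (algebraMap A (CliffordAlgebra (QA Q A)))] at h
      exact algebraMap_clifford_injective _ h
    · rw [← map_one (Fm Q φ)]
      refine Submodule.span_induction
        (p := fun p _ => (Fm Q φ) p ∈ Submodule.span A _) ?_ (by simp)
        (fun p q _ _ hp hq => by rw [map_add]; exact Submodule.add_mem _ hp hq)
        (fun r p _ hp => by rw [hFs]; exact Submodule.smul_mem _ _ hp) hspan
      rintro _ ⟨y, y', hy, hy', rfl⟩
      refine Submodule.subset_span ⟨(Fm Q φ) y, (Fm Q φ) y', EC.map Q φ hy, EC.map Q φ hy', ?_, ?_⟩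
      · have h := congrArg (Fm Q φ) (hd0 y hy)
        rw [map_zero, hFs, he1, one_smul, hD, sub_eq_zero] at h
        exact h
      · simp only [pp, map_add, map_mul, map_sub, Fm_ι]

end Poly

end QSplit86
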