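import Groth.Agent.QSplit86.SOScheme

/-!
# Smoothness, relative dimension and connected fibres of the special orthogonal groups
-/

set_option autoImplicit false
set_option maxHeartbeats 800000
set_option maxRecDepth 4000
set_option synthInstance.maxHeartbeats 200000
universe u

open CategoryTheory AlgebraicGeometry TensorProduct CliffordAlgebra Matrix Groth.Agent.S17014 Groth.Agent.QuadCentre

namespace QSplit86

variable {R : Type u} [CommRing R] {n : ℕ}

section General

variable {Q : QuadraticForm R (Fin n → R)} {P : MvPolynomial (Fin n × Fin n) R}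

theorem gen2_le_sorth (hP : IsSOEq P Q) (hv : HasConstValues Q P) {K : Type u} [Field K] [Algebra R K]
    {g : (K ⊗[R] (Fin n → R)) ≃ₗ[K] (K ⊗[R] (Fin n → R))} (hg : g ∈ Reflect.gen2 (QA Q K)) :
    g ∈ QuadGrp.sorth Q K := by
  refine Submonoid.closure_induction_right (motive := fun g _ => g ∈ QuadGrp.sorth Q K) (one_mem _) ?_ hg
  rintro g - _ ⟨v, w, hv0, hw0, rfl⟩ h
  exact (mul_pair_rel hP hv h v w hv0 hw0).1

theorem exists_value_ne_zero {K : Type u} [Field K] [Algebra R K] (hn : 1 ≤ n)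
    (hND : ∀ x, QA Q K x = 0 → x ≠ 0 → ∃ y, QuadraticMap.polar (QA Q K) x y ≠ 0) :
    ∃ v, QA Q K v ≠ 0 := by
  by_contra h
  push Not at h
  have hne : stdBasis (R := R) K ⟨0, hn⟩ ≠ 0 := (stdBasis (R := R) K).ne_zero _
  obtain ⟨y, hy⟩ := hND _ (h _) hne
  exact hy (by simp [QuadraticMap.polar, h])

theorem O_of_sorth (hP : IsSOEq P Q) {K : Type u} [Field K] [Algebra R K]
    {g : (K ⊗[R] (Fin n → R)) ≃ₗ[K] (K ⊗[R] (Fin n → R))} (hg : g ∈ QuadGrp.sorth Q K) : g ∈ QuadGrp.O (QA Q K) :=
  (mem_O_iff_subst Q K g).2 ((hP.2 K g).1 hg).1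

theorem connectedSpace_of_reflection (hn : 1 ≤ n) (hP : IsSOEq P Q) (hv : HasConstValues Q P)
    (G : Over (Spec (CommRingCat.of R))) (i : QuadGrp.specOver R (EqRing (eqP (stdCoeffs Q) P)) ≅ G)
    (s : ↥(Spec (CommRingCat.of R)))
    (hND : ∀ (K : Type u) [Field K] [IsAlgClosed K] [Algebra R K] (x : K ⊗[R] (Fin n → R)),
      QA Q K x = 0 → x ≠ 0 → ∃ y, QuadraticMap.polar (QA Q K) x y ≠ 0)
    (hs : ∀ (K : Type u) [Field K] [IsAlgClosed K] [Algebra R K], (∃ v, QA Q K v ≠ 0) →
      ∃ (v₀ : K ⊗[R] (Fin n → R)) (hv₀ : QA Q K v₀ ≠ 0),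
        Reflect.refl (QA Q K) v₀ hv₀ ∉ QuadGrp.sorth Q K ∨ Reflect.refl (QA Q K) v₀ hv₀ = 1) :
    ConnectedSpace ↥(G.hom.fiber s) := by
  haveI := finitePresentation_eqRing (eqP (stdCoeffs Q) P)
  refine connectedSpace_fiber G i s fun K _ _ _ => rel_one_of_gen hP hv fun g hg => ?_
  obtain ⟨v₀, hv₀, h⟩ := hs K (exists_value_ne_zero hn (hND K))
  exact gen2_of_reflection (fun x => hND K x) (fun g hg x => O_of_sorth hP hg x)
    (fun g hg => gen2_le_sorth hP hv hg) hv₀ h hg

theorem smoothOfRelativeDimension_of_iso (G : Over (Spec (CommRingCat.of R))) (A₀ : Type u) [CommRing A₀]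
    [Algebra R A₀] (i : QuadGrp.specOver R A₀ ≅ G) (d : ℕ)
    (h : SmoothOfRelativeDimension d (Spec.map (CommRingCat.ofHom (algebraMap R A₀)))) :
    SmoothOfRelativeDimension d G.hom := by
  obtain ⟨a, b, -, hb, -, hib⟩ := hom_left_comp G A₀ i
  haveI := h
  rw [← hb, ← zero_add d]
  infer_instance

/-- A matrix as a tuple. -/
def flat (A : Type u) [CommRing A] : Matrix (Fin n) (Fin n) A →ₗ[A] (Fin n × Fin n → A) where
  toFun M p := M p.1 p.2
  map_add' _ _ := rfl
  map_smul' _ _ := rfl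

theorem exists_tangent {K : Type u} [Field K] [Algebra R K] (c : Sym2 (Fin n) → R)
    (P : MvPolynomial (Fin n × Fin n) R) (x : Fin n × Fin n → K) (hG : IsUnit (toG K x).det)
    (hx : subst (cA K c) (toG K x) = cA K c) (extra : Matrix (Fin n) (Fin n) K → Prop)
    (hextra : ∀ y, subst (cA (DualNumber K) c) (toG (DualNumber K) (dual x y)) = cA (DualNumber K) c →
      (MvPolynomial.aeval (dual x y) P = 1 ↔ extra ((toG K x)⁻¹ * toG K y)))
    (W : ({z : Sym2 (Fin n) // ¬ z.IsDiag} → K) →ₗ[K] Matrix (Fin n) (Fin n) K) (hWi : Function.Injective W)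
    (hW : ∀ η, (∃ p, W p = η) ↔ Alt (polarMatAt (cA K c) * η) ∧ extra η) :
    ∃ T : (Fin (n.choose 2) → K) →ₗ[K] (Fin n × Fin n → K), Function.Injective T ∧
      ∀ y, y ∈ LinearMap.range T ↔ ∀ i, MvPolynomial.aeval (dual x y) (eqP c P i) = 0 := by
  classical
  let e : (Fin (n.choose 2) → K) ≃ₗ[K] ({z : Sym2 (Fin n) // ¬ z.IsDiag} → K) :=
    LinearEquiv.funCongrLeft K K (Fintype.equivFinOfCardEq card_pairs)
  refine ⟨(flat K).comp ((LinearMap.mulLeft K (toG K x)).comp (W.comp e.toLinearMap)), ?_, fun y => ?_⟩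
  · intro p q h
    have h' : toG K x * W (e p) = toG K x * W (e q) := Matrix.ext fun i j => congrFun h (i, j)
    have := congrArg ((toG K x)⁻¹ * ·) h'
    simp only [← Matrix.mul_assoc, Matrix.nonsing_inv_mul _ hG, Matrix.one_mul] at this
    exact e.injective (hWi this)
  · rw [eqP_zero_iff]
    constructor
    · rintro ⟨p, rfl⟩
      set y := (flat K).comp ((LinearMap.mulLeft K (toG K x)).comp (W.comp e.toLinearMap)) p
      have hy : (toG K x)⁻¹ * toG K y = W (e p) := by
        rw [show toG K y = toG K x * W (e p) from rfl, ← Matrix.mul_assoc, Matrix.nonsing_inv_mul _ hG, Matrix.one_mul]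
      obtain ⟨h1, h2⟩ := (hW _).1 ⟨e p, hy.symm⟩
      have hs := (subst_dual_iff c x y hG hx).2 h1
      exact ⟨hs, (hextra y hs).2 h2⟩
    · rintro ⟨h1, h2⟩
      obtain ⟨p, hp⟩ := (hW _).2 ⟨(subst_dual_iff c x y hG hx).1 h1, (hextra y h1).1 h2⟩
      refine ⟨e.symm p, funext fun ij => ?_⟩
      show (toG K x * W (e (e.symm p))) ij.1 ij.2 = y ij
      rw [LinearEquiv.apply_symm_apply, hp, Matrix.mul_nonsing_inv_cancel_left _ _ hG]
      rfl

theorem conj_vec {A : Type u} [Field A] {V : Type u} [AddCommGroup V] [Module A V] (q : QuadraticForm A V)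
    {v : V} (hv : q v ≠ 0) {u : (CliffordAlgebra q)ˣ} (hu : (u : CliffordAlgebra q) = ι q v) (w : V) :
    (u : CliffordAlgebra q) * ι q w * ↑u⁻¹ = ι q (-(Reflect.refl q v hv w)) := by
  have hinv : (↑u⁻¹ : CliffordAlgebra q) = (q v)⁻¹ • ι q v := by
    rw [← Units.mul_right_inj u, Units.mul_inv, hu, mul_smul_comm, ι_sq_scalar, Algebra.smul_def, ← map_mul,
      inv_mul_cancel₀ hv, map_one]
  rw [hinv, hu, mul_smul_comm, ι_mul_ι_mul_ι, ← map_smul, Reflect.refl_apply]
  congr 1
  rw [smul_sub, smul_smul, smul_smul, inv_mul_cancel₀ hv, one_smul, neg_sub]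

theorem det_neg_refl {K : Type u} [Field K] [Algebra R K] (v : K ⊗[R] (Fin n → R)) (hv : QA Q K v ≠ 0) :
    LinearMap.det (((Reflect.refl (QA Q K) v hv).trans (LinearEquiv.neg K)).toLinearMap) =
      (-1) ^ n * LinearMap.det (Reflect.refl (QA Q K) v hv).toLinearMap := by
  haveI : Module.Free K (K ⊗[R] (Fin n → R)) := Module.Free.of_basis (stdBasis (R := R) K)
  rw [show ((Reflect.refl (QA Q K) v hv).trans (LinearEquiv.neg K)).toLinearMap =
      (-1 : K) • (Reflect.refl (QA Q K) v hv).toLinearMap from LinearMap.ext fun w => by simp,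
    LinearMap.det_smul, finrank_QA]

theorem neg_refl_mem {K : Type u} [Field K] [Algebra R K] (v : K ⊗[R] (Fin n → R)) (hv : QA Q K v ≠ 0) :
    (Reflect.refl (QA Q K) v hv).trans (LinearEquiv.neg K) ∈ QuadGrp.O (QA Q K) := fun w => by
  show QA Q K (-(Reflect.refl (QA Q K) v hv w)) = QA Q K w
  rw [QuadraticMap.map_neg, Reflect.map_refl]

end General

section Even

variable {m : ℕ} {Q : QuadraticForm R (Fin (2 * m) → R)}

theorem exists_soEq_even (hm : 1 ≤ m) (hQ : IsUnit (polarMatAt (stdCoeffs Q)).det) :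
    ∃ P, IsSOEq P Q ∧ ∀ (A : Type u) [CommRing A] [Algebra R A] (x : Fin (2 * m) × Fin (2 * m) → A),
      subst (cA A (stdCoeffs Q)) (toG A x) = cA A (stdCoeffs Q) → IsIdempotentElem (MvPolynomial.aeval x P) := by
  obtain ⟨P, hP⟩ := exists_dickson_poly Q hm hQ
  have hdet : ∀ (A : Type u) [CommRing A] [Algebra R A] (G : Matrix (Fin (2 * m)) (Fin (2 * m)) A),
      subst (cA A (stdCoeffs Q)) G = cA A (stdCoeffs Q) → IsUnit G.det := fun A _ _ G hG =>
    (isUnit_pow_iff two_ne_zero).1 (by rw [det_sq_of_subst (isUnit_det_cA A hQ) hG]; exact isUnit_one)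
  refine ⟨P, ⟨hdet, fun A _ _ g => ?_⟩, fun A _ _ x hx => ?_⟩
  · rcases subsingleton_or_nontrivial A with hA | hA
    · haveI : Subsingleton (A ⊗[R] (Fin (2 * m) → R)) := Module.subsingleton A _
      refine iff_of_true ?_ ⟨funext fun s => Subsingleton.elim _ _, Subsingleton.elim _ _⟩
      rw [show g = 1 from LinearEquiv.ext fun _ => Subsingleton.elim _ _]
      exact one_mem _
    unfold QuadGrp.sorth QuadGrp.SO
    rw [if_pos (by rw [finrank_QA]; exact even_two_mul m)]
    constructor
    · rintro ⟨hg, htriv⟩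
      exact ⟨(mem_O_iff_subst Q A g).1 hg, (hP A g hg).2.1 htriv⟩
    · rintro ⟨h1, h2⟩
      exact ⟨(mem_O_iff_subst Q A g).2 h1, (hP A g _).2.2 h2⟩
  · have hg : ofMatrix A (toG A x) (hdet A _ hx) ∈ QuadGrp.O (QA Q A) :=
      (mem_O_iff_subst Q A _).2 (by rw [toMatrix_ofMatrix]; exact hx)
    have := (hP A _ hg).1
    rwa [show (fun p => LinearMap.toMatrix (stdBasis A) (stdBasis A)
      (ofMatrix (R := R) A (toG A x) (hdet A _ hx)).toLinearMap p.1 p.2) = x from
        funext fun p => by rw [toMatrix_ofMatrix]; rfl] at this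

theorem smoothOfRelativeDimension_connected_even (hm : 1 ≤ m) (hQ : IsUnit (polarMatAt (stdCoeffs Q)).det)
    (G : Over (Spec (CommRingCat.of R))) [GrpObj G] (D : QuadGrp.SOrthRep Q G) :
    SmoothOfRelativeDimension (m * (2 * m - 1)) G.hom ∧
      ∀ s : ↥(Spec (CommRingCat.of R)), ConnectedSpace ↥(G.hom.fiber s) := by
  classical
  obtain ⟨P, hP, hid⟩ := exists_soEq_even hm hQ
  obtain ⟨i⟩ := exists_iso_so hP G D
  set c := stdCoeffs Q
  have hND : ∀ (K : Type u) [Field K] [Algebra R K] (x : K ⊗[R] (Fin (2 * m) → R)),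
      QA Q K x = 0 → x ≠ 0 → ∃ y, QuadraticMap.polar (QA Q K) x y ≠ 0 := by
    intro K _ _ x _ hx
    by_contra h
    push Not at h
    refine hx ((isRegular_QA Q K hQ).1 ?_)
    rw [map_zero]
    exact LinearMap.ext fun y => h y
  have hconst : HasConstValues Q P := fun K L _ _ _ _ _ x hx => by
    rcases IsIdempotentElem.iff_eq_zero_or_one.1 (hid L x hx) with h | h
    · exact ⟨0, by rw [h, map_zero]⟩
    · exact ⟨1, by rw [h, map_one]⟩
  refine ⟨smoothOfRelativeDimension_of_iso G _ i _ ?_, fun s => ?_⟩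
  · have hsm : Algebra.Smooth R (EqRing (eqP c P)) := by
      haveI := finitePresentation_eqRing (eqP c P)
      refine smooth_of_lift_local fun A B _ _ _ _ _ π hπ hker f => ?_
      set x := eqRingPts (eqP c P) B f
      obtain ⟨hx, hd⟩ := (eqP_zero_iff c P B x.1).1 x.2
      rw [← map_cA π c] at hx
      obtain ⟨G', hG', hs⟩ := exists_lift_of_isUnit π.toRingHom hπ hker (cA A c) (isUnit_det_cA A hQ) _ hx
      let y : Fin (2 * m) × Fin (2 * m) → A := fun p => G' p.1 p.2
      have hπy : π ∘ y = x.1 := funext fun p => congrFun (congrFun hG' p.1) p.2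
      have hid' := hid A y hs
      have h1 : MvPolynomial.aeval y P = 1 := by
        set e := MvPolynomial.aeval y P
        have hm' : e - 1 ∈ RingHom.ker π.toRingHom := by
          show π (e - 1) = 0
          rw [map_sub, map_one, show π e = MvPolynomial.aeval (π ∘ y) P from
            AlgHom.congr_fun (MvPolynomial.comp_aeval y π) P, hπy, hd, sub_self]
        linear_combination -ker_mul_eq_zero π.toRingHom hker hm' hm' + hid'.eq
      let g : EqRing (eqP c P) →ₐ[R] A := (eqRingPts (eqP c P) A).symm ⟨y, (eqP_zero_iff c P A y).2 ⟨hs, h1⟩⟩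
      refine ⟨g, (eqRingPts (eqP c P) B).injective (Subtype.ext ?_)⟩
      rw [eqRingPts_comp, Equiv.apply_symm_apply]
      exact hπy
    refine smoothOfRelativeDimension_eqRing hsm _ fun K _ _ => ⟨K, inferInstance, inferInstance, ?_⟩
    intro _ _ x hx
    have hd2 : m * (2 * m - 1) = (2 * m).choose 2 := by
      rw [Nat.choose_two_right, mul_assoc, Nat.mul_div_cancel_left _ two_pos]
    rw [hd2]
    obtain ⟨hs, h1⟩ := (eqP_zero_iff c P K x).1 hx
    have hc : IsUnit (polarMatAt (cA K c)).det := isUnit_det_cA K hQ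
    refine exists_tangent c P x (hP.1 K _ hs) hs (fun _ => True) (fun y hy => iff_of_true ?_ trivial)
      ((LinearMap.mulLeft K (polarMatAt (cA K c))⁻¹).comp (altOf K)) ?_ fun η => ⟨?_, ?_⟩
    · set e := MvPolynomial.aeval (dual x y) P
      have hid' : IsIdempotentElem e := hid (DualNumber K) _ hy
      have hf : TrivSqZeroExt.fst e = 1 := by rw [fst_aeval_dual, h1]
      have hs' : TrivSqZeroExt.snd e = 0 := by
        have := congrArg TrivSqZeroExt.snd hid'.eq
        rw [TrivSqZeroExt.snd_mul, hf] at this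
        simpa using this
      exact TrivSqZeroExt.ext hf hs'
    · intro p q h
      refine altOf_injective K ?_
      have := congrArg (polarMatAt (cA K c) * ·) h
      simpa [← Matrix.mul_assoc, Matrix.mul_nonsing_inv _ hc] using this
    · rintro ⟨p, rfl⟩
      refine ⟨?_, trivial⟩
      show Alt (polarMatAt (cA K c) * ((polarMatAt (cA K c))⁻¹ * altOf K p))
      rw [Matrix.mul_nonsing_inv_cancel_left _ _ hc]
      exact alt_altOf p
    · rintro ⟨h, -⟩
      obtain ⟨p, hp⟩ := exists_altOf h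
      exact ⟨p, by show (polarMatAt (cA K c))⁻¹ * altOf K p = _; rw [hp, Matrix.nonsing_inv_mul_cancel_left _ _ hc]⟩
  · refine connectedSpace_of_reflection (by omega) hP hconst G i s (fun K _ _ _ => hND K) ?_
    intro K _ _ _ hex
    obtain ⟨v, hv⟩ := hex
    refine ⟨v, hv, Or.inl fun hmem => ?_⟩
    haveI : Module.Free K (K ⊗[R] (Fin (2 * m) → R)) := Module.Free.of_basis (stdBasis (R := R) K)
    haveI : Module.Finite K (K ⊗[R] (Fin (2 * m) → R)) := Module.Finite.of_basis (stdBasis (R := R) K)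
    unfold QuadGrp.sorth QuadGrp.SO at hmem
    rw [if_pos (by rw [finrank_QA]; exact even_two_mul m)] at hmem
    obtain ⟨hrO, htriv⟩ := hmem
    set r := Reflect.refl (QA Q K) v hv
    set r' := r.trans (LinearEquiv.neg K) with hr'
    obtain ⟨u, hu, -⟩ := exists_vec_unit (QA Q K) v (Units.mk0 _ hv) rfl
    have hconj : ∀ w, (u : CliffordAlgebra (QA Q K)) * ι (QA Q K) w * ↑u⁻¹ = ι (QA Q K) (r' w) := fun w =>
      conj_vec (QA Q K) hv hu w
    obtain ⟨e, -, hdet, hiff, hpar⟩ :=
      exists_dickson (Q := QA Q K) hm (finrank_QA K) (isRegular_QA Q K hQ) r' (neg_refl_mem v hv)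
    have he : e = 0 := (hpar u hconj).2 (hu ▸ ι_mem_evenOdd_one _ v)
    rw [det_neg_refl, pow_mul, neg_one_sq, one_pow, one_mul, he] at hdet
    obtain ⟨e', -, hdet', hiff', -⟩ :=
      exists_dickson (Q := QA Q K) hm (finrank_QA K) (isRegular_QA Q K hQ) r hrO
    rw [hiff'.1 htriv] at hdet'
    have h2 : (2 : K) = 0 := by linear_combination hdet - hdet'
    have hrr : r' = r := LinearEquiv.ext fun w => by
      show -(r w) = r w
      rw [neg_eq_iff_add_eq_zero, ← two_smul K, h2, zero_smul]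
    have : ∃ hg : r' ∈ QuadGrp.O (QA Q K), QuadGrp.IsDicksonTrivial (QA Q K) r' hg := by
      rw [hrr]; exact ⟨hrO, htriv⟩
    obtain ⟨_, ht'⟩ := this
    exact zero_ne_one (he.symm.trans (hiff.1 ht'))

end Even

section Odd

variable {m : ℕ} {Q : QuadraticForm R (Fin (2 * m + 1) → R)}

theorem isSOEq_odd (hQ : IsUnit (hd (stdCoeffs Q))) : IsSOEq (univG (R := R)).det Q := by
  have hdet : ∀ (A : Type u) [CommRing A] [Algebra R A] (G : Matrix (Fin (2 * m + 1)) (Fin (2 * m + 1)) A),
      subst (cA A (stdCoeffs Q)) G = cA A (stdCoeffs Q) → IsUnit G.det := fun A _ _ G hG =>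
    (isUnit_pow_iff two_ne_zero).1 (by
      rw [det_sq_of_subst_odd (by rw [cA, ← map_hd]; exact hQ.map _) hG]; exact isUnit_one)
  refine ⟨hdet, fun A _ _ g => ?_⟩
  rcases subsingleton_or_nontrivial A with hA | hA
  · haveI : Subsingleton (A ⊗[R] (Fin (2 * m + 1) → R)) := Module.subsingleton A _
    refine iff_of_true ?_ ⟨funext fun s => Subsingleton.elim _ _, Subsingleton.elim _ _⟩
    rw [show g = 1 from LinearEquiv.ext fun _ => Subsingleton.elim _ _]
    exact one_mem _
  unfold QuadGrp.sorth QuadGrp.SO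
  rw [if_neg (by rw [finrank_QA]; exact Nat.not_even_iff_odd.2 (odd_two_mul_add_one m))]
  have hval : MvPolynomial.aeval (tup A g) (univG (R := R) (n := 2 * m + 1)).det = (LinearEquiv.det g : A) := by
    show (MvPolynomial.aeval (tup A g)).toRingHom _ = _
    rw [RingHom.map_det, RingHom.mapMatrix_apply, map_univG, toG_tup, det_eq_det_toMatrix]
  rw [hval, Units.val_eq_one, toG_tup]
  show g ∈ QuadGrp.O (QA Q A) ∧ LinearEquiv.det g = 1 ↔ _
  rw [mem_O_iff_subst]

theorem exists_split_field (hQ : IsUnit (hd (stdCoeffs Q))) (K : Type u) [Field K] [Algebra R K] :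
    ∃ (L : Type u) (_ : Field L) (_ : Algebra K L)
      (M : Matrix (Fin (2 * m + 1)) (Fin (2 * m + 1)) L), IsUnit M.det ∧
        algebraMap K L ∘ cA K (stdCoeffs Q) = subst (coefSplit L m) M := by
  obtain ⟨T, _, _, hff, M, hM, hcM⟩ := exists_split_coeffs (stdCoeffs Q) hQ
  haveI : Nontrivial (K ⊗[R] T) := Module.FaithfullyFlat.rTensor_nontrivial R T K
  obtain ⟨P, hP⟩ := Ideal.exists_maximal (K ⊗[R] T)
  letI : Field ((K ⊗[R] T) ⧸ P) := Ideal.Quotient.field P
  let f : T →+* (K ⊗[R] T) ⧸ P :=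
    (Ideal.Quotient.mk P).comp (Algebra.TensorProduct.includeRight : T →ₐ[R] K ⊗[R] T).toRingHom
  refine ⟨(K ⊗[R] T) ⧸ P, inferInstance, inferInstance, M.map f, ?_, ?_⟩
  · rw [← RingHom.mapMatrix_apply, ← RingHom.map_det]; exact hM.map _
  · rw [← map_coefSplit f, ← map_subst, ← hcM]
    funext s
    show Ideal.Quotient.mk P (algebraMap K (K ⊗[R] T) (algebraMap R K (stdCoeffs Q s))) =
      Ideal.Quotient.mk P ((Algebra.TensorProduct.includeRight : T →ₐ[R] K ⊗[R] T) (algebraMap R T (stdCoeffs Q s)))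
    rw [AlgHom.commutes, ← IsScalarTower.algebraMap_apply]

theorem nd_odd (hQ : IsUnit (hd (stdCoeffs Q))) (K : Type u) [Field K] [Algebra R K]
    (x : K ⊗[R] (Fin (2 * m + 1) → R)) (hx : QA Q K x = 0) (hne : x ≠ 0) :
    ∃ y, QuadraticMap.polar (QA Q K) x y ≠ 0 := by
  classical
  obtain ⟨L, _, _, M, hM, hcM⟩ := exists_split_field hQ K
  by_contra h
  push Not at h
  set e := (stdBasis (R := R) K).equivFun x
  have hPe : polarMatAt (cA K (stdCoeffs Q)) *ᵥ e = 0 := funext fun j => by
    have := h (stdBasis (R := R) K j)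
    rw [polar_QA, bl_comm, show (stdBasis (R := R) K).equivFun (stdBasis K j) = Pi.single j 1 by
      funext k; simp [Pi.single_apply, Finsupp.single_apply, eq_comm], bl_single_left] at this
    exact this
  set f := algebraMap K L
  set e' := M *ᵥ (f ∘ e)
  have hq : qf (upper (coefSplit L m)) e' = 0 := by
    rw [← qf_upper_subst, ← hcM, ← map_qf_upper, ← QA_eq_qf, hx, map_zero]
  have hP : polarMatAt (coefSplit L m) *ᵥ e' = 0 := by
    have h1 : polarMatAt (f ∘ cA K (stdCoeffs Q)) *ᵥ (f ∘ e) = 0 := funext fun i => by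
      rw [← polarMatAt_map, ← RingHom.map_mulVec, hPe]; simp
    rw [hcM, polarMatAt_subst, ← Matrix.mulVec_mulVec, ← Matrix.mulVec_mulVec] at h1
    exact Matrix.eq_zero_of_mulVec_eq_zero (by rw [Matrix.det_transpose]; exact hM.ne_zero) h1
  have hz : ∀ k, k ≠ oz m → e' k = 0 := fun k hk => by
    have := congrFun hP (fl m k)
    simp only [Matrix.mulVec, dotProduct, polarMatAt_coefSplit, if_neg (fl_ne_oz hk), fl_fl, ite_mul, one_mul,
      zero_mul, Finset.sum_ite_eq', Finset.mem_univ, if_true, Pi.zero_apply] at this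
    exact this
  have he' : e' = e' (oz m) • Pi.single (oz m) 1 := funext fun k => by
    rcases eq_or_ne k (oz m) with rfl | hk
    · simp
    · simp [hz k hk, hk]
  rw [he', qf_smul, qf_single, coefSplit_oz, mul_one, sq_eq_zero_iff] at hq
  rw [hq, zero_smul] at he'
  have h0 : f ∘ e = 0 := Matrix.eq_zero_of_mulVec_eq_zero hM.ne_zero he'
  exact hne ((stdBasis (R := R) K).equivFun.map_eq_zero_iff.1 (funext fun k => f.injective (by
    rw [Pi.zero_apply, map_zero]; exact congrFun h0 k)))

/-- The infinitesimal isometries of determinant one of the split form. -/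
noncomputable def oddParam (L : Type u) [CommRing L] (m : ℕ) :
    ({z : Sym2 (Fin (2 * m + 1)) // ¬ z.IsDiag} → L) →ₗ[L] Matrix (Fin (2 * m + 1)) (Fin (2 * m + 1)) L where
  toFun p := Matrix.of fun k j => if k = oz m then (if j = oz m then 0 else altOf L p (oz m) j) else
    if j = oz m then -(2 * altOf L p (oz m) (fl m k)) else altOf L p (fl m k) j
  map_add' p q := by
    ext k j
    simp only [map_add, Matrix.of_apply, Matrix.add_apply]
    split_ifs <;> ring
  map_smul' r p := by
    ext k j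
    simp only [map_smul, Matrix.of_apply, Matrix.smul_apply, RingHom.id_apply, smul_eq_mul]
    split_ifs <;> ring

theorem sum_fl_eq_zero {L : Type u} [Field L] (f : Fin (2 * m + 1) → L) (h0 : f (oz m) = 0)
    (h : ∀ k, k ≠ oz m → f (fl m k) = -f k) : ∑ k, f k = 0 := by
  refine Finset.sum_involution (fun k _ => fl m k) (fun k _ => ?_) (fun k _ hk e => ?_)
    (fun k _ => Finset.mem_univ _) fun k _ => fl_fl m k
  · rcases eq_or_ne k (oz m) with rfl | hk
    · rw [fl_oz, h0, add_zero]
    · rw [h k hk, add_neg_cancel]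
  · exact fl_ne_self (fun hkz => hk (by rw [hkz]; exact h0)) e

theorem oddParam_spec {L : Type u} [Field L] (η : Matrix (Fin (2 * m + 1)) (Fin (2 * m + 1)) L) :
    (∃ p, oddParam L m p = η) ↔ Alt (polarMatAt (coefSplit L m) * η) ∧ η.trace = 0 := by
  classical
  constructor
  · rintro ⟨p, rfl⟩
    set A := altOf L p
    obtain ⟨hA0, hA⟩ := alt_altOf p
    refine ⟨⟨fun i => ?_, fun i j => ?_⟩, ?_⟩
    · rw [polarMatAt_coefSplit_mul]
      rcases eq_or_ne i (oz m) with rfl | hi
      · simp [oddParam]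
      · simp [oddParam, hi, fl_ne_oz hi, fl_fl]
        exact hA0 i
    · rw [polarMatAt_coefSplit_mul, polarMatAt_coefSplit_mul]
      rcases eq_or_ne i (oz m) with rfl | hi <;> rcases eq_or_ne j (oz m) with rfl | hj
      · simp [oddParam]
      · simp [oddParam, hj, fl_ne_oz hj, fl_fl]
      · simp [oddParam, hi, fl_ne_oz hi, fl_fl]
      · simp only [oddParam, LinearMap.coe_mk, AddHom.coe_mk, Matrix.of_apply, if_neg hi, if_neg hj,
          if_neg (fl_ne_oz hi), if_neg (fl_ne_oz hj), fl_fl]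
        exact hA i j
    · refine sum_fl_eq_zero _ (by simp [oddParam]) fun k hk => ?_
      simp only [Matrix.diag, oddParam, LinearMap.coe_mk, AddHom.coe_mk, Matrix.of_apply, if_neg hk,
        if_neg (fl_ne_oz hk), fl_fl]
      exact eq_neg_of_add_eq_zero_left (hA _ _)
  · rintro ⟨⟨h0, h⟩, htr⟩
    simp only [polarMatAt_coefSplit_mul] at h0 h
    have hzz : ∀ i, i ≠ oz m → η (fl m i) i = 0 := fun i hi => by simpa [hi] using h0 i
    have hsym : ∀ i j, i ≠ oz m → j ≠ oz m → η (fl m i) j + η (fl m j) i = 0 := fun i j hi hj => by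
      simpa [hi, hj] using h i j
    have hoz : ∀ j, j ≠ oz m → η (fl m j) (oz m) = -(2 * η (oz m) j) := fun j hj => by
      have := h (oz m) j
      simp [hj] at this
      exact eq_neg_of_add_eq_zero_right this
    have h00 : η (oz m) (oz m) = 0 := by
      have hsum := sum_fl_eq_zero (fun k => if k = oz m then 0 else η k k) (if_pos rfl) fun k hk => by
        simp only [if_neg hk, if_neg (fl_ne_oz hk)]
        have := hsym k (fl m k) hk (fl_ne_oz hk)
        rw [fl_fl] at this
        exact eq_neg_of_add_eq_zero_left this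
      rw [Matrix.trace, ← Finset.add_sum_erase _ _ (Finset.mem_univ (oz m))] at htr
      rw [← Finset.add_sum_erase _ _ (Finset.mem_univ (oz m)), if_pos rfl, zero_add] at hsum
      rw [Finset.sum_congr rfl fun k hk => (if_neg (Finset.ne_of_mem_erase hk) :
        (if k = oz m then 0 else η k k) = η k k)] at hsum
      simp only [Matrix.diag] at htr
      rwa [hsum, add_zero] at htr
    let A : Matrix (Fin (2 * m + 1)) (Fin (2 * m + 1)) L := Matrix.of fun i j =>
      if i = oz m then (if j = oz m then 0 else η (oz m) j) else if j = oz m then -η (oz m) i else η (fl m i) j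
    have hA : Alt A := by
      refine ⟨fun i => ?_, fun i j => ?_⟩
      · rcases eq_or_ne i (oz m) with rfl | hi
        · simp [A]
        · simp [A, hi, hzz i hi]
      · rcases eq_or_ne i (oz m) with rfl | hi <;> rcases eq_or_ne j (oz m) with rfl | hj
        · simp [A]
        · simp [A, hj]
        · simp [A, hi]
        · simpa [A, hi, hj] using hsym i j hi hj
    obtain ⟨p, hp⟩ := exists_altOf hA
    refine ⟨p, ?_⟩
    ext k j
    simp only [oddParam, LinearMap.coe_mk, AddHom.coe_mk, Matrix.of_apply, hp]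
    rcases eq_or_ne k (oz m) with rfl | hk <;> rcases eq_or_ne j (oz m) with rfl | hj
    · simp [h00]
    · simp [A, hj]
    · have := hoz (fl m k) (fl_ne_oz hk)
      rw [fl_fl] at this
      simp [A, hk, fl_ne_oz hk, this]
    · simp [A, hk, hj, fl_ne_oz hk, fl_fl]

theorem oddParam_injective (L : Type u) [CommRing L] : Function.Injective (oddParam L m) := by
  intro p q h
  refine altOf_injective L ?_
  ext i j
  have hA := alt_altOf p
  have hB := alt_altOf q
  rcases eq_or_ne i (oz m) with rfl | hi <;> rcases eq_or_ne j (oz m) with rfl | hj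
  · rw [hA.1, hB.1]
  · simpa [oddParam, hj] using congrFun (congrFun h (oz m)) j
  · have e : altOf L p (oz m) i = altOf L q (oz m) i := by
      simpa [oddParam, hi] using congrFun (congrFun h (oz m)) i
    rw [eq_neg_of_add_eq_zero_left (hA.2 i (oz m)), eq_neg_of_add_eq_zero_left (hB.2 i (oz m)), e]
  · simpa [oddParam, hj, fl_ne_oz hi, fl_fl] using congrFun (congrFun h (fl m i)) j

theorem smoothOfRelativeDimension_connected_odd (hQ : IsUnit (hd (stdCoeffs Q)))
    (G : Over (Spec (CommRingCat.of R))) [GrpObj G] (D : QuadGrp.SOrthRep Q G) :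
    SmoothOfRelativeDimension (m * (2 * m + 1)) G.hom ∧
      ∀ s : ↥(Spec (CommRingCat.of R)), ConnectedSpace ↥(G.hom.fiber s) := by
  classical
  have hP := isSOEq_odd hQ
  obtain ⟨i⟩ := exists_iso_so hP G D
  set c := stdCoeffs Q
  have hdetval : ∀ (A : Type u) [CommRing A] [Algebra R A] (x : Fin (2 * m + 1) × Fin (2 * m + 1) → A),
      MvPolynomial.aeval x (univG (R := R) (n := 2 * m + 1)).det = (toG A x).det := by
    intro A _ _ x
    show (MvPolynomial.aeval x).toRingHom _ = _
    rw [RingHom.map_det, RingHom.mapMatrix_apply, map_univG]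
  have hconst : HasConstValues Q (univG (R := R)).det := fun K L _ _ _ _ _ x hx => by
    rw [hdetval]
    rcases sq_eq_one_iff.1 (det_sq_of_subst_odd (by rw [cA, ← map_hd]; exact hQ.map _) hx) with h | h
    · exact ⟨1, by rw [h, map_one]⟩
    · exact ⟨-1, by rw [h, map_neg, map_one]⟩
  refine ⟨smoothOfRelativeDimension_of_iso G _ i _ ?_, fun s => ?_⟩
  · refine smoothOfRelativeDimension_eqRing (by rw [eqP_det_eq]; exact smooth_eqSO_odd hQ) _ fun K _ _ => ?_
    obtain ⟨L, _, _, M, hM, hcM⟩ := exists_split_field hQ K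
    refine ⟨L, inferInstance, inferInstance, ?_⟩
    intro _ _ x hx
    have hd2 : m * (2 * m + 1) = (2 * m + 1).choose 2 := by
      rw [Nat.choose_two_right, show (2 * m + 1) * (2 * m + 1 - 1) = 2 * (m * (2 * m + 1)) by
        rw [Nat.add_sub_cancel]; ring, Nat.mul_div_cancel_left _ two_pos]
    rw [hd2]
    obtain ⟨hs, h1⟩ := (eqP_zero_iff c _ L x).1 hx
    have hcL : cA L c = subst (coefSplit L m) M := by
      rw [← hcM]; funext s; exact IsScalarTower.algebraMap_apply R K L (c s)
    have hd1 : (toG L x).det = 1 := by rw [← hdetval]; exact h1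
    have hGu : IsUnit (toG L x).det := hd1 ▸ isUnit_one
    let Φ : Matrix (Fin (2 * m + 1)) (Fin (2 * m + 1)) L →ₗ[L] Matrix (Fin (2 * m + 1)) (Fin (2 * m + 1)) L :=
      (LinearMap.mulLeft L M⁻¹).comp (LinearMap.mulRight L M)
    refine exists_tangent c _ x hGu hs (fun η => η.trace = 0) (fun y _ => aeval_det_dual x y hGu hd1)
      (Φ.comp (oddParam L m)) ?_ fun η => ?_
    · intro p q h
      refine oddParam_injective L ?_
      have := congrArg (fun Z => M * Z * M⁻¹) h
      simpa [Φ, Matrix.mul_assoc, Matrix.mul_nonsing_inv_cancel_left _ _ hM, Matrix.mul_nonsing_inv _ hM] using this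
    · set ζ := M * η * M⁻¹
      have hPη : polarMatAt (cA L c) * η = Mᵀ * (polarMatAt (coefSplit L m) * ζ) * M := by
        rw [hcL, polarMatAt_subst]
        simp [ζ, Matrix.mul_assoc, Matrix.nonsing_inv_mul _ hM]
      have htr : ζ.trace = η.trace := by
        rw [Matrix.trace_mul_cycle, Matrix.nonsing_inv_mul _ hM, Matrix.one_mul]
      rw [hPη, alt_congr _ _ hM, ← htr, ← oddParam_spec]
      refine exists_congr fun p => ?_
      show M⁻¹ * (oddParam L m p * M) = η ↔ oddParam L m p = M * η * M⁻¹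
      constructor
      · rintro rfl
        rw [Matrix.mul_nonsing_inv_cancel_left _ _ hM, Matrix.mul_assoc, Matrix.mul_nonsing_inv _ hM, Matrix.mul_one]
      · intro e
        rw [e, Matrix.mul_assoc (M * η), Matrix.nonsing_inv_mul _ hM, Matrix.mul_one,
          Matrix.nonsing_inv_mul_cancel_left _ _ hM]
  · refine connectedSpace_of_reflection (by omega) hP hconst G i s (fun K _ _ _ => nd_odd hQ K) ?_
    intro K _ _ _ hex
    by_cases h2 : (2 : K) = 0
    · obtain ⟨e, hne, he⟩ := Matrix.exists_mulVec_eq_zero_iff.2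
        (show (polarMatAt (cA K c)).det = 0 by rw [← two_mul_hd, h2, zero_mul])
      set v := (stdBasis (R := R) K).equivFun.symm e
      have hpol : ∀ w, QuadraticMap.polar (QA Q K) v w = 0 := fun w => by
        rw [polar_QA, bl_comm, LinearEquiv.apply_symm_apply, bl, ← polarMatAt_eq_upper, he, dotProduct_zero]
      have hv0 : QA Q K v ≠ 0 := fun h0 => by
        obtain ⟨y, hy⟩ := nd_odd hQ K v h0 (fun hv => hne (by
          have := congrArg (stdBasis (R := R) K).equivFun hv
          rwa [LinearEquiv.apply_symm_apply, map_zero] at this))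
        exact hy (hpol y)
      exact ⟨v, hv0, Or.inr (LinearEquiv.ext fun w => Reflect.refl_apply_ortho _ hv0 (hpol w))⟩
    · obtain ⟨v, hv⟩ := hex
      refine ⟨v, hv, Or.inl fun hmem => ?_⟩
      obtain ⟨-, hdet1⟩ := (hP.2 K _).1 hmem
      rw [hdetval, toG_tup, LinearMap.det_toMatrix] at hdet1
      obtain ⟨u, hu, -⟩ := exists_vec_unit (QA Q K) v (Units.mk0 _ hv) rfl
      haveI : Module.Free K (K ⊗[R] (Fin (2 * m + 1) → R)) := Module.Free.of_basis (stdBasis (R := R) K)
      haveI : Module.Finite K (K ⊗[R] (Fin (2 * m + 1) → R)) := Module.Finite.of_basis (stdBasis (R := R) K)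
      obtain ⟨S⟩ := exists_oddSplitting (QA Q K) (stdBasis (R := R) K) (isSemiregular_QA K Q hQ)
      have h1 := S.det_eq_one (stdBasis (R := R) K) (u := u)
        (g := (Reflect.refl (QA Q K) v hv).trans (LinearEquiv.neg K)) fun w => conj_vec (QA Q K) hv hu w
      rw [det_neg_refl, hdet1, mul_one, (odd_two_mul_add_one m).neg_one_pow] at h1
      exact h2 (by linear_combination -h1)

end Odd

end QSplit86
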