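import Groth.Agent.QSplit86.GrpRep
import Mathlib.Algebra.DualNumber
import Mathlib.RingTheory.Smooth.Locus
import Mathlib.RingTheory.Kaehler.Basic
import Mathlib.RingTheory.Spectrum.Prime.FreeLocus
import Mathlib.AlgebraicGeometry.Morphisms.Smooth

/-!
# Relative dimension from tangent vectors with dual numbers
-/

set_option autoImplicit false
set_option maxHeartbeats 800000
-- the package default `false` makes defeq checks on the Kähler module explode
set_option backward.isDefEq.respectTransparency.types true
universe u

open TensorProduct CategoryTheory AlgebraicGeometry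

namespace QSplit86

/-- A point moved by a tangent vector. -/
def dual {σ : Type} {K : Type u} [CommRing K] (x y : σ → K) : σ → DualNumber K :=
  fun s => TrivSqZeroExt.inl (x s) + TrivSqZeroExt.inr (y s)

variable {R : Type u} [CommRing R] {σ ι : Type} [Finite σ] [Finite ι] {eq : ι → MvPolynomial σ R}

omit [Finite σ] [Finite ι] in
theorem fst_aeval_dual {K : Type u} [CommRing K] [Algebra R K] (x y : σ → K) (P : MvPolynomial σ R) :
    TrivSqZeroExt.fst (MvPolynomial.aeval (dual x y) P) = MvPolynomial.aeval x P := by
  induction P using MvPolynomial.induction_on with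
  | C r => simp [TrivSqZeroExt.algebraMap_eq_inl']
  | add p q hp hq => simp [hp, hq]
  | mul_X p s hp => simp [hp, dual]

theorem finrank_kaehler_eq {K : Type u} [Field K] [Algebra R K] [Algebra (EqRing eq) K]
    [IsScalarTower R (EqRing eq) K] {d : ℕ} (L : (Fin d → K) →ₗ[K] (σ → K)) (hLi : Function.Injective L)
    (hL : ∀ y, y ∈ LinearMap.range L ↔ ∀ i, MvPolynomial.aeval
      (dual (fun s => algebraMap (EqRing eq) K (Ideal.Quotient.mk _ (MvPolynomial.X s))) y) (eq i) = 0) :
    Module.finrank K (K ⊗[EqRing eq] Ω[(EqRing eq)⁄R]) = d := by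
  classical
  haveI := finitePresentation_eqRing eq
  set A₀ := EqRing eq
  set x : σ → K := fun s => algebraMap A₀ K (Ideal.Quotient.mk _ (MvPolynomial.X s))
  let Φ : Module.Dual K (K ⊗[A₀] Ω[A₀⁄R]) →ₗ[K] (σ → K) :=
    { toFun := fun φ s => φ (1 ⊗ₜ KaehlerDifferential.D R A₀ (Ideal.Quotient.mk _ (MvPolynomial.X s)))
      map_add' := fun _ _ => rfl
      map_smul' := fun _ _ => rfl }
  have hsmul : ∀ (a : A₀) (w : Ω[A₀⁄R]), (1 : K) ⊗ₜ[A₀] (a • w) = algebraMap A₀ K a • ((1 : K) ⊗ₜ[A₀] w) :=
    fun a w => (TensorProduct.tmul_smul a (1 : K) w).trans (algebraMap_smul K a _).symm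
  have hΦi : Function.Injective Φ := by
    rw [injective_iff_map_eq_zero]
    intro φ hφ
    have hD : ∀ P, φ (1 ⊗ₜ KaehlerDifferential.D R A₀ (Ideal.Quotient.mk _ P)) = 0 := by
      intro P
      induction P using MvPolynomial.induction_on with
      | C r =>
        rw [← MvPolynomial.algebraMap_eq, ← Ideal.Quotient.algebraMap_eq,
          ← IsScalarTower.algebraMap_apply R (MvPolynomial σ R) A₀, Derivation.map_algebraMap]
        simp
      | add p q hp hq => rw [map_add, map_add, TensorProduct.tmul_add, map_add, hp, hq, add_zero]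
      | mul_X p s hp =>
        rw [map_mul, Derivation.leibniz, TensorProduct.tmul_add, map_add, hsmul, hsmul, map_smul, map_smul, hp,
          show φ (1 ⊗ₜ KaehlerDifferential.D R A₀ (Ideal.Quotient.mk _ (MvPolynomial.X s))) = 0 from congrFun hφ s]
        simp
    refine LinearMap.ext fun z => ?_
    induction z with
    | zero => simp
    | add a b ha hb => rw [map_add, ha, hb, map_add]
    | tmul k w =>
      rw [show k ⊗ₜ[A₀] w = k • ((1 : K) ⊗ₜ[A₀] w) by rw [TensorProduct.smul_tmul', smul_eq_mul, mul_one],
        map_smul, map_smul, LinearMap.zero_apply]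
      suffices φ (1 ⊗ₜ w) = 0 by rw [this]
      have hw : w ∈ Submodule.span A₀ (Set.range (KaehlerDifferential.D R A₀)) := by
        rw [KaehlerDifferential.span_range_derivation]; trivial
      refine Submodule.span_induction (p := fun w _ => φ ((1 : K) ⊗ₜ w) = 0) ?_ (by simp)
        (fun p q _ _ hp hq => by rw [TensorProduct.tmul_add, map_add, hp, hq, add_zero])
        (fun a p _ hp => by rw [hsmul, map_smul, hp, smul_zero]) hw
      rintro _ ⟨a, rfl⟩
      obtain ⟨P, rfl⟩ := Ideal.Quotient.mk_surjective a
      exact hD P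
  have hrange : LinearMap.range Φ = LinearMap.range L := by
    ext y
    rw [hL]
    constructor
    · rintro ⟨φ, rfl⟩
      let g : A₀ →ₐ[R] DualNumber K :=
        { toFun := fun a => TrivSqZeroExt.inl (algebraMap A₀ K a) +
            TrivSqZeroExt.inr (φ (1 ⊗ₜ KaehlerDifferential.D R A₀ a))
          map_one' := by simp
          map_zero' := by simp
          map_add' := fun a b => by
            rw [map_add, map_add, TensorProduct.tmul_add, map_add]; ext <;> simp
          map_mul' := fun a b => by
            rw [map_mul, Derivation.leibniz, TensorProduct.tmul_add, map_add, hsmul, hsmul, map_smul, map_smul]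
            ext <;> simp [mul_comm]
          commutes' := fun r => by
            rw [Derivation.map_algebraMap, TensorProduct.tmul_zero, map_zero, ← IsScalarTower.algebraMap_apply]
            ext <;> simp [TrivSqZeroExt.algebraMap_eq_inl'] }
      have hg : g.comp (Ideal.Quotient.mkₐ R _) = MvPolynomial.aeval (dual x (Φ φ)) :=
        MvPolynomial.algHom_ext fun s => by rw [MvPolynomial.aeval_X]; rfl
      intro i
      rw [← hg, AlgHom.comp_apply, Ideal.Quotient.mkₐ_eq_mk,
        Ideal.Quotient.eq_zero_iff_mem.2 (Ideal.subset_span (Set.mem_range_self i)), map_zero]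
    · intro hy
      let g := (eqRingPts eq (DualNumber K)).symm ⟨dual x y, hy⟩
      have hg : g.comp (Ideal.Quotient.mkₐ R _) = MvPolynomial.aeval (dual x y) :=
        MvPolynomial.algHom_ext fun s => by
          rw [MvPolynomial.aeval_X]
          exact congrFun (congrArg Subtype.val ((eqRingPts eq (DualNumber K)).apply_symm_apply ⟨dual x y, hy⟩)) s
      have hgX : ∀ s, g (Ideal.Quotient.mk _ (MvPolynomial.X s)) = dual x y s := fun s => by
        have := AlgHom.congr_fun hg (MvPolynomial.X s)
        rwa [MvPolynomial.aeval_X] at this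
      have hfst : ∀ a, TrivSqZeroExt.fst (g a) = algebraMap A₀ K a := fun a => by
        obtain ⟨P, rfl⟩ := Ideal.Quotient.mk_surjective a
        have h1 : g (Ideal.Quotient.mk _ P) = MvPolynomial.aeval (dual x y) P := AlgHom.congr_fun hg P
        rw [h1, fst_aeval_dual]
        refine (AlgHom.congr_fun (MvPolynomial.algHom_ext (f := MvPolynomial.aeval x)
          (g := (IsScalarTower.toAlgHom R A₀ K).comp (Ideal.Quotient.mkₐ R _)) fun s => ?_) P)
        rw [MvPolynomial.aeval_X]; rfl
      let l : A₀ →ₗ[R] K :=
        { toFun := fun a => TrivSqZeroExt.snd (g a)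
          map_add' := fun a b => by simp
          map_smul' := fun r a => by simp }
      let D' : Derivation R A₀ K := Derivation.mk' l fun a b => by
        show TrivSqZeroExt.snd (g (a * b)) = a • TrivSqZeroExt.snd (g b) + b • TrivSqZeroExt.snd (g a)
        rw [map_mul, TrivSqZeroExt.snd_mul, hfst, hfst, Algebra.smul_def, Algebra.smul_def]
        simp [mul_comm, Algebra.smul_def]
      refine ⟨LinearMap.liftBaseChange K D'.liftKaehlerDifferential, funext fun s => ?_⟩
      show LinearMap.liftBaseChange K D'.liftKaehlerDifferential (1 ⊗ₜ KaehlerDifferential.D R A₀ _) = y s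
      rw [LinearMap.liftBaseChange_tmul, one_smul, Derivation.liftKaehlerDifferential_comp_D]
      show TrivSqZeroExt.snd (g _) = y s
      rw [hgX]; simp [dual]
  rw [← Subspace.dual_finrank_eq, ← LinearMap.finrank_range_of_inj hΦi, hrange, LinearMap.finrank_range_of_inj hLi,
    Module.finrank_fin_fun]

/-- Relative dimension of a smooth system of equations from its tangent spaces. -/
theorem smoothOfRelativeDimension_eqRing (hs : Algebra.Smooth R (EqRing eq)) (d : ℕ)
    (h : ∀ (K : Type u) [Field K] [Algebra R K], ∃ (L : Type u) (_ : Field L) (_ : Algebra K L),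
      ∀ [Algebra R L] [IsScalarTower R K L] (x : σ → L), (∀ i, MvPolynomial.aeval x (eq i) = 0) →
        ∃ T : (Fin d → L) →ₗ[L] (σ → L), Function.Injective T ∧
          ∀ y, y ∈ LinearMap.range T ↔ ∀ i, MvPolynomial.aeval (dual x y) (eq i) = 0) :
    SmoothOfRelativeDimension d (Spec.map (CommRingCat.ofHom (algebraMap R (EqRing eq)))) := by
  haveI := hs
  set A := EqRing eq
  rw [HasRingHomProperty.Spec_iff (P := @SmoothOfRelativeDimension d)]
  refine ⟨{t | Algebra.IsStandardSmoothOfRelativeDimension d R (Localization.Away t)}, ?_, fun t ht => ?_⟩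
  swap
  · rw [CommRingCat.hom_ofHom, ← IsScalarTower.algebraMap_eq]
    show RingHom.IsStandardSmoothOfRelativeDimension d (algebraMap R (Localization.Away t))
    exact (RingHom.isStandardSmoothOfRelativeDimension_algebraMap d).2 ht
  by_contra hne
  obtain ⟨M, hM, hle⟩ := Ideal.exists_le_maximal _ hne
  haveI := hM.isPrime
  haveI : Algebra.IsSmoothAt R M := Algebra.FormallySmooth.comp R A (Localization.AtPrime M)
  obtain ⟨f, hf, hstd⟩ := Algebra.IsSmoothAt.exists_notMem_isStandardSmooth R (S := A) M
  refine hf (hle (Ideal.subset_span ?_))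
  show Algebra.IsStandardSmoothOfRelativeDimension d R (Localization.Away f)
  have hmem : (⟨M, inferInstance⟩ : PrimeSpectrum A) ∈ Set.range (PrimeSpectrum.comap (algebraMap A (Localization.Away f))) := by
    rw [PrimeSpectrum.localization_away_comap_range (Localization.Away f) f]; exact hf
  obtain ⟨Q, hQ⟩ := hmem
  haveI : Nontrivial (Localization.Away f) := Q.nontrivial
  haveI := hstd
  haveI : Algebra.FormallyEtale A (Localization.Away f) := Algebra.FormallyEtale.of_isLocalization (Submonoid.powers f)
  have hrk : Module.rankAtStalk (R := A) Ω[A⁄R] ⟨M, inferInstance⟩ = d := by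
    obtain ⟨L, _, _, hL⟩ := h M.ResidueField
    letI : Algebra R L := ((algebraMap M.ResidueField L).comp (algebraMap R M.ResidueField)).toAlgebra
    haveI : IsScalarTower R M.ResidueField L := IsScalarTower.of_algebraMap_eq' rfl
    letI : Algebra A L := ((algebraMap M.ResidueField L).comp (algebraMap A M.ResidueField)).toAlgebra
    haveI : IsScalarTower R A L := IsScalarTower.of_algebraMap_eq' (by
      show (algebraMap M.ResidueField L).comp (algebraMap R M.ResidueField) =
        ((algebraMap M.ResidueField L).comp (algebraMap A M.ResidueField)).comp (algebraMap R A)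
      rw [RingHom.comp_assoc, ← IsScalarTower.algebraMap_eq R A M.ResidueField])
    obtain ⟨T, hTi, hT⟩ := hL (fun s => algebraMap A L (Ideal.Quotient.mk _ (MvPolynomial.X s))) (fun i => by
      have h1 : MvPolynomial.aeval (fun s => algebraMap A L (Ideal.Quotient.mk _ (MvPolynomial.X s))) =
          (IsScalarTower.toAlgHom R A L).comp (Ideal.Quotient.mkₐ R (Ideal.span (Set.range eq))) :=
        MvPolynomial.algHom_ext fun s => by rw [MvPolynomial.aeval_X]; rfl
      rw [h1, AlgHom.comp_apply, Ideal.Quotient.mkₐ_eq_mk,
        Ideal.Quotient.eq_zero_iff_mem.2 (Ideal.subset_span (Set.mem_range_self i)), map_zero])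
    have h2 := finrank_kaehler_eq T hTi hT
    let q : PrimeSpectrum L := ⟨⊥, Ideal.isPrime_bot⟩
    have hq : q.comap (algebraMap A L) = ⟨M, inferInstance⟩ := PrimeSpectrum.ext <| Ideal.ext fun a => by
      show algebraMap M.ResidueField L (algebraMap A M.ResidueField a) = 0 ↔ a ∈ M
      rw [map_eq_zero, Ideal.algebraMap_residueField_eq_zero]
    rw [← hq, ← Module.rankAtStalk_baseChange (S := L), Module.rankAtStalk_eq_finrank_of_free]
    simpa using h2
  rw [Algebra.IsStandardSmoothOfRelativeDimension.iff_of_isStandardSmooth, ← Module.finrank_eq_rank]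
  have h5 := congrFun (Module.rankAtStalk_eq_finrank_of_free (R := Localization.Away f) (M := Ω[Localization.Away f⁄R])) Q
  simp only [Pi.natCast_apply, Nat.cast_id] at h5
  rw [Nat.cast_inj, ← h5,
    ← Module.rankAtStalk_eq_of_equiv (KaehlerDifferential.isBaseChange_of_formallyEtale R A (Localization.Away f)).equiv,
    Module.rankAtStalk_baseChange, hQ, hrk]

end QSplit86
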