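import Groth.Agent.QSplit86.SODickson
import Groth.Agent.QSplit86.Reflect
import Groth.Agent.QSplit86.Tangent
import Groth.Agent.QSplit86.Conn

/-!
# The special orthogonal groups as affine group schemes: points, reflections, tangents
-/

set_option autoImplicit false
set_option maxHeartbeats 800000
set_option maxRecDepth 4000
set_option synthInstance.maxHeartbeats 200000
universe u

open CategoryTheory AlgebraicGeometry TensorProduct CliffordAlgebra Matrix Groth.Agent.S17014 Groth.Agent.QuadCentre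

namespace QSplit86

variable {R : Type u} [CommRing R] {n : ℕ}

section Points

variable (c : Sym2 (Fin n) → R) (P : MvPolynomial (Fin n × Fin n) R)

/-- The orthogonal equations with one further condition. -/
noncomputable def eqP : Option (Sym2 (Fin n)) → MvPolynomial (Fin n × Fin n) R
  | some s => eqO c s
  | none => P - 1

theorem eqP_zero_iff (A : Type u) [CommRing A] [Algebra R A] (x : Fin n × Fin n → A) :
    (∀ s, MvPolynomial.aeval x (eqP c P s) = 0) ↔
      subst (cA A c) (toG A x) = cA A c ∧ MvPolynomial.aeval x P = 1 := by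
  rw [Option.forall, and_comm]
  refine and_congr (eqO_zero_iff c A x) ?_
  show MvPolynomial.aeval x (P - 1) = 0 ↔ _
  rw [map_sub, map_one, sub_eq_zero]

theorem eqP_det_eq : eqP c (univG (R := R)).det = eqSO c := funext fun s => by cases s <;> rfl

/-- The tuple of the matrix of an automorphism. -/
noncomputable def tup (A : Type u) [CommRing A] [Algebra R A]
    (g : (A ⊗[R] (Fin n → R)) ≃ₗ[A] (A ⊗[R] (Fin n → R))) : Fin n × Fin n → A :=
  fun p => LinearMap.toMatrix (stdBasis A) (stdBasis A) g.toLinearMap p.1 p.2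

variable (Q : QuadraticForm R (Fin n → R))

/-- The special orthogonal group is cut out by the equation `P = 1`. -/
def IsSOEq : Prop :=
  (∀ (A : Type u) [CommRing A] [Algebra R A] (G : Matrix (Fin n) (Fin n) A),
    subst (cA A (stdCoeffs Q)) G = cA A (stdCoeffs Q) → IsUnit G.det) ∧
  ∀ (A : Type u) [CommRing A] [Algebra R A] (g : (A ⊗[R] (Fin n → R)) ≃ₗ[A] (A ⊗[R] (Fin n → R))),
    g ∈ QuadGrp.sorth Q A ↔
      subst (cA A (stdCoeffs Q)) (toG A (tup A g)) = cA A (stdCoeffs Q) ∧ MvPolynomial.aeval (tup A g) P = 1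

variable {P Q} (hP : IsSOEq P Q)
include hP

theorem IsSOEq.mem_of_sol {A : Type u} [CommRing A] [Algebra R A] {x : Fin n × Fin n → A}
    (hx : ∀ s, MvPolynomial.aeval x (eqP (stdCoeffs Q) P s) = 0) :
    ∃ hd : IsUnit (toG A x).det, ofMatrix A (toG A x) hd ∈ QuadGrp.sorth Q A ∧ tup A (ofMatrix (R := R) A (toG A x) hd) = x := by
  obtain ⟨h1, h2⟩ := (eqP_zero_iff _ _ A x).1 hx
  have ht : tup A (ofMatrix (R := R) A (toG A x) (hP.1 A _ h1)) = x := funext fun p => by
    rw [tup, toMatrix_ofMatrix]; rfl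
  exact ⟨hP.1 A _ h1, (hP.2 A _).2 ⟨by rw [ht]; exact h1, by rw [ht]; exact h2⟩, ht⟩

/-- Points of the special orthogonal group as solutions. -/
noncomputable def soPts (A : Type u) [CommRing A] [Algebra R A] :
    ↥(QuadGrp.sorth Q A) ≃ {x : Fin n × Fin n → A // ∀ s, MvPolynomial.aeval x (eqP (stdCoeffs Q) P s) = 0} where
  toFun g := ⟨tup A g.1, (eqP_zero_iff _ _ A _).2 ((hP.2 A g.1).1 g.2)⟩
  invFun x := ⟨ofMatrix A (toG A x.1) (hP.mem_of_sol x.2).choose, (hP.mem_of_sol x.2).choose_spec.1⟩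
  left_inv g := Subtype.ext (ofMatrix_toMatrix A g.1
    (hP.mem_of_sol ((eqP_zero_iff _ _ A _).2 ((hP.2 A g.1).1 g.2))).choose)
  right_inv x := Subtype.ext (hP.mem_of_sol x.2).choose_spec.2

open scoped MonObj in
theorem exists_iso_so (G : Over (Spec (CommRingCat.of R))) [GrpObj G] (D : QuadGrp.SOrthRep Q G) :
    Nonempty (QuadGrp.specOver R (EqRing (eqP (stdCoeffs Q) P)) ≅ G) := by
  refine exists_iso_spec G _
    (fun A _ _ => ((D.pts A).toEquiv.trans (soPts hP A)).trans (eqRingPts _ A).symm) fun A B _ _ _ _ φ y => ?_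
  apply (eqRingPts _ B).injective
  refine Subtype.ext ?_
  simp only [Equiv.trans_apply, Equiv.apply_symm_apply, eqRingPts_comp]
  funext p
  show LinearMap.toMatrix (stdBasis B) (stdBasis B) _ p.1 p.2 = φ (LinearMap.toMatrix (stdBasis A) (stdBasis A) _ p.1 p.2)
  rw [LinearMap.toMatrix_apply, LinearMap.toMatrix_apply]
  have hb : ∀ (C : Type u) [CommRing C] [Algebra R C] (j : Fin n),
      stdBasis (R := R) C j = (1 : C) ⊗ₜ[R] Pi.basisFun R (Fin n) j := fun C _ _ j =>
    Algebra.TensorProduct.basis_apply _ j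
  rw [hb, hb, ← repr_rTensor]
  exact congrArg (fun z => (stdBasis B).repr z p.1) (D.natural A B φ y (Pi.basisFun R (Fin n) p.2))

end Points

section Refl

/-- The matrix of a reflection. -/
noncomputable def refMat {A : Type*} [CommRing A] (c : Sym2 (Fin n) → A) (v : Fin n → A) (qi : A) : Matrix (Fin n) (Fin n) A :=
  1 - qi • Matrix.vecMulVec v (v ᵥ* polarMatAt c)

theorem refMat_mulVec {A : Type*} [CommRing A] (c : Sym2 (Fin n) → A) (v : Fin n → A) (qi : A) (x : Fin n → A) :
    refMat c v qi *ᵥ x = x - (qi * bl (upper c) v x) • v := by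
  have h : bl (upper c) v x = (v ᵥ* polarMatAt c) ⬝ᵥ x := by
    rw [← Matrix.dotProduct_mulVec, bl, polarMatAt_eq_upper]
  rw [refMat, Matrix.sub_mulVec, Matrix.one_mulVec, Matrix.smul_mulVec, Matrix.vecMulVec_mulVec, h]
  congr 1
  funext k
  simp [mul_comm, mul_left_comm]

theorem subst_refMat {A : Type*} [CommRing A] {c : Sym2 (Fin n) → A} {v : Fin n → A} {qi : A}
    (h : qi * qf (upper c) v = 1) : subst c (refMat c v qi) = c := by
  rw [subst_eq_iff]
  intro x
  rw [refMat_mulVec, show x - (qi * bl (upper c) v x) • v = x + (-(qi * bl (upper c) v x)) • v by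
      rw [neg_smul, sub_eq_add_neg], qf_add, qf_smul, bl_smul_right, bl_comm _ x v]
  linear_combination (qi * bl (upper c) v x ^ 2) * h

theorem map_qf_upper {A B : Type*} [CommRing A] [CommRing B] (f : A →+* B) (c : Sym2 (Fin n) → A) (x : Fin n → A) :
    f (qf (upper c) x) = qf (upper (f ∘ c)) (f ∘ x) := by
  simp [qf, dotProduct, Matrix.mulVec, upper, apply_ite f]

theorem map_refMat {A B : Type*} [CommRing A] [CommRing B] (f : A →+* B) (c : Sym2 (Fin n) → A) (v : Fin n → A)
    (qi : A) : (refMat c v qi).map f = refMat (f ∘ c) (f ∘ v) (f qi) := by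
  have hv : ∀ j, f ((v ᵥ* polarMatAt c) j) = ((f ∘ v) ᵥ* polarMatAt (f ∘ c)) j := fun j => by
    rw [← polarMatAt_map, RingHom.map_vecMul]
  ext i j
  simp [refMat, Matrix.one_apply, apply_ite f, Matrix.vecMulVec_apply, hv]

variable (Q : QuadraticForm R (Fin n → R))

theorem polar_QA (A : Type u) [CommRing A] [Algebra R A] (v w : A ⊗[R] (Fin n → R)) :
    QuadraticMap.polar (QA Q A) v w =
      bl (upper (cA A (stdCoeffs Q))) ((stdBasis A).equivFun v) ((stdBasis A).equivFun w) := by
  show QuadGrp.baseChangeForm A Q (v + w) - QuadGrp.baseChangeForm A Q v - QuadGrp.baseChangeForm A Q w = _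
  rw [baseChangeForm_eq_qf, baseChangeForm_eq_qf, baseChangeForm_eq_qf, map_add, qf_add]
  abel

variable {K : Type u} [Field K] [Algebra R K]

theorem QA_eq_qf (v : K ⊗[R] (Fin n → R)) :
    QA Q K v = qf (upper (cA K (stdCoeffs Q))) ((stdBasis K).equivFun v) := baseChangeForm_eq_qf Q K v

theorem toG_tup (A : Type u) [CommRing A] [Algebra R A] (g : (A ⊗[R] (Fin n → R)) ≃ₗ[A] (A ⊗[R] (Fin n → R))) :
    toG A (tup A g) = LinearMap.toMatrix (stdBasis A) (stdBasis A) g.toLinearMap := rfl

theorem toMatrix_mul_equiv {A : Type u} [CommRing A] [Algebra R A]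
    (a b : (A ⊗[R] (Fin n → R)) ≃ₗ[A] (A ⊗[R] (Fin n → R))) :
    LinearMap.toMatrix (stdBasis A) (stdBasis A) (a * b).toLinearMap =
      LinearMap.toMatrix (stdBasis A) (stdBasis A) a.toLinearMap * LinearMap.toMatrix (stdBasis A) (stdBasis A) b.toLinearMap :=
  LinearMap.toMatrix_comp (stdBasis A) (stdBasis A) (stdBasis A) a.toLinearMap b.toLinearMap

theorem toMatrix_refl (v : K ⊗[R] (Fin n → R)) (hv : QA Q K v ≠ 0) :
    LinearMap.toMatrix (stdBasis K) (stdBasis K) (Reflect.refl (QA Q K) v hv).toLinearMap =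
      refMat (cA K (stdCoeffs Q)) ((stdBasis K).equivFun v) (QA Q K v)⁻¹ := by
  classical
  refine Matrix.ext_of_mulVec_single fun j => ?_
  rw [refMat_mulVec, show (Pi.single j (1 : K) : Fin n → K) = ⇑((stdBasis (R := R) K).repr (stdBasis K j)) by
    funext k; simp [Pi.single_apply, Finsupp.single_apply, eq_comm], LinearMap.toMatrix_mulVec_repr,
    ← Module.Basis.equivFun_apply, ← Module.Basis.equivFun_apply, LinearEquiv.coe_coe, Reflect.refl_apply, map_sub,
    map_smul, polar_QA]

end Refl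

section Generation

variable (Q : QuadraticForm R (Fin n → R)) (P : MvPolynomial (Fin n × Fin n) R)

/-- The value of the equation is constant along rational families. -/
def HasConstValues : Prop :=
  ∀ (K L : Type u) [Field K] [CommRing L] [IsDomain L] [Algebra R L] [Algebra K L] (x : Fin n × Fin n → L),
    subst (cA L (stdCoeffs Q)) (toG L x) = cA L (stdCoeffs Q) → ∃ r : K, MvPolynomial.aeval x P = algebraMap K L r

variable {Q P} (hP : IsSOEq P Q) (hv : HasConstValues Q P)
  {K : Type u} [Field K] [Algebra R K]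

include hP hv in
theorem mul_pair_rel {g : (K ⊗[R] (Fin n → R)) ≃ₗ[K] (K ⊗[R] (Fin n → R))} (hg : g ∈ QuadGrp.sorth Q K)
    (v w : K ⊗[R] (Fin n → R)) (hv0 : QA Q K v ≠ 0) (hw0 : QA Q K w ≠ 0) :
    ∃ h' : g * (Reflect.refl _ v hv0 * Reflect.refl _ w hw0) ∈ QuadGrp.sorth Q K,
      Rel ((eqRingPts _ K).symm (soPts hP K ⟨g, hg⟩)) ((eqRingPts _ K).symm (soPts hP K ⟨_, h'⟩)) := by
  classical
  set c := stdCoeffs Q
  set ev' := (stdBasis (R := R) K).equivFun v
  set ew' := (stdBasis (R := R) K).equivFun w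
  set cK := cA K c
  let vp : Fin n → Polynomial K := fun k =>
    Polynomial.C (ew' k) + Polynomial.X * Polynomial.C (ev' k - ew' k)
  let f : Polynomial K := qf (upper (Polynomial.C ∘ cK)) vp
  have hev : ∀ t, Polynomial.eval t f = qf (upper cK) (fun k => ew' k + t * (ev' k - ew' k)) := fun t => by
    refine (map_qf_upper (Polynomial.evalRingHom t) (Polynomial.C ∘ cK) vp).trans ?_
    congr 2 <;> funext k <;> simp [vp]
  have h0 : Polynomial.eval 0 f = QA Q K w := by
    rw [hev, QA_eq_qf]; simp [ew', cK, c]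
  have h1 : Polynomial.eval 1 f = QA Q K v := by
    rw [hev, QA_eq_qf]; simp [ev', cK, c]
  have hf : f ≠ 0 := fun e => hw0 (by rw [← h0, e, Polynomial.eval_zero])
  let L := Localization.Away f
  haveI : IsDomain L := IsLocalization.isDomain_localization (powers_le_nonZeroDivisors_of_noZeroDivisors hf)
  have hu : IsUnit (algebraMap (Polynomial K) L f) := IsLocalization.Away.algebraMap_isUnit f
  let evAt : ∀ t : K, Polynomial.eval t f ≠ 0 → (L →ₐ[K] K) := fun t ht =>
    IsLocalization.liftAlgHom (M := Submonoid.powers f) (f := Polynomial.aeval t) fun y => by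
      obtain ⟨k, hk⟩ := y.2
      rw [← hk, map_pow, Polynomial.coe_aeval_eq_eval]
      exact (ht.isUnit).pow k
  let ι₁ : Polynomial K →+* L := algebraMap (Polynomial K) L
  let cL : Sym2 (Fin n) → L := cA L c
  have hcL : cL = ι₁ ∘ Polynomial.C ∘ cK := funext fun s => by
    show algebraMap R L (c s) = algebraMap (Polynomial K) L (algebraMap K (Polynomial K) (algebraMap R K (c s)))
    rw [← IsScalarTower.algebraMap_apply R K (Polynomial K), ← IsScalarTower.algebraMap_apply R (Polynomial K) L]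
  let vL : Fin n → L := ι₁ ∘ vp
  let qi : L := ↑hu.unit⁻¹
  have hqi : qi * qf (upper cL) vL = 1 := by
    have : qf (upper cL) vL = ι₁ f := by
      rw [hcL]
      exact (map_qf_upper ι₁ _ vp).symm
    rw [this]; exact IsUnit.val_inv_mul hu
  let GK := toG K (tup K g)
  have hGK := ((hP.2 K g).1 hg).1
  have hwq : (QA Q K w)⁻¹ * qf (upper cK) ew' = 1 := by rw [← QA_eq_qf]; exact inv_mul_cancel₀ hw0
  let e₀ : K →+* L := algebraMap K L
  have hcKL : e₀ ∘ cK = cL := funext fun s => (IsScalarTower.algebraMap_apply R K L (c s)).symm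
  let Gf : Matrix (Fin n) (Fin n) L :=
    GK.map e₀ * (refMat cL vL qi * (refMat cK ew' (QA Q K w)⁻¹).map e₀)
  have hGL : subst cL Gf = cL := by
    rw [← subst_subst, ← subst_subst, show subst cL (GK.map e₀) = cL by rw [← hcKL, ← map_subst, hGK],
      subst_refMat hqi, ← hcKL, ← map_subst, subst_refMat hwq]
  set x : Fin n × Fin n → L := fun p => Gf p.1 p.2
  have hx : toG L x = Gf := rfl
  have hval : ∀ t ht, (evAt t ht) qi = (Polynomial.eval t f)⁻¹ := fun t ht => by
    apply eq_inv_of_mul_eq_one_left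
    have : (evAt t ht) (ι₁ f) = Polynomial.eval t f := by
      show IsLocalization.liftAlgHom _ (algebraMap (Polynomial K) L f) = _
      rw [IsLocalization.liftAlgHom_apply, IsLocalization.lift_eq]
      rfl
    rw [← this, ← map_mul, IsUnit.val_inv_mul hu, map_one]
  have hmap : ∀ t ht, Gf.map (evAt t ht).toRingHom =
      GK * (refMat cK (fun k => ew' k + t * (ev' k - ew' k)) (Polynomial.eval t f)⁻¹ *
        refMat cK ew' (QA Q K w)⁻¹) := by
    intro t ht
    have he : ∀ r : K, (evAt t ht).toRingHom (e₀ r) = r := fun r => (evAt t ht).commutes r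
    have hve : (evAt t ht).toRingHom ∘ vL = fun k => ew' k + t * (ev' k - ew' k) := funext fun k => by
      show IsLocalization.liftAlgHom _ (algebraMap (Polynomial K) L (vp k)) = _
      rw [IsLocalization.liftAlgHom_apply, IsLocalization.lift_eq]
      simp [vp]
    rw [Matrix.map_mul, Matrix.map_mul, map_refMat, hve, show (evAt t ht).toRingHom qi = _ from hval t ht,
      show (evAt t ht).toRingHom ∘ cL = cK by rw [← hcKL]; exact funext fun s => he _,
      Matrix.map_map, Matrix.map_map]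
    rw [show ((evAt t ht).toRingHom ∘ e₀ : K → K) = id from funext he, Matrix.map_id, Matrix.map_id]
  have h0' : Polynomial.eval 0 f ≠ 0 := h0 ▸ hw0
  have h1' : Polynomial.eval 1 f ≠ 0 := h1 ▸ hv0
  have hR : toG K (tup K (Reflect.refl (QA Q K) w hw0)) = refMat cK ew' (QA Q K w)⁻¹ := toMatrix_refl Q w hw0
  have hsq : refMat cK ew' (QA Q K w)⁻¹ * refMat cK ew' (QA Q K w)⁻¹ = 1 := by
    rw [← hR, toG_tup, ← toMatrix_mul_equiv, Reflect.refl_mul_self]
    exact LinearMap.toMatrix_id _
  have hmap0 : Gf.map (evAt 0 h0').toRingHom = GK := by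
    rw [hmap 0 h0', h0, show (fun k => ew' k + 0 * (ev' k - ew' k)) = ew' by funext k; ring, hsq, Matrix.mul_one]
  obtain ⟨r, hr⟩ := hv K L x hGL
  have hcomp : ∀ (e : L →ₐ[K] K), MvPolynomial.aeval (e.restrictScalars R ∘ x) P = e (MvPolynomial.aeval x P) :=
    fun e => (AlgHom.congr_fun (MvPolynomial.comp_aeval x (e.restrictScalars R)) P).symm
  have hx0 : (evAt 0 h0').restrictScalars R ∘ x = tup K g := funext fun p => congrFun (congrFun hmap0 p.1) p.2
  have hr1 : r = 1 := by
    have := hcomp (evAt 0 h0')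
    rw [hx0, ((hP.2 K g).1 hg).2, hr, AlgHom.commutes] at this
    exact this.symm
  have hxsol : ∀ s, MvPolynomial.aeval x (eqP c P s) = 0 :=
    (eqP_zero_iff c P L x).2 ⟨hGL, by rw [hr, hr1, map_one]⟩
  let ψ := (eqRingPts (eqP c P) L).symm ⟨x, hxsol⟩
  have hx1 : (evAt 1 h1').restrictScalars R ∘ x = tup K (g * (Reflect.refl _ v hv0 * Reflect.refl _ w hw0)) := by
    funext p
    refine Eq.trans (congrFun (congrFun (hmap 1 h1') p.1) p.2) ?_
    rw [h1, show (fun k => ew' k + 1 * (ev' k - ew' k)) = ev' by funext k; ring]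
    show _ = LinearMap.toMatrix (stdBasis K) (stdBasis K) _ p.1 p.2
    rw [toMatrix_mul_equiv, toMatrix_mul_equiv,
      toMatrix_refl, toMatrix_refl]
    rfl
  have hsol1 : ∀ s, MvPolynomial.aeval ((evAt 1 h1').restrictScalars R ∘ x) (eqP c P s) = 0 := fun s => by
    have := AlgHom.congr_fun (MvPolynomial.comp_aeval x ((evAt 1 h1').restrictScalars R)) (eqP c P s)
    rw [AlgHom.comp_apply, hxsol, map_zero] at this
    exact this.symm
  rw [hx1] at hsol1
  have hmem : g * (Reflect.refl _ v hv0 * Reflect.refl _ w hw0) ∈ QuadGrp.sorth Q K :=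
    (hP.2 K _).2 ((eqP_zero_iff c P K _).1 hsol1)
  refine ⟨hmem, ?_⟩
  have key : ∀ (t : K) ht (g' : ↥(QuadGrp.sorth Q K)), (evAt t ht).restrictScalars R ∘ x = tup K g'.1 →
      ((evAt t ht).restrictScalars R).comp ψ = (eqRingPts _ K).symm (soPts hP K g') := fun t ht g' h => by
    refine (Equiv.eq_symm_apply _).2 (Subtype.ext ?_)
    rw [eqRingPts_comp, Equiv.apply_symm_apply]
    exact h
  rw [← key 0 h0' ⟨g, hg⟩ hx0, ← key 1 h1' ⟨_, hmem⟩ hx1]
  exact rel_of_family ψ _ _

include hP hv in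
theorem rel_one_of_gen (hgen : ∀ g ∈ QuadGrp.sorth Q K, g ∈ Reflect.gen2 (QA Q K)) :
    ∃ x₀ : EqRing (eqP (stdCoeffs Q) P) →ₐ[R] K, ∀ x, Rel x₀ x := by
  have key : ∀ g ∈ Reflect.gen2 (QA Q K), ∃ h : g ∈ QuadGrp.sorth Q K,
      Rel ((eqRingPts _ K).symm (soPts hP K 1)) ((eqRingPts _ K).symm (soPts hP K ⟨g, h⟩)) := by
    intro g hg
    refine Submonoid.closure_induction_right
      (motive := fun g _ => ∃ h : g ∈ QuadGrp.sorth Q K,
        Rel ((eqRingPts _ K).symm (soPts hP K 1)) ((eqRingPts _ K).symm (soPts hP K ⟨g, h⟩)))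
      ⟨one_mem _, rel_refl _⟩ ?_ hg
    rintro g - _ ⟨v, w, hv0, hw0, rfl⟩ ⟨h, hrel⟩
    obtain ⟨h', hrel'⟩ := mul_pair_rel hP hv h v w hv0 hw0
    exact ⟨h', fun a ha => (hrel a ha).trans (hrel' a ha)⟩
  refine ⟨(eqRingPts _ K).symm (soPts hP K 1), fun x => ?_⟩
  obtain ⟨g, hg⟩ := (soPts hP K).surjective (eqRingPts _ K x)
  obtain ⟨h, hrel⟩ := key g.1 (hgen g.1 g.2)
  have : x = (eqRingPts _ K).symm (soPts hP K ⟨g.1, h⟩) := by rw [Equiv.eq_symm_apply, ← hg]
  rw [this]; exact hrel

theorem gen2_of_reflection [IsAlgClosed K] (hND : ∀ x, QA Q K x = 0 → x ≠ 0 → ∃ y, QuadraticMap.polar (QA Q K) x y ≠ 0)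
    (hO : ∀ g ∈ QuadGrp.sorth Q K, ∀ x, QA Q K (g x) = QA Q K x)
    (hgen2 : ∀ g ∈ Reflect.gen2 (QA Q K), g ∈ QuadGrp.sorth Q K)
    {v₀ : K ⊗[R] (Fin n → R)} (hv₀ : QA Q K v₀ ≠ 0)
    (hs : Reflect.refl (QA Q K) v₀ hv₀ ∉ QuadGrp.sorth Q K ∨ Reflect.refl (QA Q K) v₀ hv₀ = 1)
    {g : (K ⊗[R] (Fin n → R)) ≃ₗ[K] (K ⊗[R] (Fin n → R))} (hg : g ∈ QuadGrp.sorth Q K) :
    g ∈ Reflect.gen2 (QA Q K) := by
  haveI : FiniteDimensional K (K ⊗[R] (Fin n → R)) := Module.Finite.of_basis (stdBasis (R := R) K)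
  rcases Reflect.mem_gen2_or hv₀ (Reflect.mem_gen (QA Q K) hND g (hO g hg)) with h | h
  · exact h
  · rcases hs with hs | hs
    · exact absurd ((Subgroup.mul_mem_cancel_right _ hg).1 (hgen2 _ h)) hs
    · rwa [hs, one_mul] at h

end Generation

section Tangent

/-- Vanishing of the associated quadratic function. -/
def Alt {A : Type*} [CommRing A] (Z : Matrix (Fin n) (Fin n) A) : Prop :=
  (∀ i, Z i i = 0) ∧ ∀ i j, Z i j + Z j i = 0

theorem alt_iff_qf {A : Type*} [CommRing A] (Z : Matrix (Fin n) (Fin n) A) :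
    Alt Z ↔ ∀ x, qf Z x = 0 := by
  classical
  constructor
  · intro h x
    rw [qf_eq_of_diag Z 0 (fun i => by simp [h.1 i]) (fun i j => by simp [h.2 i j]) x]
    simp [qf]
  · intro h
    have hd : ∀ i, Z i i = 0 := fun i => by simpa [qf] using h (Pi.single i 1)
    refine ⟨hd, fun i j => ?_⟩
    have := h (Pi.single i 1 + Pi.single j 1)
    rw [qf_add, h, h, zero_add, zero_add] at this
    simpa [bl, Matrix.mulVec_single_one, single_dotProduct] using this

theorem alt_congr {A : Type*} [CommRing A] (Z K : Matrix (Fin n) (Fin n) A) (hK : IsUnit K.det) :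
    Alt (Kᵀ * Z * K) ↔ Alt Z := by
  rw [alt_iff_qf, alt_iff_qf]
  constructor
  · intro h x
    have := h (K⁻¹ *ᵥ x)
    rwa [← qf_mulVec, Matrix.mulVec_mulVec, Matrix.mul_nonsing_inv _ hK, Matrix.one_mulVec] at this
  · intro h x
    rw [← qf_mulVec]; exact h _

/-- The alternating matrix of values on pairs. -/
def altOf (A : Type u) [CommRing A] :
    ({z : Sym2 (Fin n) // ¬ z.IsDiag} → A) →ₗ[A] Matrix (Fin n) (Fin n) A where
  toFun p := Matrix.of fun i j => if h : i < j then p ⟨s(i, j), fun e => h.ne e⟩ else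
    if h' : j < i then -p ⟨s(j, i), fun e => h'.ne e⟩ else 0
  map_add' p q := by
    ext i j
    simp only [Matrix.of_apply, Pi.add_apply, Matrix.add_apply]
    split_ifs <;> simp [add_comm]
  map_smul' r p := by
    ext i j
    simp only [Matrix.of_apply, Pi.smul_apply, Matrix.smul_apply, RingHom.id_apply]
    split_ifs <;> simp

theorem alt_altOf {A : Type u} [CommRing A] (p : {z : Sym2 (Fin n) // ¬ z.IsDiag} → A) : Alt (altOf A p) := by
  refine ⟨fun i => by simp [altOf], fun i j => ?_⟩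
  rcases lt_trichotomy i j with h | rfl | h
  · simp [altOf, h, h.not_gt]
  · simp [altOf]
  · simp [altOf, h, h.not_gt]

theorem altOf_injective (A : Type u) [CommRing A] : Function.Injective (altOf (n := n) A) := by
  intro p q h
  funext ⟨z, hz⟩
  induction z using Sym2.ind with
  | _ i j =>
    rcases lt_or_gt_of_ne (fun e : i = j => hz e) with hij | hij
    · simpa [altOf, hij] using congrFun (congrFun h i) j
    · have e : (⟨s(i, j), hz⟩ : {z : Sym2 (Fin n) // ¬ z.IsDiag}) = ⟨s(j, i), fun e => hz e.symm⟩ :=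
        Subtype.ext Sym2.eq_swap
      rw [e]
      simpa [altOf, hij, hij.not_gt] using congrFun (congrFun h i) j

theorem exists_altOf {A : Type u} [CommRing A] {Z : Matrix (Fin n) (Fin n) A} (h : Alt Z) :
    ∃ p, altOf A p = Z := by
  refine ⟨fun z => Sym2.lift ⟨fun i j => if i ≤ j then Z i j else Z j i, fun i j => ?_⟩ z.1, ?_⟩
  · rcases lt_trichotomy i j with h' | rfl | h'
    · simp [h'.le, h'.not_ge]
    · simp
    · simp [h'.le, h'.not_ge]
  · ext i j
    rcases lt_trichotomy i j with h' | rfl | h'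
    · simp [altOf, h', h'.le]
    · simp [altOf, h.1 i]
    · simpa [altOf, h', h'.not_gt, h'.le] using (eq_neg_of_add_eq_zero_left (h.2 i j)).symm

theorem card_pairs : Fintype.card {z : Sym2 (Fin n) // ¬ z.IsDiag} = n.choose 2 := by
  rw [Sym2.card_subtype_not_diag, Fintype.card_fin]

/-- Infinitesimals. -/
def inE {K : Type*} [Zero K] : K → DualNumber K := TrivSqZeroExt.inr

@[simp] theorem fst_inE {K : Type*} [Zero K] (r : K) : TrivSqZeroExt.fst (inE r) = 0 := rfl

@[simp] theorem snd_inE {K : Type*} [Zero K] (r : K) : TrivSqZeroExt.snd (inE r) = r := rfl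

variable {K : Type u} [Field K] [Algebra R K] (c : Sym2 (Fin n) → R)

theorem toG_dual (x y : Fin n × Fin n → K) (hG : IsUnit (toG K x).det) :
    toG (DualNumber K) (dual x y) =
      (toG K x).map (TrivSqZeroExt.inlHom K K) * (1 + ((toG K x)⁻¹ * toG K y).map inE) := by
  classical
  refine Matrix.ext fun i j => ?_
  rw [Matrix.mul_add, Matrix.mul_one, Matrix.add_apply]
  refine TrivSqZeroExt.ext ?_ ?_
  · simp [toG, dual, Matrix.mul_apply, TrivSqZeroExt.fst_sum]
  · have := congrFun (congrFun (Matrix.mul_nonsing_inv_cancel_left (A := toG K x) (toG K y) hG) i) j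
    simp only [Matrix.mul_apply, Matrix.map_apply, toG, Matrix.of_apply, TrivSqZeroExt.snd_add, dual,
      TrivSqZeroExt.snd_inl, TrivSqZeroExt.snd_inr, snd_inE, zero_add, TrivSqZeroExt.snd_sum, TrivSqZeroExt.snd_mul] at this ⊢
    rw [← this]
    simp [Matrix.mul_apply]

theorem subst_dual_iff (x y : Fin n × Fin n → K) (hG : IsUnit (toG K x).det)
    (hx : subst (cA K c) (toG K x) = cA K c) :
    subst (cA (DualNumber K) c) (toG (DualNumber K) (dual x y)) = cA (DualNumber K) c ↔
      Alt (polarMatAt (cA K c) * ((toG K x)⁻¹ * toG K y)) := by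
  classical
  set η := (toG K x)⁻¹ * toG K y
  set cK := cA K c
  let il : K →+* DualNumber K := TrivSqZeroExt.inlHom K K
  have hcd : cA (DualNumber K) c = il ∘ cK := funext fun s => TrivSqZeroExt.algebraMap_eq_inl' R K K (c s)
  rw [toG_dual x y hG, ← subst_subst, hcd,
    show subst (il ∘ cK) ((toG K x).map (TrivSqZeroExt.inlHom K K)) = il ∘ cK by rw [← map_subst, hx]]
  let I : Ideal (DualNumber K) := RingHom.ker (TrivSqZeroExt.fstHom K K K).toRingHom
  have hI : ∀ a ∈ I, ∀ b ∈ I, a * b = 0 := fun a ha b hb => by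
    replace ha : TrivSqZeroExt.fst a = 0 := ha
    replace hb : TrivSqZeroExt.fst b = 0 := hb
    ext <;> simp [ha, hb]
  have hη : ∀ k l, η.map inE k l ∈ I := fun k l => by
    show TrivSqZeroExt.fst _ = 0
    simp
  have hPη : ∀ i j, (polarMatAt (il ∘ cK) * η.map inE) i j =
      TrivSqZeroExt.inr ((polarMatAt cK * η) i j) := fun i j => by
    rw [← polarMatAt_map]
    ext
    · simp [Matrix.mul_apply, TrivSqZeroExt.fst_sum, il]
    · simp [Matrix.mul_apply, TrivSqZeroExt.snd_sum, il]
  have hsub : ∀ i j, subst (il ∘ cK) (1 + η.map inE) (Sym2.mk i j) = (il ∘ cK) (Sym2.mk i j) +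
      TrivSqZeroExt.inr (if i = j then (polarMatAt cK * η) i i
        else (polarMatAt cK * η) i j + (polarMatAt cK * η) j i) := fun i j => by
    have h := subst_one_add I hI (il ∘ cK) 0 (fun _ => I.zero_mem) (η.map inE) hη i j
    rw [add_zero] at h
    rw [h, hPη, hPη, hPη]
    split_ifs <;> simp [add_smul]
  constructor
  · intro h
    have h' : ∀ i j, (if i = j then (polarMatAt cK * η) i i
        else (polarMatAt cK * η) i j + (polarMatAt cK * η) j i) = 0 := fun i j => by
      have h2 := (hsub i j).symm.trans (congrFun h _)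
      rw [add_eq_left] at h2
      exact TrivSqZeroExt.inr_injective (h2.trans (TrivSqZeroExt.inr_zero K).symm)
    refine ⟨fun i => by simpa using h' i i, fun i j => ?_⟩
    rcases eq_or_ne i j with rfl | hij
    · have := h' i i
      rw [if_pos rfl] at this
      rw [this, add_zero]
    · simpa [hij] using h' i j
  · intro h
    funext s
    induction s using Sym2.ind with
    | _ i j =>
      rw [hsub]
      rcases eq_or_ne i j with rfl | hij
      · simp [h.1 i]
      · simp [hij, h.2 i j]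

theorem aeval_det_dual (x y : Fin n × Fin n → K) (hG : IsUnit (toG K x).det) (hd : (toG K x).det = 1) :
    MvPolynomial.aeval (dual x y) (univG (R := R) (n := n)).det = 1 ↔ ((toG K x)⁻¹ * toG K y).trace = 0 := by
  classical
  set η := (toG K x)⁻¹ * toG K y
  have h1 : MvPolynomial.aeval (dual x y) (univG (R := R) (n := n)).det = (toG (DualNumber K) (dual x y)).det := by
    show (MvPolynomial.aeval (dual x y)).toRingHom _ = _
    rw [RingHom.map_det, RingHom.mapMatrix_apply, map_univG]
  have h2 : η.map inE =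
      (TrivSqZeroExt.inr (1 : K) : DualNumber K) • η.map (TrivSqZeroExt.inlHom K K) := by
    ext i j <;> simp
  have hε : (TrivSqZeroExt.inr (1 : K) : DualNumber K) ^ 2 = 0 := by rw [sq, TrivSqZeroExt.inr_mul_inr]
  rw [h1, toG_dual x y hG, Matrix.det_mul, ← RingHom.mapMatrix_apply, ← RingHom.map_det, hd, map_one, one_mul, h2,
    Matrix.det_one_add_smul, hε, mul_zero, add_zero, add_eq_left]
  constructor
  · intro h
    have := congrArg TrivSqZeroExt.snd h
    simpa [Matrix.trace, TrivSqZeroExt.snd_sum, TrivSqZeroExt.fst_sum] using this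
  · intro h
    ext <;> simp [Matrix.trace, TrivSqZeroExt.snd_sum, TrivSqZeroExt.fst_sum]
    simpa [Matrix.trace] using h

end Tangent

end QSplit86
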